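import Cfsg.Prelude.Def_LocalEven
import Cfsg.Agent.ConjFunctor.Sections
import Cfsg.Agent.LocalEven.Involves
import Cfsg.Agent.OutPOmega.Octa
import Cfsg.Agent.DicksonPSL2.Orders
import Cfsg.Agent.Linear.PglDet
import Cfsg.Agent.Linear.Perfect
import Cfsg.Agent.Linear.Basic
import Cfsg.Agent.SuzukiSub.Classification
import Cfsg.Agent.SuzukiSub.Subfield
import Cfsg.Agent.SuzukiSub.Fld
import Cfsg.Agent.Suzuki.LieModel
import Cfsg.Agent.Suzuki.Simple

/-!
Groups free of `S₃` all of whose nonabelian simple sections are Suzuki groups or `PSL₂(3^odd)`: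
the class is closed under sections and contains every `S₃`-free group whose nonabelian composition
factors are of these types.
-/

set_option autoImplicit false

universe u

namespace CfsgLib.LocalEven.OffenderBound

open Cfsg Subgroup CfsgLib.ConjFunctor
open scoped MatrixGroups

/-- Free of `S₃`, and every nonabelian simple section is `Sz(2^odd)` or `PSL₂(3^odd)`. -/
structure GoodX (X : Type u) [Group X] : Prop where
  s3 : ¬ Involves (Equiv.Perm (Fin 3)) X
  sec : ∀ (Q : Type u) [Group Q], Involves Q X → IsSimpleGroup Q → ¬ IsMulCommutative Q →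
    IsSuzukiOrPSL2OddPowerThree Q

theorem GoodX.of_involves {X Y : Type u} [Group X] [Group Y] (h : GoodX X) (hY : Involves Y X) :
    GoodX Y :=
  ⟨fun h' => h.s3 (involves_trans hY h'), fun Q _ hQ => h.sec Q (involves_trans hY hQ)⟩

theorem GoodX.subgroup {X : Type u} [Group X] (h : GoodX X) (H : Subgroup X) : GoodX ↥H :=
  h.of_involves (involves_subgroup H)

theorem GoodX.of_surjective {X Y : Type u} [Group X] [Group Y] (h : GoodX X) (f : X →* Y)
    (hf : Function.Surjective f) : GoodX Y :=
  h.of_involves (ConjFunctor.involves_of_surjective f hf)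

/-- No element of order `3` is inverted by an involution. -/
theorem GoodX.not_inverted_three {X : Type u} [Group X] [Finite X] (h : GoodX X) {x g : X} (hg : orderOf g = 3)
    (hx : ∃ k, orderOf x = 2 ^ k) (hinv : x * g * x⁻¹ = g⁻¹) : False := by
  obtain ⟨e⟩ := CfsgLib.OutPOmega.perm_three_equiv
  exact h.s3 (involves_trans (involves_dihedral_of_inverted (p := 3) (by norm_num) hg hx hinv)
    (ConjFunctor.involves_equiv e))

theorem family_congr {Q R : Type u} [Group Q] [Group R] (e : Q ≃* R)
    (h : IsSuzukiOrPSL2OddPowerThree Q) : IsSuzukiOrPSL2OddPowerThree R := by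
  rcases h with ⟨F, iF, iF', m, hm, hc, ⟨f⟩⟩ | ⟨F, iF, iF', n, hc, ⟨f⟩⟩
  · exact Or.inl ⟨F, iF, iF', m, hm, hc, ⟨e.symm.trans f⟩⟩
  · exact Or.inr ⟨F, iF, iF', n, hc, ⟨e.symm.trans f⟩⟩

theorem quot_isMulCommutative {G Q : Type*} [Group G] [Group Q] (f : G →* Q)
    (hf : Function.Surjective f) (h : IsMulCommutative G) : IsMulCommutative Q :=
  ⟨⟨fun a b => by
    obtain ⟨a, rfl⟩ := hf a
    obtain ⟨b, rfl⟩ := hf b
    rw [← map_mul, ← map_mul, h.is_comm.comm a b]⟩⟩

theorem not_isSolvable_of_simple_image {G Q : Type*} [Group G] [Group Q] [IsSimpleGroup Q]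
    (hQ : ¬ IsMulCommutative Q) (f : G →* Q) (hf : Function.Surjective f) :
    ¬ Group.IsSolvable G := fun _ => by
  have := Group.isSolvable_of_surjective hf
  exact hQ (⟨⟨IsSimpleGroup.comm_iff_isSolvable.2 this⟩⟩)

/-- A surjection from a simple group onto a nontrivial group is an isomorphism. -/
theorem injective_of_simple {G Q : Type*} [Group G] [Group Q] [IsSimpleGroup G]
    (hQ : ¬ IsMulCommutative Q) (f : G →* Q) (hf : Function.Surjective f) :
    Function.Injective f := by
  rw [← MonoidHom.ker_eq_bot_iff]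
  refine (IsSimpleGroup.eq_bot_or_eq_top_of_normal _ f.normal_ker).resolve_right fun h => hQ
    ⟨⟨fun a b => ?_⟩⟩
  obtain ⟨a, rfl⟩ := hf a
  obtain ⟨b, rfl⟩ := hf b
  rw [MonoidHom.mem_ker.1 (h ▸ mem_top a), MonoidHom.mem_ker.1 (h ▸ mem_top b)]

theorem perm_three_involved_alt_five :
    Involves (Equiv.Perm (Fin 3)) ↥(alternatingGroup (Fin 5)) := by
  obtain ⟨e⟩ := CfsgLib.OutPOmega.perm_three_equiv
  let y : alternatingGroup (Fin 5) :=
    ⟨Equiv.swap 0 1 * Equiv.swap 1 2, by simp [Equiv.Perm.mem_alternatingGroup]⟩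
  let z : alternatingGroup (Fin 5) :=
    ⟨Equiv.swap 1 2 * Equiv.swap 3 4, by simp [Equiv.Perm.mem_alternatingGroup]⟩
  have : Fact (Nat.Prime 3) := ⟨Nat.prime_three⟩
  have : Fact (Nat.Prime 2) := ⟨Nat.prime_two⟩
  have hy : orderOf y = 3 := orderOf_eq_prime (by ext1; simp [y]; decide)
    (by rw [Ne, Subtype.ext_iff]; simp [y]; decide)
  have hz : orderOf z = 2 := orderOf_eq_prime (by ext1; simp [z]; decide)
    (by rw [Ne, Subtype.ext_iff]; simp [z]; decide)
  exact involves_trans (involves_dihedral_of_inverted (p := 3) (by norm_num) hy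
    ⟨1, by rw [hz]; norm_num⟩ (by ext1; simp [y, z]; decide)) (ConjFunctor.involves_equiv e)

/-- Simple nonabelian images of `PSL₂(3^odd)`. -/
theorem family_of_psl_image {K : Type} [Field K] [Fintype K] {d : ℕ} (hK : Fintype.card K = 3 ^ d)
    (hd : Odd d) {Q : Type u} [Group Q] [IsSimpleGroup Q] (hQ : ¬ IsMulCommutative Q)
    (f : PSL(2, K) →* Q) (hf : Function.Surjective f) : IsSuzukiOrPSL2OddPowerThree Q := by
  by_cases h4 : 4 ≤ Fintype.card K
  · have := CfsgLib.Linear.isSimpleGroup_PSL_of (F := K) 2 le_rfl fun _ => h4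
    obtain ⟨k, hk⟩ := hd
    exact Or.inr ⟨K, inferInstance, inferInstance, k, by rw [hK, hk],
      ⟨(MulEquiv.ofBijective f ⟨injective_of_simple hQ f hf, hf⟩).symm⟩⟩
  · refine absurd ?_ (not_isSolvable_of_simple_image hQ f hf)
    have h3 : Fintype.card K = 3 := by
      obtain ⟨k, rfl⟩ := hd
      rw [hK] at h4 ⊢
      rcases k with - | k
      · rfl
      · exfalso; apply h4
        exact le_trans (by norm_num) (Nat.pow_le_pow_right (by norm_num) (show 2 ≤ 2 * (k + 1) + 1 by omega))
    have h12 : Nat.card (⊤ : Subgroup PSL(2, K)) = 12 := by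
      have := CfsgLib.Linear.card_PSL_two_odd (F := K) (by rw [h3]; decide)
      rw [h3] at this
      rw [Subgroup.card_top]
      omega
    have := CfsgLib.DicksonPSL2.isSolvable_of_card_twelve (Or.inl h12)
    exact Group.isSolvable_of_surjective
      (f := (⊤ : Subgroup PSL(2, K)).subtype) fun x => ⟨⟨x, mem_top x⟩, rfl⟩

/-- Simple nonabelian sections of a proper subgroup of `PSL₂(3^odd)`. -/
theorem family_of_psl {F : Type} [Field F] [Fintype F] {n : ℕ}
    (hF : Fintype.card F = 3 ^ (2 * n + 1)) (hfree : ¬ Involves (Equiv.Perm (Fin 3)) PSL(2, F))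
    (M : Subgroup PSL(2, F)) {Q : Type u} [Group Q] [IsSimpleGroup Q] (hQ : ¬ IsMulCommutative Q)
    (f : ↥M →* Q) (hf : Function.Surjective f) : IsSuzukiOrPSL2OddPowerThree Q := by
  have : Fact (Nat.Prime 3) := ⟨Nat.prime_three⟩
  have : CharP F 3 := charP_of_card_eq_prime_pow hF
  have hns := not_isSolvable_of_simple_image hQ f hf
  rcases DicksonPSL2.subgroup_cases 3 M with h | h | ⟨h, -, -⟩ | ⟨h, -, -⟩ | ⟨-, -, ⟨e⟩⟩ | h
  · exact absurd h.isSolvable hns
  · exact absurd h.isSolvable hns
  · exact absurd (DicksonPSL2.isSolvable_of_card_twelve (Or.inl h)) hns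
  · exact absurd (DicksonPSL2.isSolvable_of_card_twelve (Or.inr h)) hns
  · exact absurd (involves_trans (involves_trans (involves_subgroup M)
      (ConjFunctor.involves_equiv e)) perm_three_involved_alt_five) hfree
  obtain ⟨K, iK, iK', m, hm, h⟩ := h.data
  obtain ⟨d, hdd, hd⟩ : ∃ d, d ∣ 2 * n + 1 ∧ Fintype.card K = 3 ^ d := by
    obtain ⟨p, -, c, hp, hc⟩ := FiniteField.card' K
    have h1 : p ^ ((c : ℕ) * m) = 3 ^ (2 * n + 1) := by rw [pow_mul, ← hc, hm, hF]
    have hm0 : m ≠ 0 := by
      rintro rfl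
      rw [pow_zero, hF] at hm
      exact absurd hm.symm (Nat.one_lt_pow (by omega) (by norm_num)).ne'
    obtain ⟨rfl, h2⟩ := Nat.Prime.pow_inj' hp Nat.prime_three
      (mul_ne_zero c.2.ne' hm0) (by omega) h1
    exact ⟨c, Dvd.intro m h2, hc⟩
  have hdodd : Odd d := Odd.of_dvd_nat ⟨n, by ring⟩ hdd
  rcases h with ⟨⟨e⟩⟩ | ⟨⟨e⟩⟩
  · exact family_of_psl_image hd hdodd hQ (f.comp e.symm.toMonoidHom) (hf.comp e.symm.surjective)
  · let φ := (f.comp e.symm.toMonoidHom)
    have hφ : Function.Surjective φ := hf.comp e.symm.surjective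
    refine family_of_psl_image hd hdodd hQ
      (φ.comp Matrix.ProjectiveSpecialLinearGroup.toPGL) (MonoidHom.range_eq_top.1 ?_)
    rw [MonoidHom.range_comp]
    have hn : ((Matrix.ProjectiveSpecialLinearGroup.toPGL :
        PSL(2, K) →* PGL(2, K)).range).Normal := by
      rw [← CfsgLib.Linear.ker_pglDet]; infer_instance
    refine (IsSimpleGroup.eq_bot_or_eq_top_of_normal _ (hn.map φ hφ)).resolve_left fun h => hQ ?_
    rw [Subgroup.map_eq_bot_iff, ← CfsgLib.Linear.ker_pglDet] at h
    refine ⟨⟨fun a b => ?_⟩⟩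
    obtain ⟨a, rfl⟩ := hφ a
    obtain ⟨b, rfl⟩ := hφ b
    have h1 : a * b * (b * a)⁻¹ ∈ φ.ker := h (by
      rw [MonoidHom.mem_ker, map_mul, map_inv, map_mul, map_mul, mul_comm (CfsgLib.Linear.pglDet b),
        mul_inv_cancel])
    rwa [MonoidHom.mem_ker, map_mul, map_inv, mul_inv_eq_one, map_mul, map_mul] at h1

/-- Simple nonabelian sections of a subgroup of a Suzuki group. -/
theorem family_of_sz {F : Type} [Field F] [Fintype F] {m : ℕ} (hS : Suzuki.SzField F m)
    (M : Subgroup ↥(Cfsg.Sz F m)) {Q : Type u} [Group Q] [IsSimpleGroup Q]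
    (hQ : ¬ IsMulCommutative Q) (f : ↥M →* Q) (hf : Function.Surjective f) :
    IsSuzukiOrPSL2OddPowerThree Q := by
  classical
  have : Fact (Nat.Prime 2) := ⟨Nat.prime_two⟩
  have hns := not_isSolvable_of_simple_image hQ f hf
  obtain ⟨A, hA⟩ := SuzukiLocal.exists_tori hS
  rcases SuzukiSub.subgroup_cases hA M with ⟨p, hp⟩ | ⟨x, hx⟩ | ⟨k, g, hk, hdiv, e⟩
  · have := SuzukiLocal.isSolvable_stabilizer hS p
    exact absurd (Group.isSolvable_of_isSolvable_injective (Subgroup.inclusion_injective hp)) hns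
  · have hle := hx.trans (SuzukiSub.stab_eq_normalizer hA x).le
    have : Group.IsSolvable ↥(Subgroup.normalizer (SuzukiSub.torOf x : Set ↥(Cfsg.Sz F m))) :=
      ((hA.good x.1).map_conj x.2.out).isSolvable_normalizer
    exact absurd (Group.isSolvable_of_isSolvable_injective (Subgroup.inclusion_injective hle)) hns
  · let := Fintype.ofFinite (GaloisField 2 (2 * k + 1))
    have hK : Suzuki.SzField (GaloisField 2 (2 * k + 1)) k :=
      ⟨hk, by rw [← Nat.card_eq_fintype_card]; exact GaloisField.card 2 _ (by omega)⟩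
    obtain ⟨ι⟩ := SuzukiSub.exists_ringHom hS hK hdiv
    let e' : ↥(Cfsg.Sz (GaloisField 2 (2 * k + 1)) k) ≃* ↥M :=
      ((M.equivMapOfInjective (MulAut.conj g).toMonoidHom (MulAut.conj g).injective).trans
        ((MulEquiv.subgroupCongr (e.trans (SuzukiSub.range_szHom hS hK ι).symm)).trans
          (MonoidHom.ofInjective (SuzukiSub.szHom_injective hS hK ι)).symm)).symm
    have := Suzuki.isSimpleGroup_sz hK
    have hi := injective_of_simple hQ (f.comp e'.toMonoidHom) (hf.comp e'.surjective)
    exact Or.inl ⟨GaloisField 2 (2 * k + 1), inferInstance, inferInstance, k, hk, hK.card_eq,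
      ⟨(MulEquiv.ofBijective (f.comp e'.toMonoidHom) ⟨hi, hf.comp e'.surjective⟩).symm.trans
        (Suzuki.lieSzEquiv hK)⟩⟩

/-- An `S₃`-free group with nonabelian composition factors in the family is `GoodX`. -/
theorem goodX_of_composition {X : Type u} [Group X] [Finite X]
    (hfree : ¬ Involves (Equiv.Perm (Fin 3)) X)
    (hc : IsCompositionKGroupWith IsSuzukiOrPSL2OddPowerThree X) : GoodX X := by
  suffices H : ∀ (n : ℕ) (X : Type u) [Group X] [Finite X], Nat.card X = n →
      ¬ Involves (Equiv.Perm (Fin 3)) X → IsCompositionKGroupWith IsSuzukiOrPSL2OddPowerThree X →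
      ∀ (Q : Type u) [Group Q] (L : Subgroup X) (f : ↥L →* Q), Function.Surjective f →
        IsSimpleGroup Q → ¬ IsMulCommutative Q → IsSuzukiOrPSL2OddPowerThree Q from
    ⟨hfree, fun Q _ hQ => by
      obtain ⟨L, f, hf⟩ := exists_hom_of_involves hQ
      exact H _ X rfl hfree hc Q L f hf⟩
  intro n
  induction n using Nat.strongRecOn with
  | ind n ih =>
  intro X _ _ hn hfree hc Q _ L f hf hQs hQ
  by_cases hsimp : IsSimpleGroup X
  · have hXna : ¬ IsMulCommutative X := fun h => hQ (quot_isMulCommutative f hf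
      ⟨⟨fun a b => Subtype.ext (h.is_comm.comm (a : X) b)⟩⟩)
    let π : X ≃* (↥(⊤ : Subgroup X) ⧸ (⊥ : Subgroup ↥(⊤ : Subgroup X))) :=
      (topEquiv (G := X)).symm.trans QuotientGroup.quotientBot.symm
    have hfam : IsSuzukiOrPSL2OddPowerThree X := family_congr π.symm <| hc ⊤
      IsSubnormal.top ⊥ (π.isSimpleGroup_congr.1 hsimp)
      fun h => hXna (quot_isMulCommutative π.symm.toMonoidHom π.symm.surjective h)
    rcases hfam with ⟨F, iF, iF', m, hm, hcard, ⟨e⟩⟩ | ⟨F, iF, iF', k, hcard, ⟨e⟩⟩
    · have hS : Suzuki.SzField F m := ⟨hm, hcard⟩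
      let e' := e.trans (Suzuki.lieSzEquiv hS).symm
      let d := L.equivMapOfInjective e'.toMonoidHom e'.injective
      exact family_of_sz hS _ hQ (f.comp d.symm.toMonoidHom) (hf.comp d.symm.surjective)
    · let d := L.equivMapOfInjective e.toMonoidHom e.injective
      exact family_of_psl hcard (fun h => hfree (involves_trans (ConjFunctor.involves_equiv e) h)) _
        hQ (f.comp d.symm.toMonoidHom) (hf.comp d.symm.surjective)
  · have : Nontrivial X := by
      by_contra h
      rw [not_nontrivial_iff_subsingleton] at h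
      exact hQ (quot_isMulCommutative f hf ⟨⟨fun a b => Subsingleton.elim _ _⟩⟩)
    obtain ⟨N, hN, hNb, hNt⟩ : ∃ N : Subgroup X, N.Normal ∧ N ≠ ⊥ ∧ N ≠ ⊤ := by
      by_contra h
      push Not at h
      exact hsimp ⟨fun N hN => or_iff_not_imp_left.2 (h N hN)⟩
    rcases IsSimpleGroup.eq_bot_or_eq_top_of_normal _
      ((inferInstance : (N.subgroupOf L).Normal).map f hf) with h | h
    · -- a section of the quotient
      rw [Subgroup.map_eq_bot_iff] at h
      let π := (QuotientGroup.mk' N).subgroupMap L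
      have hπ := (QuotientGroup.mk' N).subgroupMap_surjective L
      have hker : π.ker ≤ f.ker := fun x hx => h (by
        rw [MonoidHom.mem_ker, Subtype.ext_iff] at hx
        exact (QuotientGroup.eq_one_iff (x : X)).1 hx)
      let g : ↥(L.map (QuotientGroup.mk' N)) →* Q := π.liftOfSurjective hπ ⟨f, hker⟩
      have hg : g.comp π = f := MonoidHom.ext fun x =>
        MonoidHom.liftOfRightInverse_comp_apply π _ (Function.rightInverse_surjInv hπ) ⟨f, hker⟩ x
      have hlt : Nat.card (X ⧸ N) < n := by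
        rw [← hn, N.card_eq_card_quotient_mul_card_subgroup]
        exact lt_mul_of_one_lt_right Nat.card_pos ((Subgroup.one_lt_card_iff_ne_bot N).2 hNb)
      refine ih _ hlt (X ⧸ N) rfl (fun h => hfree (involves_trans (involves_quotient N) h))
        ?_ Q _ g (fun q => ?_) hQs hQ
      · intro H hH M hM hs ha
        let H' := H.comap (QuotientGroup.mk' N)
        let φ : ↥H' →* ↥H ⧸ M :=
          (QuotientGroup.mk' M).comp ((QuotientGroup.mk' N).subgroupComap H)
        have hφ : Function.Surjective φ := (QuotientGroup.mk'_surjective M).comp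
          (MonoidHom.subgroupComap_surjective_of_surjective _ _ (QuotientGroup.mk'_surjective N))
        let ε := QuotientGroup.quotientKerEquivOfSurjective φ hφ
        exact family_congr ε (hc H' (IsSubnormal.comap (QuotientGroup.mk' N) hH) φ.ker
          (ε.isSimpleGroup_congr.2 hs)
          fun hab => ha (quot_isMulCommutative ε.toMonoidHom ε.surjective hab))
      · obtain ⟨l, rfl⟩ := hf q
        exact ⟨π l, by rw [← hg]; rfl⟩
    · -- a section of the normal subgroup
      have hlt : Nat.card N < n := hn ▸ lt_of_le_of_ne (Subgroup.card_le_card_group N)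
        fun he => hNt (Subgroup.eq_top_of_card_eq N he)
      let g : ↥(L.subgroupOf N) →* Q := f.comp
        { toFun := fun x => (⟨((x : N) : X), x.2⟩ : L)
          map_one' := rfl
          map_mul' := fun _ _ => rfl }
      refine ih _ hlt N rfl (fun h => hfree (involves_trans (involves_subgroup N) h)) ?_ Q _ g
        (fun q => ?_) hQs hQ
      · intro H hH M hM hs ha
        have hsn : (H.map N.subtype).IsSubnormal := hH.trans' ((‹N.Normal›).isSubnormal)
        let d := H.equivMapOfInjective N.subtype N.subtype_injective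
        let φ : ↥(H.map N.subtype) →* ↥H ⧸ M := (QuotientGroup.mk' M).comp d.symm.toMonoidHom
        have hφ : Function.Surjective φ :=
          (QuotientGroup.mk'_surjective M).comp d.symm.surjective
        let ε := QuotientGroup.quotientKerEquivOfSurjective φ hφ
        exact family_congr ε (hc _ hsn φ.ker (ε.isSimpleGroup_congr.2 hs)
          fun hab => ha (quot_isMulCommutative ε.toMonoidHom ε.surjective hab))
      · obtain ⟨l, hl, rfl⟩ := h.ge (mem_top q)
        exact ⟨⟨⟨(l : X), hl⟩, l.2⟩, rfl⟩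

end CfsgLib.LocalEven.OffenderBound
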