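import Cfsg.Agent.LocalEven.OffenderBound.Config
import Cfsg.Agent.NoOffender.Step

/-!
The bound `|A|² |C_V(A)| ≤ |V|` along an invariant series: for a group acting on an elementary
abelian `2`-group the elements of `A` lost are in a normal subgroup whose elements of odd order
act trivially.
-/

set_option autoImplicit false

universe u

namespace CfsgLib.LocalEven.OffenderBound

open Cfsg Subgroup
open CfsgLib.NoOffender (fixV mem_fixV fixV_anti quotHom quotHom_mk stabS
  smul_mem_iff_of_mem_stabS inv_iff_le_stabS)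

/-- The offender bound for faithful reduced actions of groups of order less than `n`. -/
def BoundBelow (n : ℕ) : Prop :=
  ∀ (X : Type u) (V : Type u) [Group X] [AddCommGroup V] [DistribMulAction X V] [FaithfulSMul X V]
    [Finite X] [Finite V], Nat.card X < n → (∀ v : V, v + v = 0) → GoodX X → pCore 2 X = ⊥ →
    ∀ A : Subgroup X, IsElementaryAbelian 2 A →
      Nat.card A ^ 2 * Nat.card (fixV A : AddSubgroup V) ≤ Nat.card V

variable {X V : Type*} [Group X] [AddCommGroup V] [DistribMulAction X V]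

/-- An element of odd order which moves `v` by a fixed vector fixes `v`. -/
theorem smul_eq_of_odd {c : X} (hc : Odd (orderOf c)) (hV : ∀ v : V, v + v = 0) {v w : V}
    (hv : c • v = v + w) (hw : c • w = w) : w = 0 := by
  have h1 : ∀ k : ℕ, c ^ k • v = v + k • w := by
    intro k
    induction k with
    | zero => simp
    | succ k ih =>
      rw [pow_succ', mul_smul, ih, smul_add, hv, smul_comm c k w, hw, succ_nsmul', add_assoc]
  have h2 := h1 (orderOf c)
  obtain ⟨j, hj⟩ := hc
  rw [pow_orderOf_eq_one, one_smul, hj, add_nsmul, mul_nsmul, two_nsmul, hV, one_nsmul, nsmul_zero,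
    zero_add] at h2
  exact add_left_cancel (a := v) (by rw [← h2, add_zero])

/-- An element of odd order centralising a `2`-group `B` and its fixed vectors acts trivially. -/
theorem smul_eq_of_commute_fix [Finite V] {B : Subgroup X} (hB : IsPGroup 2 B) {c : X}
    (hc : Odd (orderOf c)) (hV : ∀ v : V, v + v = 0) (hcomm : ∀ b ∈ B, Commute c b)
    (hfix : ∀ v ∈ (fixV B : AddSubgroup V), c • v = v) (v : V) : c • v = v := by
  classical
  have : Fact (Nat.Prime 2) := ⟨Nat.prime_two⟩
  set D : AddSubgroup V := (DistribSMul.toAddMonoidHom V c - AddMonoidHom.id V).range with hD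
  have hinv : ∀ b : B, ∀ d ∈ D, (b : X) • d ∈ D := by
    rintro b _ ⟨y, rfl⟩
    refine ⟨(b : X) • y, ?_⟩
    simp only [AddMonoidHom.sub_apply, DistribSMul.toAddMonoidHom_apply, AddMonoidHom.id_apply,
      smul_sub, ← mul_smul, (hcomm b b.2).eq]
  by_cases hd : ∀ d ∈ D, d = 0
  · exact sub_eq_zero.1 (hd _ ⟨v, rfl⟩)
  push Not at hd
  obtain ⟨d, hd, hd0⟩ := hd
  let inst : MulAction B D :=
    { smul := fun b d => ⟨(b : X) • (d : V), hinv b d d.2⟩
      one_smul := fun d => Subtype.ext (one_smul X (d : V))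
      mul_smul := fun b b' d => Subtype.ext (mul_smul (b : X) b' (d : V)) }
  obtain ⟨e, he, he0⟩ := hB.exists_fixed_point_of_prime_dvd_card_of_fixed_point D (by
    have h2 : addOrderOf (⟨d, hd⟩ : D) = 2 := addOrderOf_eq_prime
      (Subtype.ext (by rw [two_nsmul]; exact hV d)) fun e => hd0 (congrArg Subtype.val e)
    rw [← h2]
    exact addOrderOf_dvd_natCard _) (show (0 : D) ∈ MulAction.fixedPoints B D from
      fun b => Subtype.ext (smul_zero (b : X)))
  refine absurd ?_ he0
  obtain ⟨y, hy⟩ := e.2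
  have hce : c • (e : V) = e := hfix _ fun b hb => congrArg Subtype.val (he ⟨b, hb⟩)
  have := smul_eq_of_odd hc hV (v := y) (w := (e : V)) (by
    rw [← hy]; simp) hce
  exact (Subtype.ext this : e = 0).symm

/-- **The bound along a series.** -/
theorem exists_series_kernel {n : ℕ} (hn : BoundBelow.{u} n) {H U : Type u} [Group H]
    [AddCommGroup U] [DistribMulAction H U] [Finite H] [Finite U] (hH : Nat.card H < n)
    (hU : ∀ v : U, v + v = 0) (hG : GoodX H) :
    ∃ C : Subgroup H, C.Normal ∧ (∀ c ∈ C, Odd (orderOf c) → ∀ v : U, c • v = v) ∧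
      ∀ A : Subgroup H, IsElementaryAbelian 2 A →
        Nat.card A ^ 2 * Nat.card (fixV A : AddSubgroup U) ≤
          Nat.card U * Nat.card ↥(A ⊓ C) ^ 2 := by
  classical
  suffices key : ∀ (m : ℕ) (U : Type u) [AddCommGroup U] [DistribMulAction H U] [Finite U],
      Nat.card U = m → (∀ v : U, v + v = 0) →
      ∃ C : Subgroup H, C.Normal ∧ (∀ c ∈ C, Odd (orderOf c) → ∀ v : U, c • v = v) ∧
      ∀ A : Subgroup H, IsElementaryAbelian 2 A →
        Nat.card A ^ 2 * Nat.card (fixV A : AddSubgroup U) ≤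
          Nat.card U * Nat.card ↥(A ⊓ C) ^ 2 from key _ U rfl hU
  intro m
  induction m using Nat.strongRecOn with
  | ind m ih =>
  intro U _ _ _ hm hU
  by_cases hred : ∃ U1 : AddSubgroup U, stabS (X := H) U1 = ⊤ ∧ U1 ≠ ⊥ ∧ U1 ≠ ⊤
  · obtain ⟨U1, hst, hne, hne'⟩ := hred
    let ρ : H →* AddMonoid.End U1 :=
      { toFun := fun x => ((DistribSMul.toAddMonoidHom U x).comp U1.subtype).codRestrict U1 fun v =>
          (smul_mem_iff_of_mem_stabS (hst ▸ mem_top x)).2 v.2
        map_one' := AddMonoidHom.ext fun v => Subtype.ext (one_smul H (v : U))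
        map_mul' := fun x y => AddMonoidHom.ext fun v => Subtype.ext (mul_smul x y (v : U)) }
    letI i1 : DistribMulAction H U1 := DistribMulAction.compHom U1 ρ
    letI i2 : DistribMulAction H (U ⧸ U1) := DistribMulAction.compHom (U ⧸ U1) (quotHom U1 hst)
    have h1mk : ∀ (x : H) (v : U1), ((x • v : U1) : U) = x • (v : U) := fun x v => rfl
    have h2mk : ∀ (x : H) (v : U), x • (QuotientAddGroup.mk v : U ⧸ U1) =
        QuotientAddGroup.mk (x • v) := fun x v => rfl
    have hcard : Nat.card U = Nat.card (U ⧸ U1) * Nat.card U1 :=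
      U1.card_eq_card_quotient_mul_card_addSubgroup
    have hlt1 : Nat.card U1 < m := hm ▸ lt_of_le_of_ne (AddSubgroup.card_le_card_addGroup U1)
      fun e => hne' (AddSubgroup.eq_top_of_card_eq U1 e)
    have hlt2 : Nat.card (U ⧸ U1) < m := by
      rw [← hm, hcard]
      exact lt_mul_of_one_lt_right Nat.card_pos (U1.one_lt_card_iff_ne_bot.2 hne)
    obtain ⟨C1, hC1n, hC1, hA1⟩ := ih _ hlt1 U1 rfl fun v => Subtype.ext (hU v)
    obtain ⟨C2, hC2n, hC2, hA2⟩ := ih _ hlt2 (U ⧸ U1) rfl fun z => by
      obtain ⟨v, rfl⟩ := QuotientAddGroup.mk_surjective z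
      rw [← QuotientAddGroup.mk_add, hU]; rfl
    refine ⟨C2 ⊓ C1, inferInstance, fun c hc hodd v => ?_, fun A hA => ?_⟩
    · have h2 := hC2 c hc.1 hodd (QuotientAddGroup.mk v)
      rw [h2mk, QuotientAddGroup.eq_iff_sub_mem] at h2
      have h3 := congrArg Subtype.val (hC1 c hc.2 hodd ⟨_, h2⟩)
      rw [h1mk] at h3
      exact sub_eq_zero.1 (smul_eq_of_odd hodd hU (v := v) (by abel) h3)
    · set A' := A ⊓ C2 with hA'
      have hA'e : IsElementaryAbelian 2 A' :=
        ⟨⟨⟨fun a b => Subtype.ext (by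
          have h := congrArg Subtype.val (hA.1.is_comm.comm (⟨a, a.2.1⟩ : A) ⟨b, b.2.1⟩)
          simpa using h)⟩⟩, fun a ha => hA.2 a ha.1⟩
      have q := hA2 A hA
      have s := hA1 A' hA'e
      have hsplit : Nat.card (fixV A : AddSubgroup U) ≤
          Nat.card (fixV A : AddSubgroup (U ⧸ U1)) * Nat.card (fixV A' : AddSubgroup U1) := by
        have h4 := AddSubgroup.relIndex_ker (K := (fixV A : AddSubgroup U)) (QuotientAddGroup.mk' U1)
        rw [QuotientAddGroup.ker_mk', ← AddSubgroup.inf_relIndex_right] at h4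
        have h5 := AddSubgroup.relIndex_mul_relIndex ⊥ (U1 ⊓ fixV A) (fixV A : AddSubgroup U) bot_le
          inf_le_right
        rw [AddSubgroup.relIndex_bot_left, AddSubgroup.relIndex_bot_left, h4] at h5
        rw [← h5, mul_comm]
        refine Nat.mul_le_mul ?_ ?_
        · refine AddSubgroup.card_le_of_le ?_
          rintro _ ⟨v, hv, rfl⟩ a ha
          show a • (QuotientAddGroup.mk v : U ⧸ U1) = _
          rw [h2mk, hv a ha]; rfl
        · exact Nat.card_le_card_of_injective
            (fun v : ↥(U1 ⊓ fixV A : AddSubgroup U) => (⟨⟨v, v.2.1⟩, fun a ha =>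
              Subtype.ext (v.2.2 a ha.1)⟩ : (fixV A' : AddSubgroup U1)))
            fun v w e => Subtype.ext (congrArg (fun z : (fixV A' : AddSubgroup U1) => ((z : U1) : U)) e :)
      have hAC : A ⊓ (C2 ⊓ C1) = A' ⊓ C1 := (inf_assoc A C2 C1).symm
      rw [hAC, hcard]
      calc Nat.card A ^ 2 * Nat.card (fixV A : AddSubgroup U)
          ≤ Nat.card A ^ 2 * (Nat.card (fixV A : AddSubgroup (U ⧸ U1)) *
              Nat.card (fixV A' : AddSubgroup U1)) := Nat.mul_le_mul_left _ hsplit
        _ ≤ Nat.card (U ⧸ U1) * Nat.card A' ^ 2 * Nat.card (fixV A' : AddSubgroup U1) := by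
            rw [← mul_assoc]; exact Nat.mul_le_mul_right _ q
        _ ≤ Nat.card (U ⧸ U1) * (Nat.card U1 * Nat.card ↥(A' ⊓ C1) ^ 2) := by
            rw [mul_assoc]; exact Nat.mul_le_mul_left _ s
        _ = _ := by ring
  · -- irreducible
    push Not at hred
    let ρ : H →* AddMonoid.End U :=
      { toFun := fun x => DistribSMul.toAddMonoidHom U x
        map_one' := AddMonoidHom.ext fun v => one_smul H v
        map_mul' := fun x y => AddMonoidHom.ext fun v => mul_smul x y v }
    set f := ρ.toHomUnits.rangeRestrict with hf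
    have hfs : Function.Surjective f := MonoidHom.rangeRestrict_surjective _
    have hfmk : ∀ (x : H) (v : U), f x • v = x • v := fun x v => rfl
    have hcore : pCore 2 ρ.toHomUnits.range = ⊥ := by
      set Q := pCore 2 ρ.toHomUnits.range with hQ
      have hQp := PLocal.isPGroup_pCore 2 ρ.toHomUnits.range
      have : Fact (Nat.Prime 2) := ⟨Nat.prime_two⟩
      have hst : stabS (X := H) (fixV Q : AddSubgroup U) = ⊤ := by
        refine eq_top_iff.2 (inv_iff_le_stabS.1 fun x _ v hv q hq => ?_)
        have hconj : (f x)⁻¹ * q * f x ∈ Q := by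
          simpa using (inferInstance : Q.Normal).conj_mem q hq (f x)⁻¹
        have h1 := congrArg (f x • ·) (hv _ hconj)
        simp only [← mul_smul] at h1
        rw [show f x * ((f x)⁻¹ * q * f x) = q * f x by group, mul_smul] at h1
        rwa [← hfmk]
      refine le_bot_iff.1 fun q hq => mem_bot.2 (eq_of_smul_eq_smul (α := U) fun v => ?_)
      rw [one_smul]
      by_cases hU0 : ∀ v : U, v = 0
      · rw [hU0 v, smul_zero]
      push Not at hU0
      obtain ⟨v0, hv0⟩ := hU0
      have hfix0 : (fixV Q : AddSubgroup U) ≠ ⊥ := by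
        intro e
        have h2 : addOrderOf v0 = 2 := addOrderOf_eq_prime (by rw [two_nsmul]; exact hU v0) hv0
        obtain ⟨w, hw, hw0⟩ := hQp.exists_fixed_point_of_prime_dvd_card_of_fixed_point U
          (h2 ▸ addOrderOf_dvd_natCard v0) (show (0 : U) ∈ MulAction.fixedPoints Q U from
            fun b => smul_zero (b : ρ.toHomUnits.range))
        have h3 : w ∈ (fixV Q : AddSubgroup U) := fun b hb => hw ⟨b, hb⟩
        rw [e, AddSubgroup.mem_bot] at h3
        exact hw0 h3.symm
      exact (hred _ hst hfix0).ge (AddSubgroup.mem_top v) q hq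
    refine ⟨f.ker, inferInstance, fun c hc _ v => by
      rw [← hfmk, MonoidHom.mem_ker.1 hc, one_smul], fun A hA => ?_⟩
    have hAe : IsElementaryAbelian 2 (A.map f) := by
      refine ⟨⟨⟨fun x y => Subtype.ext ?_⟩⟩, ?_⟩
      · obtain ⟨_, a, ha, rfl⟩ := x
        obtain ⟨_, b, hb, rfl⟩ := y
        show f a * f b = f b * f a
        have h : a * b = b * a := congrArg Subtype.val (hA.1.is_comm.comm (⟨a, ha⟩ : A) ⟨b, hb⟩)
        rw [← map_mul, h, map_mul]
      · rintro _ ⟨a, ha, rfl⟩
        rw [← map_pow, hA.2 a ha, map_one]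
    have hb := hn ρ.toHomUnits.range U (lt_of_le_of_lt (Nat.card_le_card_of_surjective f hfs) hH) hU
      (hG.of_surjective f hfs) hcore (A.map f) hAe
    have hfix : (fixV (A.map f) : AddSubgroup U) = fixV A := by
      ext v
      constructor
      · exact fun h a ha => (hfmk a v) ▸ h _ (mem_map_of_mem f ha)
      · rintro h _ ⟨a, ha, rfl⟩
        rw [hfmk]; exact h a ha
    rw [hfix] at hb
    have h4 := relIndex_ker (K := A) f
    have h5 := PLocal.card_mul_relIndex (inf_le_left : A ⊓ f.ker ≤ A)
    rw [inf_comm, inf_relIndex_right, inf_comm, h4] at h5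
    rw [← h5, mul_pow, mul_assoc, mul_comm]
    exact Nat.mul_le_mul_right _ hb

end CfsgLib.LocalEven.OffenderBound
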