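import Cfsg.Agent.LocalEven.OffenderBound.Struct
import Cfsg.Agent.LocalEven.OffenderBound.Series
import Cfsg.Agent.LocalEven.SuzukiBound
import Cfsg.Agent.Small.BaerSuzuki
import Cfsg.Agent.CharTwoW.QuadSum

/-!
The offender bound: in an `S₃`-free group with trivial `O₂` and nonabelian composition factors
Suzuki groups or `PSL₂(3^odd)`, acting faithfully on an elementary abelian `2`-group `V`, every
elementary abelian `2`-subgroup `A` satisfies `|V : C_V(A)| ≥ |A|²` and `|[V, A]| ≥ |A|²`.
-/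

set_option autoImplicit false

universe u

namespace CfsgLib.LocalEven.OffenderBound

open Cfsg Subgroup
open CfsgLib.NoOffender (fixV mem_fixV fixV_anti quotHom quotHom_mk stabS
  smul_mem_iff_of_mem_stabS inv_iff_le_stabS)
open CfsgLib.MinNormal (conj_mem_of_le_normalizer le_normalizer_of_conj_mem)

variable {X V : Type u} [Group X] [AddCommGroup V] [DistribMulAction X V] [FaithfulSMul X V]
  [Finite X] [Finite V]

omit [FaithfulSMul X V] in
theorem card_eq_two_pow_of_le (hV : ∀ v : V, v + v = 0) (S : AddSubgroup V) :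
    ∃ k, Nat.card (V ⧸ S) = 2 ^ k :=
  CharTwoW.exists_card_eq_two_pow fun z => by
    obtain ⟨v, rfl⟩ := QuotientAddGroup.mk_surjective z
    rw [← QuotientAddGroup.mk_add, hV]; rfl

/-- An involution is no transvection. -/
theorem bound_of_order_two (hV : ∀ v : V, v + v = 0) (hG : GoodX X) (hO : pCore 2 X = ⊥) {a : X}
    (ha : a * a = 1) (ha1 : a ≠ 1) :
    4 * Nat.card (fixV (zpowers a) : AddSubgroup V) ≤ Nat.card V := by
  classical
  have : Fact (Nat.Prime 2) := ⟨Nat.prime_two⟩
  by_contra hbad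
  set Fa : AddSubgroup V := fixV (zpowers a) with hFa
  have hidx : Nat.card (V ⧸ Fa) ≤ 2 := by
    obtain ⟨k, hk⟩ := card_eq_two_pow_of_le hV Fa
    rw [Fa.card_eq_card_quotient_mul_card_addSubgroup, hk] at hbad
    rw [hk]
    rcases Nat.lt_or_ge k 2 with h | h
    · interval_cases k <;> norm_num
    · exact absurd (Nat.mul_le_mul_right _ (Nat.pow_le_pow_right two_pos h : 2 ^ 2 ≤ 2 ^ k)) hbad
  -- a conjugate generating with `a` a subgroup which is no `2`-group
  obtain ⟨g, hg⟩ : ∃ g : X, ¬ IsPGroup 2 (closure ({a, g * a * g⁻¹} : Set X)) := by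
    by_contra hall
    push Not at hall
    obtain ⟨N, hN, hNp, haN⟩ := Small.baerSuzuki_elem (p := 2) a hall
    exact ha1 (mem_bot.1 (hO ▸ PLocal.le_pCore hNp haN))
  set b := g * a * g⁻¹ with hb
  set X0 := closure ({a, b} : Set X) with hX0
  set C : AddSubgroup V := fixV X0 with hC
  have hCst : stabS (X := ↥X0) C = ⊤ := eq_top_iff.2 (inv_iff_le_stabS.1 fun x _ v hv => by
    show ((x : X) • v : V) ∈ C
    rw [hv x x.2]; exact hv)
  have hbfix : ∀ v : V, v ∈ (fixV (zpowers b) : AddSubgroup V) ↔ g⁻¹ • v ∈ Fa := by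
    intro v
    simp only [hFa, mem_fixV, Subgroup.forall_mem_zpowers]
    refine forall_congr' fun k => ?_
    rw [hb, conj_zpow, mul_smul, mul_smul, ← eq_inv_smul_iff]
  have hb4 : Nat.card (V ⧸ C) ≤ 4 := by
    let θ : V →+ (V ⧸ Fa) × (V ⧸ Fa) := (QuotientAddGroup.mk' Fa).prod
      ((QuotientAddGroup.mk' Fa).comp (DistribSMul.toAddMonoidHom V g⁻¹))
    have hker : θ.ker ≤ C := by
      intro v hv
      have h1 := congrArg Prod.fst (AddMonoidHom.mem_ker.1 hv)
      have h2 := congrArg Prod.snd (AddMonoidHom.mem_ker.1 hv)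
      simp only [θ, AddMonoidHom.prod_apply, AddMonoidHom.comp_apply, QuotientAddGroup.mk'_apply,
        Prod.fst_zero, Prod.snd_zero, QuotientAddGroup.eq_zero_iff] at h1 h2
      intro x hx
      have hle : X0 ≤ MulAction.stabilizer X v := by
        rw [hX0, closure_le]
        rintro _ (rfl | rfl)
        · exact h1 _ (mem_zpowers _)
        · exact (hbfix v).2 h2 _ (mem_zpowers _)
      exact hle hx
    have hd : C.index ≤ θ.ker.index := Nat.le_of_dvd
      (Nat.pos_of_ne_zero AddSubgroup.index_ne_zero_of_finite) (AddSubgroup.index_dvd_of_le hker)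
    rw [AddSubgroup.index_ker] at hd
    refine le_trans hd (le_trans (Finite.card_subtype_le _) ?_)
    rw [Nat.card_prod]
    exact Nat.mul_le_mul hidx hidx
  -- the action on the nonzero vectors of `V / C`
  let ρ := quotHom C hCst
  have hρ : ∀ (x y : ↥X0) (z : V ⧸ C), ρ x (ρ y z) = ρ (x * y) z := fun x y z => by
    rw [map_mul]; rfl
  have hρ1 : ∀ z : V ⧸ C, ρ 1 z = z := fun z => by rw [map_one]; rfl
  let π : ↥X0 →* Equiv.Perm {z : V ⧸ C // z ≠ 0} :=
    { toFun := fun x =>
        { toFun := fun z => ⟨ρ x z.1, fun e => z.2 (by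
            have := congrArg (ρ x⁻¹) e
            rwa [hρ, inv_mul_cancel, hρ1, map_zero] at this)⟩
          invFun := fun z => ⟨ρ x⁻¹ z.1, fun e => z.2 (by
            have := congrArg (ρ x) e
            rwa [hρ, mul_inv_cancel, hρ1, map_zero] at this)⟩
          left_inv := fun z => Subtype.ext (by
            show ρ x⁻¹ (ρ x z.1) = z.1
            rw [hρ, inv_mul_cancel, hρ1])
          right_inv := fun z => Subtype.ext (by
            show ρ x (ρ x⁻¹ z.1) = z.1
            rw [hρ, mul_inv_cancel, hρ1]) }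
      map_one' := Equiv.ext fun z => Subtype.ext (by show ρ 1 z.1 = z.1; rw [map_one]; rfl)
      map_mul' := fun x y => Equiv.ext fun z => Subtype.ext (by
        show ρ (x * y) z.1 = ρ x (ρ y z.1); rw [map_mul]; rfl) }
  have hkp : IsPGroup 2 π.ker := fun k => by
    refine ⟨1, Subtype.ext (Subtype.ext (eq_of_smul_eq_smul (α := V) fun v => ?_))⟩
    rw [pow_one, pow_two, Subgroup.coe_mul, Subgroup.coe_mul, mul_smul, OneMemClass.coe_one,
      OneMemClass.coe_one, one_smul]
    set x : X := ((k : ↥X0) : X) with hx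
    have hmove : x • v - v ∈ C := by
      have h1 : ρ (k : ↥X0) (QuotientAddGroup.mk v : V ⧸ C) = QuotientAddGroup.mk v := by
        by_cases e : (QuotientAddGroup.mk v : V ⧸ C) = 0
        · rw [e, map_zero]
        · exact congrArg Subtype.val
            (congrArg (fun σ : Equiv.Perm {z : V ⧸ C // z ≠ 0} => σ ⟨_, e⟩) (MonoidHom.mem_ker.1 k.2) :)
      rw [quotHom_mk, QuotientAddGroup.eq_iff_sub_mem] at h1
      exact h1
    have h2 := hmove x (k : ↥X0).2
    rw [smul_sub] at h2
    calc x • x • v = (x • x • v - x • v) + x • v := by abel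
      _ = (x • v + x • v) - v := by rw [h2]; abel
      _ = v := by rw [hV, zero_sub]; exact neg_eq_of_add_eq_zero_left (hV v)
  have hX0p : ¬ IsPGroup 2 π.range := fun hp => hg (by
    obtain ⟨i, hi⟩ := IsPGroup.iff_card.1 hkp
    obtain ⟨j, hj⟩ := IsPGroup.iff_card.1 hp
    refine IsPGroup.of_card (n := j + i) ?_
    rw [show Nat.card ↥X0 = Nat.card (↥X0 ⧸ π.ker) * Nat.card π.ker from
      π.ker.card_eq_card_quotient_mul_card_subgroup,
      Nat.card_congr (QuotientGroup.quotientKerEquivRange π).toEquiv, hi, hj, pow_add])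
  have h3 : Nat.card {z : V ⧸ C // z ≠ 0} ≤ 3 := by
    have := Fintype.ofFinite (V ⧸ C)
    rw [Nat.card_eq_fintype_card, Fintype.card_subtype_compl, Fintype.card_subtype_eq,
      ← Nat.card_eq_fintype_card]
    omega
  have hdvd : Nat.card π.range ∣ (Nat.card {z : V ⧸ C // z ≠ 0}).factorial := by
    rw [← Nat.card_perm]
    exact card_subgroup_dvd_card _
  have hrange : π.range = closure ({π ⟨a, subset_closure (Or.inl rfl)⟩,
      π ⟨b, subset_closure (Or.inr rfl)⟩} : Set _) := by
    have htop : (closure (Subtype.val ⁻¹' ({a, b} : Set X)) : Subgroup ↥X0) = ⊤ :=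
      closure_closure_coe_preimage
    rw [MonoidHom.range_eq_map, ← htop, MonoidHom.map_closure]
    congr 1
    ext y
    simp only [Set.mem_image, Set.mem_preimage, Set.mem_insert_iff, Set.mem_singleton_iff]
    constructor
    · rintro ⟨x, hx | hx, rfl⟩
      · left; congr 1; exact Subtype.ext hx
      · right; congr 1; exact Subtype.ext hx
    · rintro (rfl | rfl)
      · exact ⟨_, Or.inl rfl, rfl⟩
      · exact ⟨_, Or.inr rfl, rfl⟩
  -- so the image is the symmetric group on three letters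
  have hn2 : ∀ k, Nat.card π.range = k → (k = 1 ∨ k = 2) → False := by
    rintro k hk (rfl | rfl)
    · exact hX0p (IsPGroup.of_card (n := 0) hk)
    · exact hX0p (IsPGroup.of_card (n := 1) hk)
  have hz3 : Nat.card {z : V ⧸ C // z ≠ 0} = 3 := by
    by_contra hne
    have h2 : (Nat.card {z : V ⧸ C // z ≠ 0}).factorial ∣ 2 := by
      have : Nat.card {z : V ⧸ C // z ≠ 0} ≤ 2 := by omega
      interval_cases (Nat.card {z : V ⧸ C // z ≠ 0}) <;> norm_num [Nat.factorial]
    exact hn2 _ rfl ((Nat.dvd_prime Nat.prime_two).1 (hdvd.trans h2))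
  rw [hz3] at hdvd
  have h6 : Nat.card π.range = 6 := by
    rw [show Nat.factorial 3 = 6 from rfl] at hdvd
    have hle := Nat.le_of_dvd (by norm_num) hdvd
    have hne3 : Nat.card π.range ≠ 3 := by
      intro e
      have hsq : ∀ x : ↥X0, (x : X) * x = 1 → π x = 1 := by
        intro x hx
        have h1 : π x * π x = 1 := by rw [← map_mul, show x * x = 1 from Subtype.ext hx, map_one]
        have h2 : orderOf (⟨π x, x, rfl⟩ : π.range) ∣ 2 :=
          orderOf_dvd_of_pow_eq_one (Subtype.ext (by simpa [pow_two] using h1))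
        have h3 : orderOf (⟨π x, x, rfl⟩ : π.range) ∣ 3 := e ▸ orderOf_dvd_natCard _
        have h4 : orderOf (⟨π x, x, rfl⟩ : π.range) = 1 :=
          Nat.eq_one_of_dvd_coprimes (by norm_num : Nat.Coprime 2 3) h2 h3
        exact congrArg Subtype.val (orderOf_eq_one_iff.1 h4)
      rw [hrange, hsq _ ha, hsq _ (by
        show b * b = 1
        rw [hb, show g * a * g⁻¹ * (g * a * g⁻¹) = g * (a * a) * g⁻¹ by group, ha]
        group)] at e
      simp only [Set.insert_eq_of_mem, Set.mem_singleton_iff] at e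
      rw [Subgroup.closure_singleton_one, card_bot] at e
      omega
    have hpos : 0 < Nat.card π.range := Nat.card_pos
    have h12 := hn2 _ rfl
    obtain ⟨k, hk⟩ : ∃ k, Nat.card π.range = k := ⟨_, rfl⟩
    rw [hk] at hdvd hle hne3 hpos h12 ⊢
    interval_cases k <;> first | rfl | omega | exact absurd hdvd (by decide) | exact (h12 (by omega)).elim
  have htop : π.range = ⊤ := by
    refine eq_top_of_card_eq _ ?_
    rw [h6, Nat.card_perm, hz3]
    rfl
  obtain ⟨e⟩ : Nonempty ({z : V ⧸ C // z ≠ 0} ≃ Fin 3) := ⟨Finite.equivFinOfCardEq hz3⟩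
  refine hG.s3 (ConjFunctor.involves_trans (ConjFunctor.involves_subgroup X0)
    (ConjFunctor.involves_of_surjective (e.permCongrHom.toMonoidHom.comp π)
      (e.permCongrHom.surjective.comp (MonoidHom.range_eq_top.1 htop))))

/-- In a Suzuki group elementary abelian `2`-subgroups have order at most `q`. -/
theorem card_elab_le_sz {F : Type} [Field F] [Fintype F] {m : ℕ} (hS : Suzuki.SzField F m)
    {A : Subgroup ↥(Cfsg.Sz F m)} (hA : IsPGroup 2 A) (hA2 : ∀ a ∈ A, a * a = 1) :
    Nat.card A ≤ Fintype.card F := by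
  have : Fact (Nat.Prime 2) := ⟨Nat.prime_two⟩
  obtain ⟨P, hP⟩ := hA.exists_le_sylow
  obtain ⟨g, hg⟩ := MulAction.exists_smul_eq (Cfsg.Sz F m) P (Suzuki.uniSylow hS)
  have h1 : A.map (MulAut.conj g).toMonoidHom ≤ Suzuki.uniCenter hS := by
    rintro _ ⟨a, ha, rfl⟩
    have hm : (MulAut.conj g) a ∈ (g • P : Sylow 2 ↥(Cfsg.Sz F m)) := ⟨a, hP ha, rfl⟩
    rw [hg] at hm
    obtain ⟨b, hb⟩ := SuzukiLocal.mem_uniCenter_of_sq hS (g := MulAut.conj g a) hm (by
      rw [← map_mul, hA2 a ha, map_one])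
    show MulAut.conj g a ∈ _
    rw [hb]
    exact Suzuki.uniCenter_mem hS b
  have h2 := card_le_of_le h1
  rwa [Suzuki.card_uniCenter hS,
    ← Nat.card_congr (A.equivMapOfInjective _ (MulAut.conj g).injective).toEquiv] at h2

omit [Finite X] in
/-- Fixed vectors of an element of order a primitive prime for `2^d`. -/
theorem card_fix_le_of_detecting [Finite X] (hV : ∀ v : V, v + v = 0) {w : X} {r d : ℕ}
    (hr : r.Prime) (hr2 : r ≠ 2) (hw : orderOf w = r) (hdet : ∀ j, r ∣ 2 ^ j - 1 → d ∣ j) :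
    2 ^ d * Nat.card (fixV (zpowers w) : AddSubgroup V) ≤ Nat.card V := by
  classical
  have := Fact.mk hr
  set C : AddSubgroup V := fixV (zpowers w) with hC
  have hp : IsPGroup r (zpowers w) := IsPGroup.of_card (n := 1) (by rw [Nat.card_zpowers, hw, pow_one])
  have hmod := hp.card_modEq_card_fixedPoints V
  have hfix : Nat.card (MulAction.fixedPoints (zpowers w) V) = Nat.card C := by
    refine Nat.card_congr (Equiv.subtypeEquivRight fun v => ?_)
    constructor
    · exact fun h b hb => h ⟨b, hb⟩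
    · exact fun h b => h b b.2
  rw [hfix] at hmod
  obtain ⟨j, hj⟩ := card_eq_two_pow_of_le hV C
  obtain ⟨i, hi⟩ := CharTwoW.exists_card_eq_two_pow (P := C) fun v => Subtype.ext (hV v)
  have hcard := C.card_eq_card_quotient_mul_card_addSubgroup
  have h1 : r ∣ 2 ^ j - 1 := by
    rw [hcard, hj, hi] at hmod
    have h2 := (Nat.modEq_iff_dvd' (Nat.le_mul_of_pos_left _ (pow_pos two_pos j))).1 hmod.symm
    rw [← Nat.sub_one_mul] at h2
    exact ((Nat.Coprime.pow_right i ((Nat.coprime_primes hr Nat.prime_two).2 hr2)).dvd_of_dvd_mul_right h2)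
  have hj0 : j ≠ 0 := by
    rintro rfl
    have hC' : C = ⊤ := AddSubgroup.eq_top_of_card_eq C (by rw [hcard, hj, pow_zero, one_mul])
    have : w = 1 := eq_of_smul_eq_smul (α := V) fun v => by
      rw [one_smul]; exact (hC'.ge (AddSubgroup.mem_top v)) w (mem_zpowers w)
    rw [this, orderOf_one] at hw
    exact hr.ne_one hw.symm
  rw [hcard, hj]
  exact Nat.mul_le_mul_right _
    (Nat.pow_le_pow_right two_pos (Nat.le_of_dvd (Nat.pos_of_ne_zero hj0) (hdet j h1)))

/-- The bound when `X` is a Suzuki group modulo an odd normal subgroup. -/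
theorem bound_of_sz (hV : ∀ v : V, v + v = 0) (hS : IsSzModOdd X) {A : Subgroup X}
    (hA : IsPGroup 2 A) (hA2 : ∀ a ∈ A, a * a = 1) (hne : A ≠ ⊥) :
    Nat.card A ^ 2 * Nat.card (fixV A : AddSubgroup V) ≤ Nat.card V := by
  classical
  obtain ⟨F, iF, iF', m, hm, f, hf, hker⟩ := hS
  have : Fact (Nat.Prime 2) := ⟨Nat.prime_two⟩
  have hinj : ∀ a ∈ A, f a = 1 → a = 1 := by
    intro a ha h
    have h1 : orderOf a ∣ 2 := orderOf_dvd_of_pow_eq_one (by rw [pow_two]; exact hA2 a ha)
    have h2 : orderOf a ∣ Nat.card f.ker := f.ker.orderOf_dvd_natCard h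
    exact orderOf_eq_one_iff.1 (Nat.eq_one_of_dvd_coprimes
      (Nat.coprime_two_left.2 hker) h1 h2)
  have hcA : Nat.card A ≤ Fintype.card F := by
    have he : Nat.card A = Nat.card (A.map f) :=
      Nat.card_eq_of_bijective (f.subgroupMap A) ⟨fun x y e => Subtype.ext (by
        have h1 : f ((x : X) * (y : X)⁻¹) = 1 := by
          rw [map_mul, map_inv, show f x = f y from congrArg Subtype.val e, mul_inv_cancel]
        exact mul_inv_eq_one.1 (hinj _ (A.mul_mem x.2 (A.inv_mem y.2)) h1)),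
        f.subgroupMap_surjective A⟩
    rw [he]
    refine card_elab_le_sz hm (hA.map f) ?_
    rintro _ ⟨a, ha, rfl⟩
    rw [← map_mul, hA2 a ha, map_one]
  obtain ⟨a, ha, ha1⟩ := A.bot_or_exists_ne_one.resolve_left hne
  obtain ⟨r, hr, hr2, hdet, hprod⟩ := ModuleBounds.exists_sz_product hm
  obtain ⟨g0, g1, hR⟩ := hprod (f a) (orderOf_eq_prime
    (by rw [pow_two, ← map_mul, hA2 a ha, map_one]) fun e => ha1 (hinj a ha e))
  rw [zero_add, pow_one] at hR
  obtain ⟨h0, rfl⟩ := hf g0
  obtain ⟨h1, rfl⟩ := hf g1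
  rw [← map_inv, ← map_inv, ← map_mul, ← map_mul, ← map_mul, ← map_mul, ← map_mul] at hR
  set y := h0 * a * h0⁻¹ * (h1 * a * h1⁻¹) with hy
  have hdvd : r ∣ orderOf y := hR.trans (orderOf_map_dvd f y)
  set w := y ^ (orderOf y / r) with hw
  have hwo : orderOf w = r := orderOf_pow_orderOf_div (orderOf_pos y).ne' hdvd
  have key := card_fix_le_of_detecting hV hr hr2 hwo (fun j hj => hdet j (by simpa using hj))
  -- the fixed vectors of `a` twice
  set Fa : AddSubgroup V := fixV A with hFa
  have hconjfix : ∀ g : X, ∀ v ∈ Fa, (g * a * g⁻¹) • (g • v) = g • v := fun g v hv => by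
    rw [← mul_smul, inv_mul_cancel_right, mul_smul, hv a ha]
  let M0 := Fa.map (DistribSMul.toAddMonoidHom V h0)
  let M1 := Fa.map (DistribSMul.toAddMonoidHom V h1)
  have hM : M0 ⊓ M1 ≤ fixV (zpowers w) := by
    rintro z ⟨⟨v, hv, rfl⟩, ⟨v', hv', e⟩⟩
    simp only [DistribSMul.toAddMonoidHom_apply] at e ⊢
    have h4 : y • (h0 • v) = h0 • v := by
      rw [hy, mul_smul, ← e, hconjfix h1 v' hv', e, hconjfix h0 v hv]
    intro x hx
    obtain ⟨k, rfl⟩ := hx
    have hmem : w ^ k ∈ MulAction.stabilizer X (h0 • v) :=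
      zpow_mem (pow_mem (show y ∈ MulAction.stabilizer X (h0 • v) from h4) _) k
    exact hmem
  have hc := NoOffender.card_sup_mul_card_inf M0 M1
  have hc0 : ∀ g : X, Nat.card (Fa.map (DistribSMul.toAddMonoidHom V g)) = Nat.card Fa := fun g =>
    (Nat.card_congr (Fa.equivMapOfInjective _ (MulAction.injective g)).toEquiv).symm
  rw [hc0, hc0] at hc
  have hsq : 2 ^ (4 * (2 * m + 1)) * (Nat.card Fa * Nat.card Fa) ≤ Nat.card V * Nat.card V := by
    rw [← hc, mul_left_comm]
    refine Nat.mul_le_mul (AddSubgroup.card_le_card_addGroup _) (le_trans ?_ key)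
    rw [show 2 * (2 * (2 * m + 1)) = 4 * (2 * m + 1) by ring] at *
    exact Nat.mul_le_mul_left _ (AddSubgroup.card_le_of_le hM)
  have hq : Fintype.card F ^ 2 * Nat.card Fa ≤ Nat.card V := by
    refine Nat.mul_self_le_mul_self_iff.1 ?_
    rw [hm.card_eq, mul_mul_mul_comm]
    refine le_trans (le_of_eq ?_) hsq
    rw [← pow_mul, ← pow_add]
    ring_nf
  exact le_trans (Nat.mul_le_mul_right _ (Nat.pow_le_pow_left hcA 2)) hq

/-- One step of the induction. -/
theorem bound_step {n : ℕ} (hn : BoundBelow.{u} n) (hX : Nat.card X = n) (hV : ∀ v : V, v + v = 0)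
    (hG : GoodX X) (hO : pCore 2 X = ⊥) (A : Subgroup X) (hA : IsElementaryAbelian 2 A) :
    Nat.card A ^ 2 * Nat.card (fixV A : AddSubgroup V) ≤ Nat.card V := by
  classical
  have : Fact (Nat.Prime 2) := ⟨Nat.prime_two⟩
  induction hm : Nat.card A using Nat.strongRecOn generalizing A with
  | ind m ih =>
  subst hm
  by_contra hbad
  have hAp : IsPGroup 2 A := fun a => ⟨1, Subtype.ext (by rw [pow_one]; exact hA.2 a a.2)⟩
  have hA2 : ∀ a ∈ A, a * a = 1 := fun a ha => by rw [← pow_two]; exact hA.2 a ha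
  have hAc : ∀ a ∈ A, ∀ b ∈ A, a * b = b * a := fun a ha b hb =>
    congrArg Subtype.val (hA.1.is_comm.comm (⟨a, ha⟩ : A) ⟨b, hb⟩)
  have hne : A ≠ ⊥ := by
    rintro rfl
    apply hbad
    rw [card_bot, one_pow, one_mul]
    exact AddSubgroup.card_le_card_addGroup _
  have h4 : 4 ≤ Nat.card A := by
    obtain ⟨k, hk⟩ := IsPGroup.iff_card.1 hAp
    rw [hk]
    rcases Nat.lt_or_ge k 2 with hk2 | hk2
    · exfalso
      interval_cases k
      · exact hne (eq_bot_of_card_eq _ hk)
      obtain ⟨a, ha, ha1⟩ := A.bot_or_exists_ne_one.resolve_left hne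
      have hz : zpowers a = A := eq_of_le_of_card_ge (zpowers_le.2 ha) (by
        rw [hk, Nat.card_zpowers, pow_one]
        exact (orderOf_eq_prime (p := 2) (hA.2 a ha) ha1).ge)
      have := bound_of_order_two hV hG hO (hA2 a ha) ha1
      rw [hz] at this
      refine hbad ?_
      rw [hk, pow_one]
      exact this
    · exact (show 4 = 2 ^ 2 from rfl) ▸ Nat.pow_le_pow_right two_pos hk2
  -- `A` centralises its proper invariant subgroups without `O₂`
  have hcentral : ∀ W : Subgroup X, A ≤ normalizer (W : Set X) → pCore 2 ↥W = ⊥ → W ⊔ A ≠ ⊤ →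
      A ≤ centralizer (W : Set X) := by
    intro W hWn hWc hWA
    by_contra hcen
    set B := A ⊓ centralizer (W : Set X) with hB
    have hBlt : Nat.card B < Nat.card A := lt_of_le_of_ne (card_le_of_le inf_le_left)
      fun e => hcen ((eq_of_le_of_card_ge inf_le_left e.ge).ge.trans inf_le_right)
    have hBe : IsElementaryAbelian 2 B :=
      ⟨⟨⟨fun a b => Subtype.ext (hAc a a.2.1 b b.2.1)⟩⟩, fun a ha => hA.2 a ha.1⟩
    have hBbound := ih _ hBlt B hBe rfl
    set H := W ⊔ A with hH
    set U : AddSubgroup V := fixV B with hU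
    have hHcen : ∀ x ∈ H, ∀ b ∈ B, x * b = b * x := by
      intro x hx b hb
      have hle : H ≤ centralizer ({b} : Set X) := sup_le
        (fun w hw => mem_centralizer_singleton_iff.2 (mem_centralizer_iff.1 hb.2 w hw))
        (fun a ha => mem_centralizer_singleton_iff.2 (hAc a ha b hb.1))
      exact mem_centralizer_singleton_iff.1 (hle hx)
    let ρ : ↥H →* AddMonoid.End U :=
      { toFun := fun x => ((DistribSMul.toAddMonoidHom V (x : X)).comp U.subtype).codRestrict U
          fun v b hb => by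
            show b • ((x : X) • (v : V)) = (x : X) • (v : V)
            rw [← mul_smul, ← hHcen x x.2 b hb, mul_smul, v.2 b hb]
        map_one' := AddMonoidHom.ext fun v => Subtype.ext (one_smul X (v : V))
        map_mul' := fun x y => AddMonoidHom.ext fun v => Subtype.ext (mul_smul (x : X) y (v : V)) }
    letI iH : DistribMulAction ↥H U := DistribMulAction.compHom U ρ
    have hUmk : ∀ (x : ↥H) (v : U), ((x • v : U) : V) = (x : X) • (v : V) := fun _ _ => rfl
    have hHlt : Nat.card H < n := hX ▸ lt_of_le_of_ne (card_le_card_group H)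
      fun e => hWA (eq_top_of_card_eq H e)
    obtain ⟨C, hCn, hCodd, hCb⟩ := exists_series_kernel hn (U := U) hHlt
      (fun v => Subtype.ext (hV v)) (hG.subgroup H)
    set WH := W.subgroupOf H with hWH
    have hWHn : WH.Normal :=
      normal_subgroupOf_of_le_normalizer (sup_le le_normalizer hWn)
    have hCW : C ⊓ WH = ⊥ := by
      have hp : IsPGroup 2 ↥(C ⊓ WH) := by
        intro x
        obtain ⟨k, l, hl, hkl⟩ := Nat.exists_eq_two_pow_mul_odd (orderOf_pos (x : ↥H)).ne'
        refine ⟨k, Subtype.ext ?_⟩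
        set y : ↥H := (x : ↥H) ^ 2 ^ k with hy
        show y = 1
        have hyl : Odd (orderOf y) := hl.of_dvd_nat (orderOf_dvd_of_pow_eq_one (by
          rw [hy, ← pow_mul, ← hkl, pow_orderOf_eq_one]))
        have hyX : Odd (orderOf (y : X)) := by rwa [Subgroup.orderOf_coe]
        refine Subtype.ext (eq_of_smul_eq_smul (α := V) fun v => ?_)
        rw [OneMemClass.coe_one, one_smul]
        refine smul_eq_of_commute_fix (hAp.to_le inf_le_left : IsPGroup 2 B) hyX hV
          (fun b hb => hHcen _ y.2 b hb) (fun u hu => ?_) v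
        have hyC : y ∈ C := pow_mem x.2.1 _
        exact congrArg Subtype.val (hCodd y hyC hyl ⟨u, hu⟩)
      have hcore : pCore 2 ↥WH = ⊥ := by
        rw [← PLocal.map_pCore_equiv (Subgroup.subgroupOfEquivOfLe (le_sup_left : W ≤ H)).symm,
          hWc, Subgroup.map_bot]
      have hle : (C ⊓ WH).subgroupOf WH ≤ pCore 2 ↥WH :=
        PLocal.le_pCore (hp.comap_of_injective _ (Subgroup.subtype_injective _))
      rw [hcore, le_bot_iff, subgroupOf_eq_bot, disjoint_iff, inf_assoc, inf_idem] at hle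
      exact hle
    have hAC : ∀ a ∈ A, ∀ h : a ∈ H, (⟨a, h⟩ : ↥H) ∈ C → a ∈ B := by
      intro a ha h hC
      refine ⟨ha, mem_centralizer_iff.2 fun w hw => ?_⟩
      have hwH : w ∈ H := mem_sup_left hw
      have h1 : (⟨a, h⟩ : ↥H) * ⟨w, hwH⟩ * (⟨a, h⟩ : ↥H)⁻¹ * (⟨w, hwH⟩ : ↥H)⁻¹ ∈ C ⊓ WH := by
        refine mem_inf.2 ⟨?_, mul_mem (hWHn.conj_mem ⟨w, hwH⟩ hw _) (inv_mem (show (⟨w, hwH⟩ : ↥H) ∈ WH from hw))⟩
        rw [show (⟨a, h⟩ : ↥H) * ⟨w, hwH⟩ * (⟨a, h⟩ : ↥H)⁻¹ * (⟨w, hwH⟩ : ↥H)⁻¹ =
          ⟨a, h⟩ * (⟨w, hwH⟩ * (⟨a, h⟩ : ↥H)⁻¹ * (⟨w, hwH⟩ : ↥H)⁻¹) by group]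
        exact mul_mem hC (hCn.conj_mem _ (inv_mem hC) _)
      rw [hCW, mem_bot, mul_inv_eq_one, mul_inv_eq_iff_eq_mul] at h1
      exact (congrArg Subtype.val h1).symm
    set AH := A.subgroupOf H with hAH
    have hAHe : IsElementaryAbelian 2 AH :=
      ⟨⟨⟨fun a b => Subtype.ext (Subtype.ext (hAc _ a.2 _ b.2))⟩⟩,
        fun a ha => Subtype.ext (hA.2 _ ha)⟩
    have key := hCb AH hAHe
    rw [Nat.card_congr (Subgroup.subgroupOfEquivOfLe (le_sup_right : A ≤ H)).toEquiv] at key
    have hfix : Nat.card (fixV A : AddSubgroup V) ≤ Nat.card (fixV AH : AddSubgroup U) :=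
      Nat.card_le_card_of_injective
        (fun v => (⟨⟨v, fun b hb => v.2 b hb.1⟩, fun a ha => Subtype.ext (v.2 a ha)⟩ :
          (fixV AH : AddSubgroup U)))
        fun v w e => Subtype.ext (congrArg (fun z : (fixV AH : AddSubgroup U) => ((z : U) : V)) e :)
    have hint : Nat.card ↥(AH ⊓ C) ≤ Nat.card B :=
      Nat.card_le_card_of_injective (fun z => (⟨((z : ↥H) : X), hAC _ z.2.1 _ z.2.2⟩ : B))
        fun z w e => Subtype.ext (Subtype.ext (congrArg (fun t : B => (t : X)) e :))
    apply hbad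
    calc Nat.card A ^ 2 * Nat.card (fixV A : AddSubgroup V)
        ≤ Nat.card A ^ 2 * Nat.card (fixV AH : AddSubgroup U) := Nat.mul_le_mul_left _ hfix
      _ ≤ Nat.card U * Nat.card ↥(AH ⊓ C) ^ 2 := key
      _ ≤ Nat.card U * Nat.card B ^ 2 := Nat.mul_le_mul_left _ (Nat.pow_le_pow_left hint 2)
      _ ≤ Nat.card V := by rw [mul_comm]; exact hBbound
  -- normal subgroups containing `A`
  have hgen : normalClosure (A : Set X) = ⊤ := by
    by_contra hK
    set K := normalClosure (A : Set X) with hKd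
    have hcore : pCore 2 ↥K = ⊥ := by
      have h1 : (pCore 2 ↥K).map K.subtype ≤ pCore 2 X :=
        PLocal.le_pCore ((PLocal.isPGroup_pCore 2 ↥K).map _)
      rwa [hO, le_bot_iff, map_eq_bot_iff_of_injective _ K.subtype_injective] at h1
    have hlt : Nat.card K < n := hX ▸ lt_of_le_of_ne (card_le_card_group K)
      fun e => hK (eq_top_of_card_eq K e)
    have hAK : A ≤ K := fun a ha => subset_normalClosure ha
    have hAKe : IsElementaryAbelian 2 (A.subgroupOf K) :=
      ⟨⟨⟨fun a b => Subtype.ext (Subtype.ext (hAc _ a.2 _ b.2))⟩⟩,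
        fun a ha => Subtype.ext (hA.2 _ ha)⟩
    have h := hn ↥K V hlt hV (hG.subgroup K) hcore _ hAKe
    rw [Nat.card_congr (Subgroup.subgroupOfEquivOfLe hAK).toEquiv] at h
    refine hbad (le_trans (Nat.mul_le_mul_left _ (AddSubgroup.card_le_of_le ?_)) h)
    exact fun v hv a ha => hv a ha
  obtain ⟨T, hT⟩ := hAp.exists_le_sylow
  have hconf : Config X (T : Subgroup X) A (T : Subgroup X) :=
    { good := hG
      core := hO
      pgroup := T.2
      oddIndex := Nat.odd_iff.2 (Nat.two_dvd_ne_zero.1 T.not_dvd_index)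
      elab_A := hA
      four := h4
      le_T := hT
      le_F := hT
      T_le := le_normalizer
      F_ne := fun e => by
        have hp : IsPGroup 2 (⊤ : Subgroup X) := e ▸ T.2
        have h1 := Subgroup.card_le_card_group A
        rw [← Subgroup.card_top (G := X),
          show (⊤ : Subgroup X) = ⊥ from le_bot_iff.1 (hO ▸ PLocal.le_pCore hp), card_bot] at h1
        omega
      fam := fun W hWn hWc hWA _ w hw a ha => by
        rw [mem_centralizer_iff.1 (hcentral W hWn hWc hWA ha) w hw, mul_inv_cancel_right]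
        exact hT ha
      normal_sup := fun K hK hTK => by
        by_contra htop
        have hcore : pCore 2 ↥K = ⊥ := by
          have h1 : (pCore 2 ↥K).map K.subtype ≤ pCore 2 X :=
            PLocal.le_pCore ((PLocal.isPGroup_pCore 2 ↥K).map _)
          rwa [hO, le_bot_iff, map_eq_bot_iff_of_injective _ K.subtype_injective] at h1
        have hAc' := hcentral K le_normalizer_of_normal hcore
          fun e => htop (top_le_iff.1 (e.ge.trans (sup_le_sup_left hT K)))
        have hKc : centralizer (K : Set X) = ⊤ := top_le_iff.1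
          (hgen.ge.trans (normalClosure_le_normal hAc'))
        have hn : ((T : Subgroup X) ⊓ K).Normal := ⟨fun x hx g => by
          have := mem_centralizer_iff.1 (hKc ▸ mem_top g : g ∈ centralizer (K : Set X)) x hx.2
          rw [← this, mul_inv_cancel_right]
          exact hx⟩
        exact hTK (le_bot_iff.1 (hO ▸ PLocal.le_pCore (T.2.to_le inf_le_left)))
      gen := hgen }
  exact hbad (bound_of_sz hV hconf.isSzModOdd hAp hA2 hne)

/-- The bound for all orders. -/
theorem boundBelow (n : ℕ) : BoundBelow.{u} n := by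
  induction n with
  | zero => intro X V _ _ _ _ _ _ h; exact absurd h (Nat.not_lt_zero _)
  | succ n ih =>
    intro X V _ _ _ _ _ _ h hV hG hO A hA
    rcases Nat.lt_succ_iff_lt_or_eq.1 h with h | h
    · exact ih X V h hV hG hO A hA
    · exact bound_step ih h hV hG hO A hA

/-- **The offender bound.** -/
theorem card_sq_mul_card_fix_le (hV : ∀ v : V, v + v = 0) (hG : GoodX X) (hO : pCore 2 X = ⊥)
    (A : Subgroup X) (hA : IsElementaryAbelian 2 A) :
    Nat.card A ^ 2 * Nat.card (fixV A : AddSubgroup V) ≤ Nat.card V :=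
  boundBelow (Nat.card X + 1) X V (Nat.lt_succ_self _) hV hG hO A hA

/-- The action on the functionals. -/
def dualHom {X V : Type*} [Group X] [AddCommGroup V] [DistribMulAction X V] :
    X →* AddMonoid.End (V →+ ZMod 2) where
  toFun x := AddMonoidHom.mk' (fun f => f.comp (DistribSMul.toAddMonoidHom V x⁻¹))
    fun f g => AddMonoidHom.ext fun _ => rfl
  map_one' := AddMonoidHom.ext fun f => AddMonoidHom.ext fun v => by
    show f ((1 : X)⁻¹ • v) = f v
    rw [inv_one, one_smul]
  map_mul' x y := AddMonoidHom.ext fun f => AddMonoidHom.ext fun v => by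
    show f ((x * y)⁻¹ • v) = f (y⁻¹ • x⁻¹ • v)
    rw [mul_inv_rev, mul_smul]

/-- **The offender bound, dual form.** -/
theorem card_sq_le_card_commutator (hV : ∀ v : V, v + v = 0) (hG : GoodX X) (hO : pCore 2 X = ⊥)
    (A : Subgroup X) (hA : IsElementaryAbelian 2 A) :
    Nat.card A ^ 2 ≤
      Nat.card (AddSubgroup.closure {z : V | ∃ a ∈ A, ∃ v : V, a • v - v = z}) := by
  classical
  have : Finite (V →+ ZMod 2) := CharTwoW.finiteHomZMod
  letI iD : DistribMulAction X (V →+ ZMod 2) := DistribMulAction.compHom _ (dualHom (X := X) (V := V))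
  have hmk : ∀ (x : X) (f : V →+ ZMod 2) (v : V), (x • f) v = f (x⁻¹ • v) := fun _ _ _ => rfl
  have hfaith : FaithfulSMul X (V →+ ZMod 2) := ⟨fun {x y} h => by
    have h' : ∀ v : V, x⁻¹ • v = y⁻¹ • v := fun v => by
      by_contra hne
      obtain ⟨f, hf⟩ := CharTwoW.exists_hom_ne_zero hV (sub_ne_zero.2 hne)
      apply hf
      rw [map_sub, ← hmk, ← hmk, h f, sub_self]
    exact inv_injective (eq_of_smul_eq_smul (α := V) h')⟩
  set W := AddSubgroup.closure {z : V | ∃ a ∈ A, ∃ v : V, a • v - v = z} with hW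
  have hb := card_sq_mul_card_fix_le (V := V →+ ZMod 2)
    (fun f => AddMonoidHom.ext fun v => by
      show f v + f v = 0
      rw [← map_add, hV, map_zero]) hG hO A hA
  rw [CharTwoW.card_hom_zmod hV] at hb
  have hle : Nat.card (V ⧸ W) ≤ Nat.card (fixV A : AddSubgroup (V →+ ZMod 2)) := by
    rw [← CharTwoW.card_hom_zmod (P := V ⧸ W) fun z => by
      obtain ⟨v, rfl⟩ := QuotientAddGroup.mk_surjective z
      rw [← QuotientAddGroup.mk_add, hV]; rfl]
    refine Nat.card_le_card_of_injective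
      (fun f => (⟨f.comp (QuotientAddGroup.mk' W), fun a ha => AddMonoidHom.ext fun v => ?_⟩ :
        (fixV A : AddSubgroup (V →+ ZMod 2)))) fun f f' e => ?_
    · rw [hmk]
      refine congrArg f (?_ : (QuotientAddGroup.mk (a⁻¹ • v) : V ⧸ W) = QuotientAddGroup.mk v)
      rw [QuotientAddGroup.eq_iff_sub_mem]
      exact AddSubgroup.subset_closure ⟨a⁻¹, inv_mem ha, v, rfl⟩
    · exact QuotientAddGroup.addMonoidHom_ext W (congrArg Subtype.val e)
  refine Nat.le_of_mul_le_mul_right ?_ (Nat.card_pos : 0 < Nat.card (V ⧸ W))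
  rw [mul_comm (Nat.card W), ← W.card_eq_card_quotient_mul_card_addSubgroup]
  exact le_trans (Nat.mul_le_mul_left _ hle) hb

end CfsgLib.LocalEven.OffenderBound
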