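import Cfsg.Agent.LocalEven.OffenderBound.QuadCore
import Cfsg.Agent.LocalEven.OffenderBound.Bound
import Cfsg.Agent.NoOffender.Equivariant
import Cfsg.Agent.PLocal.Thompson
import Cfsg.Agent.S3011

/-!
No offenders on a module generated by the translates of a subgroup whose two-groups of operators
move more than their order to the `3/2`.
-/

set_option autoImplicit false

universe u

namespace CfsgLib.LocalEven.OffenderBound

open Cfsg Subgroup
open CfsgLib.NoOffender (fixV mem_fixV fixV_anti smulSub mem_smulSub smul_mem_smulSub stabS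
  smul_mem_iff_of_mem_stabS inv_iff_le_stabS kerOn mem_kerOn OffOn MinOff Inv)
open CfsgLib.MinNormal (conj_mem_of_le_normalizer le_normalizer_of_conj_mem)

variable {X V : Type u} [Group X] [AddCommGroup V] [DistribMulAction X V]

/-- Two-groups of operators on `D` move more than their order to the `3/2`. -/
def CondOn (X : Type u) {V : Type u} [Group X] [AddCommGroup V] [DistribMulAction X V]
    (D : AddSubgroup V) : Prop :=
  ∀ R : Subgroup X, IsPGroup 2 R → R ≤ stabS D → ¬ D ≤ fixV R →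
    (∀ a ∈ R, ∀ v ∈ D, a • a • v = v) →
    Nat.card R ^ 3 * Nat.card ↥(D ⊓ fixV R) ^ 2 < Nat.card D ^ 2 * Nat.card (kerOn R D) ^ 3

omit [DistribMulAction X V] [AddCommGroup V] in
theorem card_map_mul_card_ker_inf {Y : Type*} [Group Y] (f : X →* Y) (B : Subgroup X) :
    Nat.card (B.map f) * Nat.card ↥(f.ker ⊓ B) = Nat.card B := by
  rw [← relIndex_ker, ← inf_relIndex_right, mul_comm]
  exact PLocal.card_mul_relIndex inf_le_right

theorem CondOn.smul [Finite X] [Finite V] {D : AddSubgroup V} (h : CondOn X D) (x : X) :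
    CondOn X (smulSub x D) := by
  intro R hR hst hnt hinvol
  set f : X →* X := (MulAut.conj x⁻¹).toMonoidHom with hf
  set ι : V →+ V := DistribSMul.toAddMonoidHom V x with hι
  have hinj : Function.Injective ι := MulAction.injective x
  have hh : ∀ (b : X) (v : V), ι (f b • v) = b • ι v := fun b v => by
    show x • ((x⁻¹ * b * x⁻¹⁻¹) • v) = b • x • v
    simp [← mul_smul, mul_assoc]
  have hD : D.map ι = smulSub x D := rfl
  have hinj' : Function.Injective f := (MulAut.conj x⁻¹).injective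
  have hcard : Nat.card (R.map f) = Nat.card R :=
    (Nat.card_congr (R.equivMapOfInjective f hinj').toEquiv).symm
  have h1 := h (R.map f) (hR.map f)
    (inv_iff_le_stabS.1 ((NoOffender.inv_map_iff f ι hinj hh R D).2 (by
      rw [hD]; exact inv_iff_le_stabS.2 hst)))
    (fun hle => hnt fun w hw b hb => by
      obtain ⟨v, hv, rfl⟩ := hw
      show b • ι v = ι v
      rw [← hh, hle hv (f b) ⟨b, hb, rfl⟩])
    (by
      rintro _ ⟨a, ha, rfl⟩ v hv
      exact hinj (by rw [hh, hh, hinvol a ha (ι v) ⟨v, hv, rfl⟩]))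
  have h2 : Nat.card ↥(D ⊓ fixV (R.map f)) = Nat.card ↥(smulSub x D ⊓ fixV R) := by
    rw [← hD, ← NoOffender.map_inf_fixV f ι hinj hh]
    exact Nat.card_congr ((D ⊓ fixV (R.map f)).equivMapOfInjective ι hinj).toEquiv
  have h3 : Nat.card (kerOn (R.map f) D) = Nat.card (kerOn R (smulSub x D)) := by
    rw [← hD, ← NoOffender.map_kerOn f ι hinj hh]
    exact (Nat.card_congr ((kerOn R (D.map ι)).equivMapOfInjective f hinj').toEquiv).symm
  rw [hcard, h2, h3] at h1
  rwa [NoOffender.card_smulSub]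

/-- A normal two-group stabilising all translates moves more than the orders of its subgroups to
the `3/2`. -/
theorem pBound [FaithfulSMul X V] [Finite X] [Finite V] {D : AddSubgroup V} {P : Subgroup X}
    (hP : IsPGroup 2 P)
    (hPst : ∀ x : X, P ≤ stabS (smulSub x D)) (hgen : ⨆ x : X, smulSub x D = ⊤) (hc : CondOn X D)
    (B : Subgroup X) (hB : B ≤ P) (hBe : IsElementaryAbelian 2 B) (hB1 : B ≠ ⊥) :
    Nat.card B ^ 3 * Nat.card (fixV B : AddSubgroup V) ^ 2 < Nat.card V ^ 2 := by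
  induction hm : Nat.card B using Nat.strongRecOn generalizing B with
  | ind m ih =>
  subst hm
  obtain ⟨x, hx⟩ : ∃ x, ¬ smulSub x D ≤ fixV B := by
    by_contra hall
    push Not at hall
    refine hB1 (le_bot_iff.1 fun b hb => mem_bot.2 (eq_of_smul_eq_smul (α := V) fun v => ?_))
    rw [one_smul]
    exact (iSup_le hall) (hgen.ge (AddSubgroup.mem_top v)) b hb
  set Dx := smulSub x D with hDx
  set K := kerOn B Dx with hK
  have hKB : K ≤ B := inf_le_left
  have hKlt : Nat.card K < Nat.card B := lt_of_le_of_ne (card_le_of_le hKB) fun e => hx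
    fun v hv b hb => (mem_kerOn.1 ((eq_of_le_of_card_ge hKB e.ge).ge hb)).2 v hv
  have hfK : Nat.card K ^ 3 * Nat.card (fixV K : AddSubgroup V) ^ 2 ≤ Nat.card V ^ 2 := by
    by_cases hK1 : K = ⊥
    · rw [hK1, card_bot, one_pow, one_mul]
      exact Nat.pow_le_pow_left (AddSubgroup.card_le_card_addGroup _) 2
    · exact (ih _ hKlt K (hKB.trans hB) (PLocal.isElementaryAbelian_of_le hBe hKB) hK1 rfl).le
  have h1 := (hc.smul x) B (hP.to_le hB) (hB.trans (hPst x)) hx (fun b hb v _ => by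
    rw [← mul_smul, ← pow_two, hBe.2 b hb, one_smul])
  have hsum := NoOffender.card_sup_mul_card_inf Dx (fixV B)
  have hle : Nat.card ↥(Dx ⊔ fixV B) ≤ Nat.card (fixV K : AddSubgroup V) :=
    AddSubgroup.card_le_of_le (sup_le (fun v hv b hb => (mem_kerOn.1 hb).2 v hv) (fixV_anti hKB))
  refine Nat.lt_of_mul_lt_mul_right (a := Nat.card Dx ^ 2) ?_
  calc Nat.card B ^ 3 * Nat.card (fixV B : AddSubgroup V) ^ 2 * Nat.card Dx ^ 2
      = Nat.card B ^ 3 * (Nat.card ↥(Dx ⊔ fixV B) * Nat.card ↥(Dx ⊓ fixV B)) ^ 2 := by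
        rw [hsum]; ring
    _ ≤ Nat.card B ^ 3 * (Nat.card (fixV K : AddSubgroup V) * Nat.card ↥(Dx ⊓ fixV B)) ^ 2 :=
        Nat.mul_le_mul_left _ (Nat.pow_le_pow_left (Nat.mul_le_mul_right _ hle) 2)
    _ = Nat.card B ^ 3 * Nat.card ↥(Dx ⊓ fixV B) ^ 2 *
        Nat.card (fixV K : AddSubgroup V) ^ 2 := by ring
    _ < Nat.card Dx ^ 2 * Nat.card K ^ 3 * Nat.card (fixV K : AddSubgroup V) ^ 2 :=
        Nat.mul_lt_mul_of_pos_right h1 (pow_pos Nat.card_pos 2)
    _ ≤ Nat.card Dx ^ 2 * Nat.card V ^ 2 := by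
        rw [mul_assoc]; exact Nat.mul_le_mul_left _ hfK
    _ = _ := mul_comm _ _

/-- No offender in the stabiliser of a generating subgroup, for groups of order less than `n`. -/
def NoOff (n : ℕ) : Prop :=
  ∀ (X V : Type u) [Group X] [AddCommGroup V] [DistribMulAction X V] [FaithfulSMul X V]
    [Finite X] [Finite V], Nat.card X < n → (∀ v : V, v + v = 0) → GoodX X →
    ∀ (D : AddSubgroup V) (T : Subgroup X), IsPGroup 2 T → Odd T.index → T ≤ stabS D →
      ⨆ x : X, smulSub x D = ⊤ → CondOn X D →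
      ∀ A ≤ T, IsElementaryAbelian 2 A → ¬ OffOn A (⊤ : AddSubgroup V)

/-- A minimal offender fixes the translates of `D` under a smaller group. -/
theorem step {n : ℕ} (hn : NoOff.{u} n) [Finite X] [Finite V] (hV : ∀ v : V, v + v = 0)
    (hG : GoodX X) {D : AddSubgroup V} (hc : CondOn X D) {H1 S1 A : Subgroup X}
    (hlt : Nat.card H1 < n) (hS1 : S1 ≤ H1) (hS1p : IsPGroup 2 S1)
    (hodd : Odd (S1.relIndex H1)) (hst : S1 ≤ stabS D) (hA : A ≤ S1)
    (hAe : IsElementaryAbelian 2 A) (hmin : MinOff A (⊤ : AddSubgroup V)) {h : X} (hh : h ∈ H1) :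
    smulSub h D ≤ fixV A := by
  classical
  have : Fact (Nat.Prime 2) := ⟨Nat.prime_two⟩
  set V1 : AddSubgroup V := ⨆ g : H1, smulSub (g : X) D with hV1
  refine (le_iSup (fun g : H1 => smulSub (g : X) D) ⟨h, hh⟩).trans ?_
  show V1 ≤ fixV A
  have hDV1 : D ≤ V1 := fun v hv =>
    (le_iSup (fun g : H1 => smulSub (g : X) D) 1) (by rw [mem_smulSub]; simpa using hv)
  have hinv : ∀ g ∈ H1, ∀ v ∈ V1, g • v ∈ V1 := by
    intro g hg v hv
    refine AddSubgroup.iSup_induction (fun k : H1 => smulSub (k : X) D)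
      (C := fun v => g • v ∈ V1) hv (fun k v hv => ?_) ?_ fun v w hv hw => ?_
    · refine AddSubgroup.mem_iSup_of_mem (⟨g, hg⟩ * k) ?_
      rw [mem_smulSub, Subgroup.coe_mul, mul_inv_rev, mul_smul, inv_smul_smul]
      exact mem_smulSub.1 hv
    · rw [smul_zero]; exact zero_mem _
    · rw [smul_add]; exact add_mem hv hw
  refine (hmin.restrict le_top fun a ha => hinv a (hS1 (hA ha))).resolve_right fun hoff => ?_
  let ρ : ↥H1 →* AddMonoid.End V1 :=
    { toFun := fun x => ((DistribSMul.toAddMonoidHom V (x : X)).comp V1.subtype).codRestrict V1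
        fun v => hinv x x.2 v v.2
      map_one' := AddMonoidHom.ext fun v => Subtype.ext (one_smul X (v : V))
      map_mul' := fun x y => AddMonoidHom.ext fun v => Subtype.ext (mul_smul (x : X) y (v : V)) }
  let φ : ↥H1 →* ρ.toHomUnits.range := ρ.toHomUnits.rangeRestrict
  have hφ : Function.Surjective φ := ρ.toHomUnits.rangeRestrict_surjective
  have hmk : ∀ (x : ↥H1) (v : V1), V1.subtype (φ x • v) = x • V1.subtype v := fun _ _ => rfl
  have hsub : ∀ (x : ↥H1) (v : V), AddMonoidHom.id V (H1.subtype x • v) =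
      x • AddMonoidHom.id V v := fun _ _ => rfl
  set D' := D.addSubgroupOf V1 with hD'
  have hD'map : D'.map V1.subtype = D := by
    ext v
    exact ⟨by rintro ⟨w, hw, rfl⟩; exact hw, fun hv => ⟨⟨v, hDV1 hv⟩, hv, rfl⟩⟩
  set SH := S1.subgroupOf H1 with hSH
  have hmono : Nat.card ρ.toHomUnits.range < n :=
    lt_of_le_of_lt (Nat.card_le_card_of_surjective φ hφ) hlt
  have hgen' : ⨆ x : ρ.toHomUnits.range, smulSub x D' = ⊤ := by
    refine AddSubgroup.map_injective (f := V1.subtype) V1.subtype_injective ?_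
    rw [AddSubgroup.map_iSup]
    refine le_antisymm (iSup_le fun x => AddSubgroup.map_mono le_top) ?_
    rintro _ ⟨v, -, rfl⟩
    refine (iSup_le (fun g => ?_) :
      V1 ≤ ⨆ x : ρ.toHomUnits.range, (smulSub x D').map V1.subtype) v.2
    refine le_trans ?_ (le_iSup (fun x => (smulSub x D').map V1.subtype) (φ g))
    rintro _ ⟨w, hw, rfl⟩
    exact ⟨φ g • ⟨w, hDV1 hw⟩, smul_mem_smulSub hw, hmk g _⟩
  have hst' : SH.map φ ≤ stabS D' := inv_iff_le_stabS.1 <| by
    rw [NoOffender.inv_map_iff φ V1.subtype V1.subtype_injective hmk, hD'map]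
    exact fun b hb v hv => (smul_mem_iff_of_mem_stabS (hst hb)).2 hv
  have hcond : CondOn ρ.toHomUnits.range D' := by
    intro R hR hRst hRnt hRinv
    have hψ : Function.Surjective (φ.subgroupComap R) :=
      MonoidHom.subgroupComap_surjective_of_surjective _ _ hφ
    obtain ⟨Q⟩ : Nonempty (Sylow 2 ↥(R.comap φ)) := inferInstance
    set R0 : Subgroup ↥H1 := (Q : Subgroup ↥(R.comap φ)).map (R.comap φ).subtype with hR0
    have hR0R : R0.map φ = R := by
      have htop : (Q : Subgroup ↥(R.comap φ)).map (φ.subgroupComap R) = ⊤ := by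
        have := (Q.mapSurjective hψ).is_maximal'
          (hR.of_equiv (topEquiv (G := ↥R)).symm) le_top
        exact this.symm
      calc R0.map φ = ((Q : Subgroup ↥(R.comap φ)).map (φ.subgroupComap R)).map R.subtype := by
            rw [hR0, Subgroup.map_map, Subgroup.map_map]; rfl
        _ = R := by rw [htop, ← MonoidHom.range_eq_map, Subgroup.range_subtype]
    have hinvR : Inv R0 D := by
      have := (NoOffender.inv_map_iff φ V1.subtype V1.subtype_injective hmk R0 D').1
        (hR0R.symm ▸ inv_iff_le_stabS.2 hRst)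
      rwa [hD'map] at this
    set R1 := R0.map H1.subtype with hR1
    have hpt : ∀ (x : ↥H1) (v : V) (hv : v ∈ D),
        V1.subtype (φ x • ⟨v, hDV1 hv⟩) = (x : X) • v := fun x v hv => hmk x _
    have hc1 := hc R1 ((Q.isPGroup'.map _).map _)
      (inv_iff_le_stabS.1 (by rintro _ ⟨a, ha, rfl⟩ v hv; exact hinvR a ha v hv))
      (fun hle => hRnt (by
        intro w hw r hr
        obtain ⟨a, ha, rfl⟩ := hR0R.ge hr
        refine V1.subtype_injective ?_
        rw [hmk]
        exact hle (show (w : V) ∈ D from hw) a ⟨a, ha, rfl⟩))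
      (by
        rintro _ ⟨a, ha, rfl⟩ v hv
        have h1 := congrArg V1.subtype
          (hRinv (φ a) (hR0R.le ⟨a, ha, rfl⟩) ⟨v, hDV1 hv⟩ hv)
        rw [hmk, hmk] at h1
        exact h1)
    have e1 : Nat.card R1 = Nat.card R0 :=
      (Nat.card_congr (R0.equivMapOfInjective _ H1.subtype_injective).toEquiv).symm
    have e2 : Nat.card (kerOn R1 D) = Nat.card (kerOn R0 D) := by
      have h1 := NoOffender.map_kerOn (X' := X) H1.subtype (AddMonoidHom.id V) (fun _ _ e => e) hsub
        R0 D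
      rw [AddSubgroup.map_id] at h1
      rw [hR1, ← h1]
      exact (Nat.card_congr ((kerOn R0 D).equivMapOfInjective _ H1.subtype_injective).toEquiv).symm
    have e3 : Nat.card ↥(D ⊓ fixV R1) = Nat.card ↥(D' ⊓ fixV R) := by
      have h1 := NoOffender.map_inf_fixV (X' := X) H1.subtype (AddMonoidHom.id V) (fun _ _ e => e)
        hsub R0 D
      rw [AddSubgroup.map_id, AddSubgroup.map_id] at h1
      have h2 := NoOffender.map_inf_fixV φ V1.subtype V1.subtype_injective hmk R0 D'
      rw [hD'map, hR0R] at h2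
      rw [hR1, h1, ← h2]
      exact (Nat.card_congr ((D' ⊓ fixV R).equivMapOfInjective _ V1.subtype_injective).toEquiv).symm
    have e4 : Nat.card D' = Nat.card D := by
      conv_rhs => rw [← hD'map]
      exact Nat.card_congr (D'.equivMapOfInjective _ V1.subtype_injective).toEquiv
    have hk1 := card_map_mul_card_ker_inf φ R0
    rw [hR0R] at hk1
    have hk2 : Nat.card (kerOn R D') * Nat.card ↥(φ.ker ⊓ R0) = Nat.card (kerOn R0 D) := by
      have h1 := card_map_mul_card_ker_inf φ (kerOn R0 D)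
      have h2 := NoOffender.map_kerOn φ V1.subtype V1.subtype_injective hmk R0 D'
      rw [hD'map, hR0R] at h2
      rw [h2] at h1
      have hle : φ.ker ⊓ R0 ≤ kerOn R0 D := fun b hb => mem_kerOn.2 ⟨hb.2, fun v hv => by
        have h3 := hmk b ⟨v, hDV1 hv⟩
        rw [show φ b = 1 from hb.1, one_smul] at h3
        exact h3.symm⟩
      have e : φ.ker ⊓ kerOn R0 D = φ.ker ⊓ R0 :=
        le_antisymm (inf_le_inf_left _ inf_le_left) (le_inf inf_le_left hle)
      rwa [e] at h1
    rw [e1, e2, e3, ← e4, ← hk1, ← hk2] at hc1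
    refine Nat.lt_of_mul_lt_mul_right (a := Nat.card ↥(φ.ker ⊓ R0) ^ 3) ?_
    refine lt_of_eq_of_lt ?_ (lt_of_lt_of_eq hc1 ?_) <;> ring
  refine hn ρ.toHomUnits.range V1 hmono (fun v => Subtype.ext (hV v))
    ((hG.subgroup H1).of_surjective φ hφ) D' (SH.map φ)
    ((hS1p.comap_of_injective H1.subtype H1.subtype_injective).map φ)
    (Odd.of_dvd_nat hodd (index_map_dvd SH hφ)) hst' hgen' hcond ((A.subgroupOf H1).map φ)
    (map_mono fun a ha => hA ha)
    (PLocal.isElementaryAbelian_map (p := 2) ?_ φ) ?_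
  · exact ⟨⟨⟨fun a b => Subtype.ext (Subtype.ext
      (congrArg Subtype.val (hAe.1.is_comm.comm (⟨_, a.2⟩ : A) ⟨_, b.2⟩) :))⟩⟩,
      fun a ha => Subtype.ext (hAe.2 _ ha)⟩
  · rw [NoOffender.offOn_map_iff φ V1.subtype V1.subtype_injective hmk,
      ← AddMonoidHom.range_eq_map, AddSubgroup.range_subtype]
    have h1 := NoOffender.offOn_map_iff (X' := X) H1.subtype (AddMonoidHom.id V) (fun _ _ e => e)
      hsub (A.subgroupOf H1) V1
    rw [AddSubgroup.map_id, map_subgroupOf_eq_of_le (hA.trans hS1)] at h1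
    exact h1.1 hoff

set_option maxHeartbeats 1600000 in
theorem noOff_step {n : ℕ} (hn : NoOff.{u} n) [FaithfulSMul X V] [Finite X] [Finite V]
    (hX : Nat.card X = n) (hV : ∀ v : V, v + v = 0) (hG : GoodX X) (D : AddSubgroup V)
    (T : Subgroup X) (hTp : IsPGroup 2 T) (hTo : Odd T.index) (hTst : T ≤ stabS D)
    (hgen : ⨆ x : X, smulSub x D = ⊤) (hc : CondOn X D) (A0 : Subgroup X) (hA0T : A0 ≤ T)
    (hA0e : IsElementaryAbelian 2 A0) : ¬ OffOn A0 (⊤ : AddSubgroup V) := by
  classical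
  intro hoff0
  have : Fact (Nat.Prime 2) := ⟨Nat.prime_two⟩
  obtain ⟨A, hAA0, hmin⟩ := NoOffender.exists_minOff hoff0
  have hAT : A ≤ T := hAA0.trans hA0T
  have hAe : IsElementaryAbelian 2 A := PLocal.isElementaryAbelian_of_le hA0e hAA0
  have hquad : ∀ a ∈ A, ∀ v : V, a • v - v ∈ (fixV A : AddSubgroup V) :=
    fun a ha v b hb => hmin.quad hV a ha b hb v (AddSubgroup.mem_top v)
  have hAfix : ¬ (⊤ : AddSubgroup V) ≤ fixV A := hmin.1.nontriv
  have hfaith : ∀ a : X, (∀ v : V, a • v = v) → a = 1 := fun a ha =>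
    eq_of_smul_eq_smul (α := V) fun v => by rw [one_smul, ha v]
  have hoff : Nat.card V ≤ Nat.card A * Nat.card (fixV A : AddSubgroup V) := by
    have h1 := hmin.1.card_le
    rw [show kerOn A (⊤ : AddSubgroup V) = ⊥ from le_bot_iff.1 fun a ha =>
      mem_bot.2 (hfaith a fun v => (mem_kerOn.1 ha).2 v (AddSubgroup.mem_top v)),
      card_bot, mul_one, AddSubgroup.card_top, top_inf_eq] at h1
    exact h1
  have hT2 : ¬ 2 ∣ T.index := fun h => Nat.not_even_iff_odd.2 hTo (even_iff_two_dvd.2 h)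
  set P := pCore 2 X with hPdef
  have hPp : IsPGroup 2 P := PLocal.isPGroup_pCore 2 X
  have hPT : P ≤ T := PLocal.pCore_le_sylow (hTp.toSylow hT2)
  have hPst : ∀ x : X, P ≤ stabS (smulSub x D) := fun x => inv_iff_le_stabS.1 fun p hp v hv => by
    rw [mem_smulSub] at hv ⊢
    rw [show x⁻¹ • p • v = (x⁻¹ * p * x) • x⁻¹ • v by simp [← mul_smul, mul_assoc]]
    refine (smul_mem_iff_of_mem_stabS (hTst (hPT ?_))).2 hv
    simpa using (inferInstance : P.Normal).conj_mem p hp x⁻¹
  have hPb := pBound (X := X) hPp hPst hgen hc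
  have hA1 : A ≠ ⊥ := fun e => hAfix fun v _ b hb => by
    rw [e, mem_bot] at hb; rw [hb, one_smul]
  have hAP : ¬ A ≤ P := fun hle => by
    have h1 := hPb A hle hAe hA1
    have h2 := Nat.pow_le_pow_left hoff 2
    rw [mul_pow] at h2
    have h3 : Nat.card A ^ 2 ≤ Nat.card A ^ 3 := Nat.pow_le_pow_right Nat.card_pos (by norm_num)
    exact absurd (h2.trans (Nat.mul_le_mul_right _ h3)) (not_le.2 h1)
  set π := QuotientGroup.mk' P with hπ
  have hπs : Function.Surjective π := QuotientGroup.mk'_surjective P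
  have hπk : π.ker = P := QuotientGroup.ker_mk' P
  have hAcard : Nat.card (A.map π) * Nat.card ↥(A ⊓ P) = Nat.card A := by
    have e : π.ker ⊓ A = A ⊓ P := by rw [hπk, inf_comm]
    have h1 := card_map_mul_card_ker_inf π A
    rwa [e] at h1
  obtain ⟨x0, hx0, hx0P⟩ := SetLike.not_le_iff_exists.1 hAP
  by_cases h4 : Nat.card (A.map π) < 4
  · -- an involution inverting an element of order five
    have hx2 : orderOf x0 = 2 := orderOf_eq_prime (hAe.2 x0 hx0) fun e => hx0P (e ▸ one_mem P)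
    obtain ⟨h, hh1, hho, hhinv⟩ := Cfsg.Agent.S3011.exists_inverted hx2 hx0P
    have hne : orderOf h ≠ 1 := fun e => hh1 (orderOf_eq_one_iff.1 e)
    set r := (orderOf h).minFac with hr
    have hrp : r.Prime := Nat.minFac_prime hne
    have hr2 : r ≠ 2 := fun e => by
      have := Nat.minFac_dvd (orderOf h)
      rw [← hr, e] at this
      exact absurd (even_iff_two_dvd.2 this) (Nat.not_even_iff_odd.2 hho)
    set s := h ^ (orderOf h / r) with hs
    have hso : orderOf s = r :=
      orderOf_pow_orderOf_div (orderOf_pos h).ne' (Nat.minFac_dvd _)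
    have hsinv : x0 * s * x0⁻¹ = s⁻¹ := by rw [hs, ← conj_pow, hhinv, inv_pow]
    refine quad_offender_false hV hPp hPb hAe hquad hoff hx0 hsinv hrp hr2 hso Nat.one_pos
      (Or.inr ⟨rfl, fun e => hG.not_inverted_three (e ▸ hso) ⟨1, by rw [pow_one]; exact hx2⟩ hsinv⟩) ?_
    obtain ⟨i, hi⟩ := IsPGroup.iff_card.1 ((hTp.to_le hAT).map π)
    rw [hi] at h4
    have hi2 : i < 2 := (Nat.pow_lt_pow_iff_right (by norm_num : 1 < 2)).1 (by simpa using h4)
    rw [← hAcard, hi]
    exact Nat.mul_le_mul_right _ (Nat.pow_le_pow_right two_pos (by omega))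
  push Not at h4
  -- the fixing subgroup of `D`
  set K0 := fixingSubgroup X (D : Set V) with hK0
  have hmemK0 : ∀ x, x ∈ K0 ↔ ∀ v ∈ D, x • v = v := fun x => mem_fixingSubgroup_iff X
  have hTtop : T ≠ ⊤ := fun e => hAP (le_top.trans
    (PLocal.le_pCore (N := (⊤ : Subgroup X)) (e ▸ hTp)))
  have hlt : ∀ H : Subgroup X, H ≠ ⊤ → Nat.card H < n := fun H hH =>
    hX ▸ lt_of_le_of_ne (card_le_card_group H) fun e => hH (eq_top_of_card_eq H e)
  have stepH : ∀ H : Subgroup X, H ≠ ⊤ → A ≤ H → Odd (T.relIndex H) → ∀ g ∈ H,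
      smulSub g D ≤ fixV A := fun H hH hAH ho g hg =>
    step hn hV hG hc (hlt H hH) (inf_le_right : T ⊓ H ≤ H) (hTp.to_le inf_le_left)
      (by rwa [inf_relIndex_right]) (inf_le_left.trans hTst) (le_inf hAT hAH) hAe hmin hg
  have hAK0 : A ≤ K0 := fun a ha => (hmemK0 a).2 fun v hv =>
    stepH T hTtop hAT (by rw [relIndex_self]; exact odd_one) 1 (one_mem T)
      (by rw [mem_smulSub, inv_one, one_smul]; exact hv) a ha
  -- normal subgroups meeting `T` outside `P`
  have hnormal : ∀ K : Subgroup X, K.Normal → ¬ T ⊓ K ≤ P → K ⊔ A ≠ ⊤ → False := by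
    intro K hKn hTK hKA
    set N1 := normalizer ((T ⊓ K : Subgroup X) : Set X) with hN1
    have hN1top : N1 ≠ ⊤ := fun e => hTK (by
      have : (T ⊓ K).Normal := normalizer_eq_top_iff.1 e
      exact PLocal.le_pCore (hTp.to_le inf_le_left))
    have hTN1 : T ≤ N1 := le_normalizer_of_conj_mem fun t ht k hk =>
      mem_inf.2 ⟨mul_mem (mul_mem ht hk.1) (inv_mem ht), hKn.conj_mem k hk.2 t⟩
    have hKo : Odd (T.relIndex K) := odd_relIndex_of_normal hTo K
    have hH3o : Odd (T.relIndex (K ⊔ A)) := by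
      rw [sup_comm]
      exact odd_relIndex_sup (le_normalizer_of_normal : A ≤ normalizer (K : Set X)) hKo
        (by rw [relIndex_eq_one.2 hAT]; exact odd_one)
    refine hAfix (hgen.ge.trans (iSup_le fun x => ?_))
    have hfr : K ⊔ N1 = ⊤ := by
      have hp2 : IsPGroup 2 ((T ⊓ K).subgroupOf K) :=
        (hTp.to_le inf_le_left).comap_of_injective K.subtype K.subtype_injective
      let S : Sylow 2 K := hp2.toSylow (by
        show ¬ 2 ∣ (T ⊓ K).relIndex K
        rw [inf_relIndex_right]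
        exact fun h => Nat.not_even_iff_odd.2 hKo (even_iff_two_dvd.2 h))
      have h1 := Sylow.normalizer_sup_eq_top S
      rw [show ((S : Subgroup K).map K.subtype) = T ⊓ K from
        map_subgroupOf_eq_of_le inf_le_right, sup_comm] at h1
      exact h1
    obtain ⟨k, hk, m, hm, rfl⟩ := mem_sup_of_normal_left.1 (hfr ▸ mem_top x : x ∈ K ⊔ N1)
    have hAm : smulSub m D ≤ fixV A := stepH N1 hN1top (hAT.trans hTN1)
      (hTo.of_dvd_nat (relIndex_dvd_index_of_le hTN1)) m hm
    have hle : T ⊓ (K ⊔ A) ≤ stabS (smulSub m D) := by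
      intro t ht
      obtain ⟨k', hk', a, ha, rfl⟩ := mem_sup_of_normal_left.1 ht.2
      refine mul_mem ((inv_iff_le_stabS (B := T ⊓ K)).1 (fun q hq v hv => ?_)
        (mem_inf.2 ⟨?_, hk'⟩ : k' ∈ T ⊓ K)) ((inv_iff_le_stabS (B := A)).1 (fun b hb v hv => ?_) ha)
      · rw [mem_smulSub] at hv ⊢
        rw [show m⁻¹ • q • v = (m⁻¹ * q * m) • m⁻¹ • v by simp [← mul_smul, mul_assoc]]
        refine (smul_mem_iff_of_mem_stabS (hTst ?_)).2 hv
        exact ((mem_normalizer_iff''.1 hm q).1 hq).1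
      · simpa using T.mul_mem ht.1 (T.inv_mem (hAT ha))
      · rw [hAm hv b hb]; exact hv
    have h2 := step hn hV hG (hc.smul m) (hlt _ hKA) (inf_le_right : T ⊓ (K ⊔ A) ≤ K ⊔ A)
      (hTp.to_le inf_le_left) (by rwa [inf_relIndex_right]) hle (le_inf hAT le_sup_right) hAe hmin
      (mem_sup_left hk)
    intro v hv
    refine h2 ?_
    rw [mem_smulSub, mem_smulSub, ← mul_smul, ← mul_inv_rev]
    exact mem_smulSub.1 hv
  set F0 := K0.map π with hF0
  have hcomapT : (T.map π).comap π = T := by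
    rw [comap_map_eq, hπk, sup_eq_left.2 hPT]
  have hrel : ∀ H : Subgroup (X ⧸ P), T.relIndex (H.comap π) = (T.map π).relIndex H := by
    intro H
    conv_lhs => rw [← hcomapT]
    rw [relIndex_comap, map_comap_eq_self_of_surjective hπs]
  have hcomap_ne : ∀ H : Subgroup (X ⧸ P), H ≠ ⊤ → H.comap π ≠ ⊤ := fun H hH e => hH (by
    rw [← map_comap_eq_self_of_surjective hπs H, e, map_top_of_surjective π hπs])
  have hconf : Config (X ⧸ P) (T.map π) (A.map π) F0 :=
    { good := hG.of_surjective π hπs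
      core := PLocal.pCore_quotient_pCore_eq_bot 2 X
      pgroup := hTp.map π
      oddIndex := hTo.of_dvd_nat (index_map_dvd T hπs)
      elab_A := PLocal.isElementaryAbelian_map hAe π
      four := h4
      le_T := map_mono hAT
      le_F := map_mono hAK0
      T_le := le_normalizer_of_conj_mem (by
        rintro _ ⟨t, ht, rfl⟩ _ ⟨k, hk, rfl⟩
        refine ⟨t * k * t⁻¹, (hmemK0 _).2 fun v hv => ?_, by simp⟩
        have h1 : t⁻¹ • v ∈ D := (smul_mem_iff_of_mem_stabS (inv_mem (hTst ht))).2 hv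
        rw [mul_smul, mul_smul, (hmemK0 k).1 hk _ h1, smul_inv_smul])
      F_ne := fun e => by
        have h1 : K0 ⊔ P = ⊤ := by
          rw [← hπk, ← comap_map_eq, ← hF0, e, comap_top]
        have h2 : (⊤ : Subgroup X) ≤ stabS D := h1.ge.trans (sup_le (fun k hk =>
          (inv_iff_le_stabS (B := K0)).1 (fun b hb v hv => by rw [(hmemK0 b).1 hb v hv]; exact hv) hk)
          (hPT.trans hTst))
        have h3 : D = ⊤ := top_le_iff.1 (hgen.ge.trans (iSup_le fun x => le_of_eq (h2 (mem_top x))))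
        refine hAP (le_trans le_top (h1.ge.trans (sup_le (fun k hk => ?_) le_rfl)))
        rw [hfaith k fun v => (hmemK0 k).1 hk v (h3 ▸ AddSubgroup.mem_top v)]
        exact one_mem P
      fam := fun W _ _ hWA ho w hw a ha => by
        obtain ⟨a, ha', rfl⟩ := ha
        obtain ⟨w, rfl⟩ := hπs w
        set H := (W ⊔ A.map π).comap π with hH
        have hAH : A ≤ H := fun b hb => mem_sup_right ⟨b, hb, rfl⟩
        refine ⟨w * a * w⁻¹, (hmemK0 _).2 fun v hv => ?_, by simp⟩
        have h1 := stepH H (hcomap_ne _ hWA) hAH (by rwa [hrel]) w⁻¹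
          (inv_mem (mem_sup_left hw : π w ∈ W ⊔ A.map π))
        rw [mul_smul, mul_smul, h1 (smul_mem_smulSub hv) a ha', smul_inv_smul]
      normal_sup := fun K hK hTK => by
        by_contra hne
        refine hnormal (K.comap π) inferInstance (fun hle => hTK ?_) fun e => hne ?_
        · rw [eq_bot_iff]
          rintro _ ⟨⟨t, ht, rfl⟩, hz⟩
          exact mem_bot.2 ((QuotientGroup.eq_one_iff t).2 (hle ⟨ht, hz⟩))
        · refine top_le_iff.1 ?_
          rw [← map_top_of_surjective π hπs, ← e, Subgroup.map_sup,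
            map_comap_eq_self_of_surjective hπs]
          exact sup_le_sup_left (map_mono hAT) K
      gen := by
        by_contra hne
        set K := (normalClosure ((A.map π : Subgroup (X ⧸ P)) : Set (X ⧸ P))).comap π with hK
        have hAK : A ≤ K := fun b hb => subset_normalClosure ⟨b, hb, rfl⟩
        exact hnormal K inferInstance (fun hle => hAP fun b hb => hle ⟨hAT hb, hAK hb⟩)
          (by rw [sup_eq_left.2 hAK]; exact hcomap_ne _ hne) }
  obtain ⟨F, iF, iF', m, hm, f, hf, hker⟩ := hconf.isSzModOdd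
  set φ := f.comp π with hφ
  have hφs : Function.Surjective φ := hf.comp hπs
  have hinj : ∀ a ∈ A.map π, f a = 1 → a = 1 := fun a ha h => orderOf_eq_one_iff.1
    (Nat.eq_one_of_dvd_coprimes (Nat.coprime_two_left.2 hker)
      (orderOf_dvd_of_pow_eq_one ((PLocal.isElementaryAbelian_map hAe π).2 a ha))
      (f.ker.orderOf_dvd_natCard h))
  have hq : Nat.card (A.map π) ≤ 2 ^ (2 * m + 1) := by
    rw [← hm.card_eq]
    have he : Nat.card (A.map π) = Nat.card ((A.map π).map f) :=
      Nat.card_eq_of_bijective (f.subgroupMap (A.map π)) ⟨fun y z e => Subtype.ext (by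
        have h1 : f ((y : X ⧸ P) * (z : X ⧸ P)⁻¹) = 1 := by
          rw [map_mul, map_inv, show f y = f z from congrArg Subtype.val e, mul_inv_cancel]
        exact mul_inv_eq_one.1 (hinj _ (mul_mem y.2 (inv_mem z.2)) h1)),
        f.subgroupMap_surjective _⟩
    rw [he]
    refine card_elab_le_sz hm (((hTp.to_le hAT).map π).map f) ?_
    rintro _ ⟨a, ha, rfl⟩
    rw [← map_mul, ← pow_two, (PLocal.isElementaryAbelian_map hAe π).2 a ha, map_one]
  obtain ⟨r, hr, hr2, hdet, hprod⟩ := ModuleBounds.exists_sz_product hm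
  have hx2 : x0 * x0 = 1 := by rw [← pow_two]; exact hAe.2 x0 hx0
  have hφx : orderOf (φ x0) = 2 := by
    refine orderOf_eq_prime (by rw [pow_two, ← map_mul, hx2, map_one]) fun e => hx0P ?_
    exact (QuotientGroup.eq_one_iff x0).1 (hinj _ ⟨x0, hx0, rfl⟩ e)
  obtain ⟨g0, g1, hR⟩ := hprod (φ x0) hφx
  rw [zero_add, pow_one] at hR
  obtain ⟨h0, rfl⟩ := hφs g0
  obtain ⟨h1, rfl⟩ := hφs g1
  rw [← map_inv, ← map_inv, ← map_mul, ← map_mul, ← map_mul, ← map_mul, ← map_mul] at hR
  set g := h0⁻¹ * h1 with hg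
  set y := x0 * (g * x0 * g⁻¹) with hy
  have hdvd : r ∣ orderOf y := by
    refine hR.trans ((orderOf_map_dvd φ _).trans (dvd_of_eq ?_))
    rw [← Small.orderOf_conj_eq h0 y, hy, hg]
    congr 1
    group
  set s := y ^ (orderOf y / r) with hs
  have hso : orderOf s = r := orderOf_pow_orderOf_div (orderOf_pos y).ne' hdvd
  have hxi : x0⁻¹ = x0 := inv_eq_of_mul_eq_one_right hx2
  have hsinv : x0 * s * x0⁻¹ = s⁻¹ := by
    rw [hs, ← conj_pow, ← inv_pow, hy]
    congr 1
    calc x0 * (x0 * (g * x0 * g⁻¹)) * x0⁻¹ = (x0 * x0) * (g * x0 * g⁻¹) * x0⁻¹ := by group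
      _ = g * x0⁻¹ * g⁻¹ * x0⁻¹ := by rw [hx2, hxi, one_mul]
      _ = _ := by group
  refine quad_offender_false hV hPp hPb hAe hquad hoff hx0 hsinv hr hr2 hso
    (k := 2 * m + 1) (by omega) (Or.inl fun j hj => ?_) ?_
  · rw [show 4 * (2 * m + 1) = 2 * (2 * (2 * m + 1)) by ring]
    exact hdet j (by simpa using hj)
  · rw [← hAcard]
    exact Nat.mul_le_mul_right _ hq

theorem noOff (n : ℕ) : NoOff.{u} n := by
  induction n with
  | zero => intro X V _ _ _ _ _ _ h; exact absurd h (Nat.not_lt_zero _)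
  | succ n ih =>
    intro X V _ _ _ _ _ _ h
    rcases Nat.lt_succ_iff_lt_or_eq.1 h with h | h
    · exact ih X V h
    · intro hV hG D T h1 h2 h3 h4 h5
      exact noOff_step ih h hV hG D T h1 h2 h3 h4 h5

/-- **No offender fixes a generating subgroup with the condition.** -/
theorem not_offOn [FaithfulSMul X V] [Finite X] [Finite V] (hV : ∀ v : V, v + v = 0)
    (hG : GoodX X) (D : AddSubgroup V) (T : Subgroup X) (hTp : IsPGroup 2 T) (hTo : Odd T.index)
    (hTst : T ≤ stabS D) (hgen : ⨆ x : X, smulSub x D = ⊤) (hc : CondOn X D)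
    (A : Subgroup X) (hA : A ≤ T) (hAe : IsElementaryAbelian 2 A) :
    ¬ OffOn A (⊤ : AddSubgroup V) :=
  noOff (Nat.card X + 1) X V (Nat.lt_succ_self _) hV hG D T hTp hTo hTst hgen hc A hA hAe

end CfsgLib.LocalEven.OffenderBound
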