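import Cfsg.Agent.LocalEven.OffenderBound.Hyp
import Cfsg.Agent.MinNormal.Factors
import Cfsg.Agent.PLocal.CommutatorFacts
import Cfsg.Agent.PLocal.Cores
import Cfsg.Agent.Coprime.Generation
import Cfsg.Agent.DicksonPSL2.Counting

/-!
The configuration left by the offender arguments: a group `X` with `O₂(X) = 1`, an elementary
abelian subgroup `A` of order at least `4` in a Sylow 2-subgroup `T`, and a proper subgroup `F0`
normalised by `T` which contains the conjugates of `A` under every `A`-invariant subgroup `W` with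
`O₂(W) = 1`, `W A` proper and `T ⊓ W A` Sylow in `W A`.
-/

set_option autoImplicit false

universe u

namespace CfsgLib.LocalEven.OffenderBound

open Cfsg Subgroup
open CfsgLib.DicksonPSL2 (conjS mem_conjS conjS_mul conjS_one)
open CfsgLib.MinNormal (IsMinNormal IsFactor conj_mem_of_le_normalizer le_normalizer_of_conj_mem)

/-! ### Odd index -/

section OddIndex

variable {X : Type u} [Group X] [Finite X] {T : Subgroup X}

theorem odd_relIndex_sup_of_odd {A W : Subgroup X} (hA : A ≤ T)
    (hn : A ≤ normalizer (W : Set X)) (hW : Odd (Nat.card W)) : Odd (T.relIndex (W ⊔ A)) := by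
  refine Odd.of_dvd_nat ?_ (relIndex_dvd_of_le_left (W ⊔ A) hA)
  have h1 := PLocal.card_sup_mul_card_inf hn
  have h2 := PLocal.card_mul_relIndex (le_sup_right : A ≤ W ⊔ A)
  rw [sup_comm, ← h2, mul_assoc] at h1
  have h3 := Nat.eq_of_mul_eq_mul_left Nat.card_pos h1
  exact Odd.of_dvd_nat hW ⟨_, h3.symm⟩

theorem odd_relIndex_of_normal (hT : Odd T.index) (K : Subgroup X) [K.Normal] :
    Odd (T.relIndex K) := by
  have h1 := PLocal.card_sup_mul_card_inf (le_normalizer_of_normal : T ≤ normalizer (K : Set X))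
  have h2 := PLocal.card_mul_relIndex (le_sup_left : T ≤ T ⊔ K)
  have h3 : Nat.card ↥(T ⊓ K) * T.relIndex K = Nat.card K := by
    rw [← inf_relIndex_right]
    exact PLocal.card_mul_relIndex inf_le_right
  rw [← h2, ← h3, mul_assoc] at h1
  have h4 := Nat.eq_of_mul_eq_mul_left Nat.card_pos h1
  rw [mul_comm (T.relIndex (T ⊔ K))] at h4
  rw [← Nat.eq_of_mul_eq_mul_left Nat.card_pos h4]
  exact hT.of_dvd_nat (relIndex_dvd_index_of_le le_sup_left)

/-- If `T` meets two subgroups, one normalising the other, in Sylow subgroups, it meets their join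
in one. -/
theorem odd_relIndex_sup {H1 H2 : Subgroup X} (hn : H2 ≤ normalizer (H1 : Set X))
    (o1 : Odd (T.relIndex H1)) (o2 : Odd (T.relIndex H2)) : Odd (T.relIndex (H2 ⊔ H1)) := by
  have hn' : T ⊓ H2 ≤ normalizer ((T ⊓ H1 : Subgroup X) : Set X) :=
    le_normalizer_of_conj_mem fun l hl k hk =>
      ⟨T.mul_mem (T.mul_mem hl.1 hk.1) (T.inv_mem hl.1), conj_mem_of_le_normalizer hn hl.2 hk.2⟩
  have hS := PLocal.card_sup_mul_card_inf hn'
  have hH := PLocal.card_sup_mul_card_inf hn
  have hH' : Nat.card ↥(T ⊓ (H2 ⊔ H1)) * T.relIndex (H2 ⊔ H1) = Nat.card ↥(H2 ⊔ H1) := by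
    rw [← inf_relIndex_right]
    exact PLocal.card_mul_relIndex inf_le_right
  have h1 : Nat.card ↥(T ⊓ H1) * T.relIndex H1 = Nat.card H1 := by
    rw [← inf_relIndex_right]
    exact PLocal.card_mul_relIndex inf_le_right
  have h2 : Nat.card ↥(T ⊓ H2) * T.relIndex H2 = Nat.card H2 := by
    rw [← inf_relIndex_right]
    exact PLocal.card_mul_relIndex inf_le_right
  have hle : T ⊓ H2 ⊔ T ⊓ H1 ≤ T ⊓ (H2 ⊔ H1) := le_inf (sup_le inf_le_left inf_le_left)
    (sup_le_sup inf_le_right inf_le_right)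
  have hle' : T ⊓ H2 ⊓ (T ⊓ H1) ≤ H2 ⊓ H1 := inf_le_inf inf_le_right inf_le_right
  obtain ⟨i, hi⟩ := card_dvd_of_le hle
  obtain ⟨j, hj⟩ := card_dvd_of_le hle'
  refine Odd.of_dvd_nat (o2.mul o1) ⟨i * j, ?_⟩
  have h0 : 0 < Nat.card ↥(T ⊓ H2 ⊔ T ⊓ H1) * Nat.card ↥(T ⊓ H2 ⊓ (T ⊓ H1)) :=
    mul_pos Nat.card_pos Nat.card_pos
  refine Nat.eq_of_mul_eq_mul_left h0 ?_
  calc Nat.card ↥(T ⊓ H2 ⊔ T ⊓ H1) * Nat.card ↥(T ⊓ H2 ⊓ (T ⊓ H1)) *
      (T.relIndex H2 * T.relIndex H1)
      = Nat.card ↥(T ⊓ H2) * T.relIndex H2 * (Nat.card ↥(T ⊓ H1) * T.relIndex H1) := by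
        rw [hS]; ring
    _ = Nat.card ↥(H2 ⊔ H1) * Nat.card ↥(H2 ⊓ H1) := by rw [h1, h2, hH]
    _ = _ := by rw [← hH', hi, hj]; ring

theorem odd_relIndex_finset_sup {ι : Type*} (s : Finset ι) (f : ι → Subgroup X)
    (ho : ∀ i ∈ s, Odd (T.relIndex (f i)))
    (hn : ∀ i ∈ s, ∀ j ∈ s, f i ≤ normalizer (f j : Set X)) : Odd (T.relIndex (s.sup f)) := by
  classical
  induction s using Finset.induction_on with
  | empty => simp
  | insert a t _ ih =>
    rw [Finset.sup_insert]
    refine odd_relIndex_sup ?_ (ih (fun i hi => ho i (Finset.mem_insert_of_mem hi))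
      fun i hi j hj => hn i (Finset.mem_insert_of_mem hi) j (Finset.mem_insert_of_mem hj))
      (ho a (Finset.mem_insert_self a t))
    intro x hx
    have hx' : ∀ j ∈ t, conjS x (f j) = f j := fun j hj => (DicksonPSL2.conjS_eq_self_iff).2
      (hn a (Finset.mem_insert_self a t) j (Finset.mem_insert_of_mem hj) hx)
    refine (DicksonPSL2.conjS_eq_self_iff).1 ?_
    rw [conjS, Finset.sup_eq_iSup]
    simp only [Subgroup.map_iSup]
    exact iSup_congr fun j => iSup_congr fun hj => hx' j hj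

end OddIndex

theorem pCore_eq_bot_of_odd {X : Type u} [Group X] [Finite X] {W : Subgroup X}
    (hW : Odd (Nat.card W)) : pCore 2 ↥W = ⊥ := by
  have : Fact (Nat.Prime 2) := ⟨Nat.prime_two⟩
  obtain ⟨k, hk⟩ := IsPGroup.iff_card.1 (PLocal.isPGroup_pCore 2 ↥W)
  rcases Nat.eq_zero_or_pos k with rfl | hk0
  · exact eq_bot_of_card_eq _ hk
  · have h := hW.of_dvd_nat (card_subgroup_dvd_card (pCore 2 ↥W))
    rw [hk] at h
    exact absurd (Nat.even_pow.2 ⟨even_two, hk0.ne'⟩) (Nat.not_even_iff_odd.2 h)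

/-- The configuration. -/
structure Config (X : Type u) [Group X] (T A F0 : Subgroup X) : Prop where
  good : GoodX X
  core : pCore 2 X = ⊥
  pgroup : IsPGroup 2 T
  oddIndex : Odd T.index
  elab_A : IsElementaryAbelian 2 A
  four : 4 ≤ Nat.card A
  le_T : A ≤ T
  le_F : A ≤ F0
  T_le : T ≤ normalizer (F0 : Set X)
  F_ne : F0 ≠ ⊤
  fam : ∀ W : Subgroup X, A ≤ normalizer (W : Set X) → pCore 2 ↥W = ⊥ → W ⊔ A ≠ ⊤ →
    Odd (T.relIndex (W ⊔ A)) → ∀ w ∈ W, ∀ a ∈ A, w * a * w⁻¹ ∈ F0
  normal_sup : ∀ K : Subgroup X, K.Normal → T ⊓ K ≠ ⊥ → K ⊔ T = ⊤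
  gen : normalClosure (A : Set X) = ⊤

namespace Config

variable {X : Type u} [Group X] [Finite X] {T A F0 : Subgroup X}

omit [Finite X] in
theorem eq_bot_of_pgroup (h : Config X T A F0) {K : Subgroup X} [K.Normal] (hK : IsPGroup 2 K) :
    K = ⊥ :=
  le_bot_iff.1 ((PLocal.le_pCore hK).trans h.core.le)

omit [Finite X] in
theorem eq_top_of_le (h : Config X T A F0) {K : Subgroup X} [K.Normal] (hK : A ≤ K) : K = ⊤ :=
  top_le_iff.1 (h.gen.ge.trans (normalClosure_le_normal hK))

omit [Finite X] in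
theorem comm (h : Config X T A F0) {a b : X} (ha : a ∈ A) (hb : b ∈ A) : a * b = b * a :=
  congrArg Subtype.val (h.elab_A.1.is_comm.comm (⟨a, ha⟩ : A) ⟨b, hb⟩)

omit [Finite X] in
theorem mul_self (h : Config X T A F0) {a : X} (ha : a ∈ A) : a * a = 1 := by
  rw [← pow_two]; exact h.elab_A.2 a ha

theorem isPGroup_A (h : Config X T A F0) : IsPGroup 2 A := h.pgroup.to_le h.le_T

theorem centralizer_singleton_ne_top (h : Config X T A F0) {a : X} (ha : a ∈ A) (ha1 : a ≠ 1) :
    centralizer ({a} : Set X) ≠ ⊤ := by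
  intro hc
  have hn : (zpowers a).Normal := by
    refine ⟨fun x hx g => ?_⟩
    obtain ⟨k, rfl⟩ := hx
    have hg : g ∈ centralizer ({a} : Set X) := hc ▸ mem_top g
    rw [mem_centralizer_singleton_iff] at hg
    rw [show g * a ^ k * g⁻¹ = a ^ k from by
      rw [(Commute.zpow_right (show Commute g a from hg) k).eq, mul_inv_cancel_right]]
    exact ⟨k, rfl⟩
  have := h.eq_bot_of_pgroup (h.isPGroup_A.to_le (zpowers_le.2 ha))
  exact ha1 (zpowers_eq_bot.1 this)

theorem commutator_mem (h : Config X T A F0) {W : Subgroup X} (hn : A ≤ normalizer (W : Set X))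
    (hW : Odd (Nat.card W)) (hne : W ⊔ A ≠ ⊤) {x a : X} (hx : x ∈ W) (ha : a ∈ A) :
    x * a * x⁻¹ * a⁻¹ ∈ F0 :=
  mul_mem (h.fam W hn (pCore_eq_bot_of_odd hW) hne (odd_relIndex_sup_of_odd h.le_T hn hW) x hx a ha)
    (inv_mem (h.le_F ha))

theorem not_isCyclic (h : Config X T A F0) : ¬ IsCyclic A := by
  intro hc
  obtain ⟨g, hg⟩ := hc.exists_ofOrder_eq_natCard
  have hle : orderOf g ≤ 2 :=
    Nat.le_of_dvd two_pos (orderOf_dvd_of_pow_eq_one (Subtype.ext (by simpa using h.elab_A.2 g g.2)))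
  have := h.four
  omega

/-- `X` is not the product of an odd normal subgroup and `A`. -/
theorem odd_sup_ne_top (h : Config X T A F0) {W : Subgroup X} [W.Normal]
    (hW : Odd (Nat.card W)) : W ⊔ A ≠ ⊤ := by
  intro htop
  have := h.elab_A.1
  have hcop : (Nat.card A).Coprime (Nat.card W) := by
    obtain ⟨k, hk⟩ := IsPGroup.iff_card.1 h.isPGroup_A
    rw [hk]
    exact Nat.Coprime.pow_left k (Nat.coprime_two_left.2 hW)
  have hAsolv : Group.IsSolvable A :=
    Group.isSolvable_of_comm fun a b => Subtype.ext (h.comm a.2 b.2)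
  set S : Set X := {x | ∃ c ∈ W, ∃ a ∈ A, (∃ a' ∈ A, a' ≠ 1 ∧ a' * c = c * a') ∧ c * a * c⁻¹ = x}
    with hS
  set U := closure S with hU
  have hWA : A ≤ normalizer (W : Set X) := le_normalizer_of_normal
  have hUF : U ≤ F0 := by
    rw [hU, closure_le]
    rintro _ ⟨c, hc, a, ha, ⟨a', ha', ha'1, hcomm⟩, rfl⟩
    set W' := W ⊓ centralizer ({a'} : Set X) with hW'
    have hn : A ≤ normalizer (W' : Set X) := le_normalizer_of_conj_mem fun b hb k hk =>
      ⟨conj_mem_of_le_normalizer hWA hb hk.1, mem_centralizer_singleton_iff.2 (by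
        have hka := mem_centralizer_singleton_iff.1 hk.2
        have hba := h.comm hb ha'
        have hba' := h.comm (inv_mem hb) ha'
        calc b * k * b⁻¹ * a' = b * (k * a') * b⁻¹ := by simp only [mul_assoc]; rw [hba']
          _ = b * (a' * k) * b⁻¹ := by rw [hka]
          _ = a' * (b * k * b⁻¹) := by rw [← mul_assoc b, hba]; simp only [mul_assoc])⟩
    have hW'o : Odd (Nat.card W') := hW.of_dvd_nat (card_dvd_of_le inf_le_left)
    refine h.fam W' hn (pCore_eq_bot_of_odd hW'o) ?_ (odd_relIndex_sup_of_odd h.le_T hn hW'o) c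
      (mem_inf.2 ⟨hc, mem_centralizer_singleton_iff.2 hcomm.symm⟩) a ha
    intro e
    refine h.centralizer_singleton_ne_top ha' ha'1 (top_le_iff.1 (e.ge.trans (sup_le inf_le_right ?_)))
    exact fun b hb => mem_centralizer_singleton_iff.2 (h.comm hb ha')
  have hAU : A ≤ U := fun a ha => subset_closure ⟨1, one_mem W, a, ha,
    (by
      obtain ⟨b, hb, hb1⟩ := A.bot_or_exists_ne_one.resolve_left fun e => by
        have := h.four; rw [e, card_bot] at this; omega
      exact ⟨b, hb, hb1, by simp⟩), by simp⟩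
  set C := W ⊓ centralizer (A : Set X) with hC
  have hCU : C ≤ normalizer (U : Set X) := by
    rw [hU]
    refine le_normalizer_of_conj_mem fun d hd k hk => ?_
    induction hk using closure_induction with
    | mem x hx =>
      obtain ⟨c, hc, a, ha, ⟨a', ha', ha'1, hcomm⟩, rfl⟩ := hx
      refine subset_closure ⟨d * c, W.mul_mem hd.1 hc, a, ha, ⟨a', ha', ha'1, ?_⟩, by group⟩
      rw [← mul_assoc, mem_centralizer_iff.1 hd.2 a' ha', mul_assoc, hcomm, mul_assoc]
    | one => simp
    | mul x y _ _ hx hy =>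
      have := mul_mem hx hy
      simpa [mul_assoc] using this
    | inv x _ hx =>
      have := inv_mem hx
      simpa [mul_assoc] using this
  have hWle : W ≤ U ⊔ C := by
    refine Coprime.le_of_forall_inf_centralizer_le h.not_isCyclic hWA hcop fun a' ha' ha'1 => ?_
    set Wa := W ⊓ centralizer ({a'} : Set X) with hWa
    have hn : A ≤ normalizer (Wa : Set X) := le_normalizer_of_conj_mem fun b hb k hk =>
      ⟨conj_mem_of_le_normalizer hWA hb hk.1, mem_centralizer_singleton_iff.2 (by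
        have hka := mem_centralizer_singleton_iff.1 hk.2
        have hba := h.comm hb ha'
        have hba' := h.comm (inv_mem hb) ha'
        calc b * k * b⁻¹ * a' = b * (k * a') * b⁻¹ := by simp only [mul_assoc]; rw [hba']
          _ = b * (a' * k) * b⁻¹ := by rw [hka]
          _ = a' * (b * k * b⁻¹) := by rw [← mul_assoc b, hba]; simp only [mul_assoc])⟩
    have hsplit := Coprime.commutator_sup_centralizer hn
      (hcop.coprime_dvd_right (card_dvd_of_le inf_le_left)) (Or.inl hAsolv)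
    rw [← hsplit]
    refine sup_le (le_trans ?_ le_sup_left) (le_trans (inf_le_inf_right _ inf_le_left) le_sup_right)
    rw [commutator_le]
    intro c hc a ha
    rw [commutatorElement_def]
    exact mul_mem (subset_closure ⟨c, hc.1, a, ha,
      ⟨a', ha', ha'1, (mem_centralizer_singleton_iff.1 hc.2).symm⟩, rfl⟩) (inv_mem (hAU ha))
  have hn : U.Normal := by
    rw [← normalizer_eq_top_iff, eq_top_iff, ← htop]
    exact sup_le (hWle.trans (sup_le le_normalizer hCU)) (hAU.trans le_normalizer)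
  exact h.F_ne (top_le_iff.1 ((h.eq_top_of_le hAU).ge.trans hUF))

/-- The configuration passes to the quotient by an odd normal subgroup. -/
theorem quotient (h : Config X T A F0) {W : Subgroup X} [W.Normal] (hW : Odd (Nat.card W)) :
    ∃ F1 : Subgroup (X ⧸ W), Config (X ⧸ W) (T.map (QuotientGroup.mk' W))
      (A.map (QuotientGroup.mk' W)) F1 := by
  set π := QuotientGroup.mk' W with hπ
  have hs : Function.Surjective π := QuotientGroup.mk'_surjective W
  have hne := h.odd_sup_ne_top hW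
  have hWA : A ≤ normalizer (W : Set X) := le_normalizer_of_normal
  have hdisj : A ⊓ W = ⊥ := by
    obtain ⟨k, hk⟩ := IsPGroup.iff_card.1 (h.isPGroup_A.to_le (inf_le_left : A ⊓ W ≤ A))
    refine eq_bot_of_card_eq _ (Nat.eq_one_of_dvd_coprimes ?_ (dvd_refl _)
      (card_dvd_of_le (inf_le_right : A ⊓ W ≤ W)))
    rw [hk]
    exact Nat.Coprime.pow_left k (Nat.coprime_two_left.2 hW)
  set F1 := ⨅ w : W, conjS (w : X) F0 with hF1
  have hAF1 : A ≤ F1 := le_iInf fun w a ha => mem_conjS.2 (by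
    have := h.fam W hWA (pCore_eq_bot_of_odd hW) hne (odd_relIndex_sup_of_odd h.le_T hWA hW)
      (w : X)⁻¹ (inv_mem w.2) a ha
    simpa using this)
  have hWF : W ≤ normalizer (F1 : Set X) := le_normalizer_of_conj_mem fun v hv x hx =>
    mem_iInf.2 fun w => by
      have := mem_conjS.1 (mem_iInf.1 hx ⟨v⁻¹ * w, W.mul_mem (W.inv_mem hv) w.2⟩)
      refine mem_conjS.2 ?_
      simpa [mul_assoc] using this
  have hTF : T ≤ normalizer (F1 : Set X) := le_normalizer_of_conj_mem fun t ht x hx =>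
    mem_iInf.2 fun w => by
      have h1 := mem_conjS.1 (mem_iInf.1 hx ⟨t⁻¹ * w * t, by
        simpa using Normal.conj_mem inferInstance (w : X) w.2 t⁻¹⟩)
      have h2 := conj_mem_of_le_normalizer h.T_le ht h1
      refine mem_conjS.2 ?_
      simpa [mul_assoc] using h2
  have hcomap : ∀ K : Subgroup X, (K.map π).comap π = W ⊔ K := fun K =>
    QuotientGroup.comap_map_mk' W K
  refine ⟨(W ⊔ F1).map π, h.good.of_surjective π hs, ?_, h.pgroup.map π, ?_, ?_, ?_,
    map_mono h.le_T, map_mono (hAF1.trans le_sup_right), ?_, ?_, ?_, ?_, ?_⟩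
  · -- core
    by_contra hc
    set K' := pCore 2 (X ⧸ W)
    have hK' : IsPGroup 2 K' := PLocal.isPGroup_pCore 2 _
    have : Fact (Nat.Prime 2) := ⟨Nat.prime_two⟩
    have hTK : T ⊓ K'.comap π ≠ ⊥ := by
      intro e
      have h2 : Odd (Nat.card ↥(K'.comap π)) := by
        rw [← relIndex_bot_left, ← e, inf_relIndex_right]
        exact odd_relIndex_of_normal h.oddIndex _
      have h3 : Odd (Nat.card K') := h2.of_dvd_nat (by
        have := card_map_dvd (K'.comap π) π
        rwa [map_comap_eq_self_of_surjective hs] at this)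
      obtain ⟨k, hk⟩ := IsPGroup.iff_card.1 hK'
      rcases Nat.eq_zero_or_pos k with rfl | hk0
      · exact hc (eq_bot_of_card_eq _ hk)
      · rw [hk] at h3
        exact (Nat.not_even_iff_odd.2 h3) (Nat.even_pow.2 ⟨even_two, hk0.ne'⟩)
    have htop := h.normal_sup _ inferInstance hTK
    have hp : IsPGroup 2 (⊤ : Subgroup (X ⧸ W)) := by
      rw [← map_top_of_surjective π hs, ← htop, Subgroup.map_sup,
        map_comap_eq_self_of_surjective hs]
      exact hK'.to_sup_of_normal_left (h.pgroup.map π)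
    have hp' : IsPGroup 2 (X ⧸ W) := hp.of_equiv topEquiv
    have : Group.IsNilpotent (X ⧸ W) := hp'.isNilpotent
    have hcl : normalClosure ((A.map π : Subgroup (X ⧸ W)) : Set (X ⧸ W)) = ⊤ := by
      rw [coe_map, ← map_normalClosure _ π hs, h.gen, map_top_of_surjective π hs]
    rcases eq_top_or_exists_le_coatom (A.map π) with e | ⟨M, hM, hAM⟩
    · refine hne ?_
      rw [← comap_top π, ← e, hcomap]
    · have := NormalizerCondition.normal_of_coatom M Group.normalizerCondition_of_isNilpotent hM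
      exact hM.1 (top_le_iff.1 (hcl.ge.trans (normalClosure_le_normal hAM)))
  · exact h.oddIndex.of_dvd_nat (index_map_dvd T hs)
  · refine ⟨?_, ?_⟩
    · have := h.elab_A.1
      exact ⟨⟨fun x y => Subtype.ext (by
        obtain ⟨_, a, ha, rfl⟩ := x
        obtain ⟨_, b, hb, rfl⟩ := y
        show π a * π b = π b * π a
        rw [← map_mul, h.comm ha hb, map_mul])⟩⟩
    · rintro _ ⟨a, ha, rfl⟩
      rw [← map_pow, h.elab_A.2 a ha, map_one]
  · have : Nat.card ↥(A.map π) = Nat.card A := by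
      have hinj : Function.Injective (π.comp A.subtype) := by
        rw [← MonoidHom.ker_eq_bot_iff, eq_bot_iff]
        intro a ha
        have : (a : X) ∈ A ⊓ W := ⟨a.2, (QuotientGroup.eq_one_iff (a : X)).1 ha⟩
        rw [hdisj, mem_bot] at this
        exact mem_bot.2 (Subtype.ext this)
      rw [← Nat.card_range_of_injective hinj]
      congr 1
      rw [← SetLike.coe_sort_coe, coe_map]
      congr 1
      ext x
      simp
    rw [this]; exact h.four
  · refine (map_mono ?_).trans (le_normalizer_map π)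
    intro t ht
    refine (DicksonPSL2.conjS_eq_self_iff).1 ?_
    rw [conjS, Subgroup.map_sup]
    exact congrArg₂ (· ⊔ ·) ((DicksonPSL2.conjS_eq_self_iff).2 (le_normalizer_of_normal ht))
      ((DicksonPSL2.conjS_eq_self_iff).2 (hTF ht))
  · intro e
    refine h.F_ne (top_le_iff.1 ?_)
    have h1 : W ⊔ F1 = ⊤ := by
      have := congrArg (Subgroup.comap π) e
      rwa [hcomap, comap_top, ← sup_assoc, sup_idem] at this
    have : F1.Normal := by
      rw [← normalizer_eq_top_iff, eq_top_iff, ← h1]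
      exact sup_le hWF le_normalizer
    rw [← h.eq_top_of_le hAF1]
    exact (iInf_le _ (1 : W)).trans (by simp [conjS_one])
  · -- family
    intro U' hn' hU' hH' ho h' hh' a' ha'
    obtain ⟨x, rfl⟩ := hs h'
    obtain ⟨a, ha, rfl⟩ := ha'
    set U := U'.comap π with hU
    have hWU : W ≤ U := by
      intro w hw
      show π w ∈ U'
      rw [show π w = 1 from (QuotientGroup.eq_one_iff w).2 hw]
      exact one_mem U'
    have hUA : A ≤ normalizer (U : Set X) := le_normalizer_of_conj_mem fun b hb k hk => by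
      show π (b * k * b⁻¹) ∈ U'
      rw [map_mul, map_mul, map_inv]
      exact conj_mem_of_le_normalizer hn' (mem_map_of_mem π hb) hk
    set H := U ⊔ A with hH0
    have hmapH : H.map π = U' ⊔ A.map π := by
      rw [hH0, Subgroup.map_sup, hU, map_comap_eq_self_of_surjective hs]
    have hWH : W ≤ H := hWU.trans le_sup_left
    have hH : H ≠ ⊤ := fun e => hH' (by rw [← hmapH, e, map_top_of_surjective π hs])
    have hoH : Odd (T.relIndex H) := by
      have h1 : (W ⊔ T).relIndex H = (T.map π).relIndex (U' ⊔ A.map π) := by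
        rw [← hcomap, relIndex_comap, hmapH]
      rw [← inf_relIndex_right, ← relIndex_mul_relIndex (T ⊓ H) ((W ⊔ T) ⊓ H) H
        (inf_le_inf_right H le_sup_right) inf_le_right, inf_relIndex_right, h1]
      refine Odd.mul ?_ ho
      have hded : (W ⊔ T) ⊓ H ≤ W ⊔ T ⊓ H := by
        rintro y ⟨hy, hyH⟩
        have hy' : y ∈ ((W ⊔ T : Subgroup X) : Set X) := hy
        rw [normal_mul] at hy'
        obtain ⟨w, hw, t, ht, rfl⟩ := hy'
        exact mul_mem_sup hw ⟨ht, (H.mul_mem_cancel_left (hWH hw)).1 hyH⟩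
      rw [show (W ⊔ T) ⊓ H = W ⊔ T ⊓ H from
        le_antisymm hded (le_inf (sup_le_sup_left inf_le_left W) (sup_le hWH inf_le_right))]
      exact odd_relIndex_sup_of_odd le_rfl le_normalizer_of_normal hW
    have hUc : pCore 2 ↥U = ⊥ := by
      let π' : ↥U →* ↥U' := π.subgroupComap U'
      have hπ' : Function.Surjective π' :=
        MonoidHom.subgroupComap_surjective_of_surjective _ _ hs
      have : ((pCore 2 ↥U).map π').Normal := Normal.map inferInstance π' hπ'
      have h1 : (pCore 2 ↥U).map π' = ⊥ :=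
        le_bot_iff.1 ((PLocal.le_pCore ((PLocal.isPGroup_pCore 2 ↥U).map π')).trans hU'.le)
      rw [Subgroup.map_eq_bot_iff] at h1
      have h2 : pCore 2 ↥(W.subgroupOf U : Subgroup ↥U) = ⊥ := pCore_eq_bot_of_odd (by
        rw [Nat.card_congr (Subgroup.subgroupOfEquivOfLe hWU).toEquiv]; exact hW)
      have h3 : π'.ker ≤ W.subgroupOf U := fun k hk => by
        have := congrArg Subtype.val (MonoidHom.mem_ker.1 hk)
        exact (QuotientGroup.eq_one_iff (k : X)).1 this
      refine le_bot_iff.1 fun k hk => ?_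
      have hkW : k ∈ W.subgroupOf U := h3 (h1 hk)
      have hp : IsPGroup 2 ↥((pCore 2 ↥U).subgroupOf (W.subgroupOf U)) :=
        (PLocal.isPGroup_pCore 2 ↥U).comap_of_injective _ (Subgroup.subtype_injective _)
      have h4 := (PLocal.le_pCore hp).trans h2.le (show (⟨k, hkW⟩ : ↥(W.subgroupOf U)) ∈ _ from hk)
      exact mem_bot.2 (congrArg Subtype.val (mem_bot.1 h4))
    refine ⟨x * a * x⁻¹, mem_sup_right (mem_iInf.2 fun w => mem_conjS.2 ?_), by simp⟩
    have := h.fam U hUA hUc hH hoH ((w : X)⁻¹ * x) (U.mul_mem (inv_mem (hWU w.2)) hh') a ha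
    simpa [mul_assoc] using this
  · intro K' hK' hTK
    have hne' : T ⊓ K'.comap π ≠ ⊥ := by
      obtain ⟨y, hy, hy1⟩ := (T.map π ⊓ K').bot_or_exists_ne_one.resolve_left hTK
      obtain ⟨t, ht, rfl⟩ := hy.1
      intro e
      have : t ∈ T ⊓ K'.comap π := ⟨ht, hy.2⟩
      rw [e, mem_bot] at this
      exact hy1 (by rw [this, map_one])
    rw [← map_comap_eq_self_of_surjective hs K', ← Subgroup.map_sup,
      h.normal_sup _ (hK'.comap π) hne', map_top_of_surjective π hs]
  · rw [coe_map, ← map_normalClosure _ π hs, h.gen, map_top_of_surjective π hs]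

end Config

end CfsgLib.LocalEven.OffenderBound
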