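import Cfsg.Agent.LocalEven.OffenderBound.Bound

/-!
The offender bound for a group acting by conjugation on an elementary abelian `2`-subgroup.
-/

set_option autoImplicit false

universe u

namespace CfsgLib.LocalEven.OffenderBound

open Cfsg Subgroup
open scoped commutatorElement
open CfsgLib.NoOffender (fixV mem_fixV)
open CfsgLib.MinNormal (conj_mem_of_le_normalizer)

variable {L : Type u} [Group L]

/-- The additive action of `G ≤ N(M)` on the abelian subgroup `M`. -/
def conjAct (M G : Subgroup L) (hM : IsMulCommutative M) (hGM : G ≤ normalizer (M : Set L)) :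
    letI : CommGroup M := { (inferInstance : Group M) with mul_comm := hM.is_comm.comm }
    ↥G →* AddMonoid.End (Additive M) :=
  letI : CommGroup M := { (inferInstance : Group M) with mul_comm := hM.is_comm.comm }
  { toFun := fun g => MonoidHom.toAdditive
      (MonoidHom.mk' (fun x : M => (⟨(g : L) * x * (g : L)⁻¹,
        conj_mem_of_le_normalizer hGM g.2 x.2⟩ : M))
        fun x y => Subtype.ext (by simp [mul_assoc]))
    map_one' := AddMonoidHom.ext fun x => Additive.toMul.injective (Subtype.ext (by simp; rfl))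
    map_mul' := fun g h => AddMonoidHom.ext fun x =>
      Additive.toMul.injective (Subtype.ext (by
        show ((g * h : ↥G) : L) * (x.toMul : M) * ((g * h : ↥G) : L)⁻¹ =
          (g : L) * ((h : L) * (x.toMul : M) * (h : L)⁻¹) * (g : L)⁻¹
        rw [Subgroup.coe_mul]; group)) }

/-- **The offender bound, conjugation form.** -/
theorem conj_bounds [Finite L] (M G : Subgroup L) (hM : IsElementaryAbelian 2 M)
    (hGM : G ≤ normalizer (M : Set L)) (hf : G ⊓ centralizer (M : Set L) = ⊥) (hG : GoodX ↥G)
    (hO : pCore 2 ↥G = ⊥) (A : Subgroup L) (hA : A ≤ G) (hAe : IsElementaryAbelian 2 A) :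
    Nat.card A ^ 2 * Nat.card ↥(M ⊓ centralizer (A : Set L)) ≤ Nat.card M ∧
      Nat.card A ^ 2 ≤ Nat.card ↥⁅M, A⁆ := by
  classical
  letI iC : CommGroup M := { (inferInstance : Group M) with mul_comm := hM.1.is_comm.comm }
  letI iA : DistribMulAction ↥G (Additive M) := DistribMulAction.compHom _ (conjAct M G hM.1 hGM)
  have hmk : ∀ (g : ↥G) (x : Additive M),
      (((g • x).toMul : M) : L) = (g : L) * (x.toMul : M) * (g : L)⁻¹ := fun _ _ => rfl
  have hV : ∀ v : Additive M, v + v = 0 := fun v => Additive.toMul.injective (Subtype.ext (by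
    show ((v.toMul : M) : L) * (v.toMul : M) = 1
    rw [← pow_two]
    exact hM.2 _ (v.toMul : M).2))
  have hfaith : FaithfulSMul ↥G (Additive M) := ⟨fun {g h} e => by
    refine Subtype.ext ?_
    have : (h : L)⁻¹ * (g : L) ∈ G ⊓ centralizer (M : Set L) := by
      refine mem_inf.2 ⟨G.mul_mem (G.inv_mem h.2) g.2, mem_centralizer_iff.2 fun x hx => ?_⟩
      have h1 := congrArg (fun z : Additive M => ((z.toMul : M) : L)) (e (Additive.ofMul ⟨x, hx⟩))
      simp only [hmk, toMul_ofMul] at h1
      calc x * ((h : L)⁻¹ * g) = (h : L)⁻¹ * ((h : L) * x * (h : L)⁻¹) * g := by group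
        _ = (h : L)⁻¹ * g * x := by rw [← h1]; group
    rw [hf, mem_bot, inv_mul_eq_one] at this
    exact this.symm⟩
  have hAc : ∀ a ∈ A, ∀ b ∈ A, a * b = b * a := fun a ha b hb =>
    congrArg Subtype.val (hAe.1.is_comm.comm (⟨a, ha⟩ : A) ⟨b, hb⟩)
  have hAGe : IsElementaryAbelian 2 (A.subgroupOf G) :=
    ⟨⟨⟨fun a b => Subtype.ext (Subtype.ext (hAc _ a.2 _ b.2))⟩⟩,
      fun a ha => Subtype.ext (hAe.2 _ ha)⟩
  have hcA := Nat.card_congr (Subgroup.subgroupOfEquivOfLe hA).toEquiv
  have hcM : Nat.card (Additive M) = Nat.card M := rfl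
  refine ⟨?_, ?_⟩
  · have h := card_sq_mul_card_fix_le hV hG hO (A.subgroupOf G) hAGe
    rw [hcA, hcM] at h
    refine le_trans (Nat.mul_le_mul_left _ ?_) h
    refine Nat.card_le_card_of_injective
      (fun x => (⟨Additive.ofMul ⟨(x : L), x.2.1⟩, fun a ha => ?_⟩ :
        (fixV (A.subgroupOf G) : AddSubgroup (Additive M))))
      fun x y e => Subtype.ext (congrArg
        (fun z : (fixV (A.subgroupOf G) : AddSubgroup (Additive M)) =>
          (((z : Additive M).toMul : M) : L)) e :)
    apply Additive.toMul.injective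
    refine Subtype.ext ?_
    rw [hmk]
    simp only [toMul_ofMul]
    rw [mem_centralizer_iff.1 x.2.2 (a : L) ha, mul_inv_cancel_right]
  · have h := card_sq_le_card_commutator hV hG hO (A.subgroupOf G) hAGe
    rw [hcA] at h
    refine h.trans ?_
    have hle : ⁅M, A⁆ ≤ M := by
      rw [commutator_le]
      intro x hx a ha
      rw [commutatorElement_def, mul_assoc x, mul_assoc x]
      exact M.mul_mem hx (conj_mem_of_le_normalizer hGM (hA ha) (M.inv_mem hx))
    have key : ∀ z ∈ AddSubgroup.closure {z : Additive M | ∃ a ∈ A.subgroupOf G,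
        ∃ v : Additive M, a • v - v = z}, ((z.toMul : M) : L) ∈ ⁅M, A⁆ := by
      intro z hz
      induction hz using AddSubgroup.closure_induction with
      | mem z hz =>
        obtain ⟨a, ha, v, rfl⟩ := hz
        rw [toMul_sub, Subgroup.coe_div, hmk, div_eq_mul_inv,
          show (a : L) * (v.toMul : M) * (a : L)⁻¹ * ((v.toMul : M) : L)⁻¹ =
            ⁅((v.toMul : M) : L), (a : L)⁆⁻¹ by rw [commutatorElement_def]; group]
        exact inv_mem (commutator_mem_commutator (v.toMul : M).2 ha)
      | zero => exact one_mem _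
      | add x y _ _ hx hy => exact mul_mem hx hy
      | neg x _ hx => exact inv_mem hx
    exact Nat.card_le_card_of_injective (fun z => (⟨_, key _ z.2⟩ : ↥⁅M, A⁆))
      fun z w e => Subtype.ext (Additive.toMul.injective (Subtype.ext
        (congrArg (fun t : ↥⁅M, A⁆ => (t : L)) e :)))

end CfsgLib.LocalEven.OffenderBound
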