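import Cfsg.Agent.LocalEven.OffenderBound.InO2
import Cfsg.Prelude.Def_LocalEven

/-!
E-groups inside an ambient group, offenders from elementary abelian subgroups of largest order,
and the centralisation of the closure of a conditioned subgroup by the Thompson subgroup.
-/

set_option autoImplicit false

universe u

namespace CfsgLib.LocalEven.OffenderBound

open Cfsg Subgroup
open scoped IsMulCommutative commutatorElement
open CfsgLib.MinNormal (conj_mem_of_le_normalizer le_normalizer_of_conj_mem)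
open CfsgLib.NoOffender (fixV mem_fixV smulSub mem_smulSub stabS inv_iff_le_stabS kerOn mem_kerOn
  OffOn conjAdd autGrp conjAdd_apply ker_autGrp)

variable {G : Type u} [Group G]

/-- Squares in the centraliser put the commutators there. -/
theorem commutator_le_centralizer_of_sq {R : Subgroup G} {V : Set G}
    (h : ∀ r ∈ R, r ^ 2 ∈ centralizer V) : ⁅R, R⁆ ≤ centralizer V := by
  rw [commutator_le]
  intro a ha b hb
  rw [show ⁅a, b⁆ = a ^ 2 * (a⁻¹ * b) ^ 2 * (b⁻¹) ^ 2 by
    rw [commutatorElement_def, pow_two, pow_two, pow_two]; group]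
  exact mul_mem (mul_mem (h a ha) (h _ (R.mul_mem (R.inv_mem ha) hb))) (h _ (R.inv_mem hb))

theorem card_subgroupOf_inf_centralizer {U A B : Subgroup G} (hA : A ≤ U) (hB : B ≤ U) :
    Nat.card ↥(A.subgroupOf U ⊓ centralizer (B.subgroupOf U : Set ↥U)) =
      Nat.card ↥(A ⊓ centralizer (B : Set G)) := by
  rw [← card_map_inf_centralizer U.subtype_injective, map_subgroupOf_eq_of_le hA,
    map_subgroupOf_eq_of_le hB]

theorem mem_centralizer_subgroupOf {U V : Subgroup G} (hV : V ≤ U) {x : ↥U} :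
    x ∈ centralizer (V.subgroupOf U : Set ↥U) ↔ (x : G) ∈ centralizer (V : Set G) := by
  simp only [mem_centralizer_iff]
  exact ⟨fun h v hv => congrArg Subtype.val (h ⟨v, hV hv⟩ hv),
    fun h v hv => Subtype.ext (h _ hv)⟩

/-- The test for being an E-group, in the ambient group. -/
theorem isEGroup_of (U : Subgroup G)
    (h : ∀ V : Subgroup G, V ≤ U → U ≤ normalizer (V : Set G) → IsElementaryAbelian 2 V →
      (∀ R : Subgroup G, R ≤ U → (∀ r ∈ R, r ^ 2 ∈ centralizer (V : Set G)) →
        ¬ R ≤ centralizer (V : Set G) →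
        Nat.card R ^ 3 * Nat.card ↥(V ⊓ centralizer (R : Set G)) ^ 2 <
          Nat.card V ^ 2 * Nat.card ↥(R ⊓ centralizer (V : Set G)) ^ 3) →
      U ≤ centralizer (V : Set G)) : IsEGroup ↥U := by
  intro V0 hV0n hV0e hV0
  set V := V0.map U.subtype with hV
  have hVU : V ≤ U := map_subtype_le V0
  have hV0' : V.subgroupOf U = V0 := comap_map_eq_self_of_injective U.subtype_injective V0
  have hcen := h V hVU (le_normalizer_of_conj_mem (by
      rintro u hu _ ⟨v, hv, rfl⟩
      exact ⟨⟨u, hu⟩ * v * ⟨u, hu⟩⁻¹, hV0n.conj_mem v hv _, rfl⟩))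
    (PLocal.isElementaryAbelian_map hV0e _) fun R hRU hsq hnc => by
      have hsq' : ∀ r ∈ R.subgroupOf U, r ^ 2 ∈ centralizer (V0 : Set ↥U) := fun r hr => by
        rw [← hV0', mem_centralizer_subgroupOf hVU, Subgroup.coe_pow]
        exact hsq _ hr
      have h1 := (hV0 (R.subgroupOf U) (commutator_le_centralizer_of_sq hsq') hsq' (fun hle =>
        hnc fun r hr => by
          have h2 : (⟨r, hRU hr⟩ : ↥U) ∈ centralizer (V0 : Set ↥U) := hle hr
          rw [← hV0', mem_centralizer_subgroupOf hVU] at h2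
          exact h2)).1
      rw [← hV0', card_subgroupOf_inf_centralizer hRU hVU, card_subgroupOf_inf_centralizer hVU hRU,
        Nat.card_congr (subgroupOfEquivOfLe hRU).toEquiv,
        Nat.card_congr (subgroupOfEquivOfLe hVU).toEquiv] at h1
      exact h1
  intro v hv
  exact mem_center_iff.2 fun u => Subtype.ext
    (mem_centralizer_iff.1 (hcen u.2) (v : G) ⟨v, hv, rfl⟩).symm

/-- An E-group centralises the conditioned normal elementary abelian subgroups. -/
theorem le_centralizer_of_isEGroup {U V : Subgroup G} (hU : IsEGroup ↥U) (hVU : V ≤ U)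
    (hn : U ≤ normalizer (V : Set G)) (hV : IsElementaryAbelian 2 V)
    (hc : ∀ R : Subgroup G, R ≤ U → (∀ r ∈ R, r ^ 2 ∈ centralizer (V : Set G)) →
      ¬ R ≤ centralizer (V : Set G) →
      Nat.card R ^ 3 * Nat.card ↥(V ⊓ centralizer (R : Set G)) ^ 2 <
          Nat.card V ^ 2 * Nat.card ↥(R ⊓ centralizer (V : Set G)) ^ 3 ∧
        Nat.card R < Nat.card ↥⁅V, R⁆ * Nat.card ↥(R ⊓ centralizer (V : Set G))) :
    U ≤ centralizer (V : Set G) := by
  have h := hU (V.subgroupOf U) (normal_subgroupOf_of_le_normalizer hn)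
    ((PLocal.isElementaryAbelian_map_iff U.subtype_injective).1 (by
      rwa [map_subgroupOf_eq_of_le hVU]))
    fun R0 _ hsq hnc => by
      set R := R0.map U.subtype with hR
      have hRU : R ≤ U := map_subtype_le R0
      have hR0 : R.subgroupOf U = R0 := comap_map_eq_self_of_injective U.subtype_injective R0
      obtain ⟨h1, h2⟩ := hc R hRU (by
          rintro _ ⟨r, hr, rfl⟩
          rw [← map_pow]
          exact (mem_centralizer_subgroupOf hVU).1 (hsq r hr))
        fun hle => hnc fun r hr => (mem_centralizer_subgroupOf hVU).2 (hle ⟨r, hr, rfl⟩)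
      have e1 : (⁅V.subgroupOf U, R0⁆).map U.subtype = ⁅V, R⁆ := by
        rw [map_commutator, map_subgroupOf_eq_of_le hVU]
      rw [← hR0, card_subgroupOf_inf_centralizer hRU hVU, card_subgroupOf_inf_centralizer hVU hRU,
        Nat.card_congr (subgroupOfEquivOfLe hRU).toEquiv,
        Nat.card_congr (subgroupOfEquivOfLe hVU).toEquiv, hR0,
        Nat.card_congr ((⁅V.subgroupOf U, R0⁆).equivMapOfInjective _ U.subtype_injective).toEquiv,
        e1]
      exact ⟨h1, h2⟩
  intro u hu
  exact mem_centralizer_iff.2 fun v hv =>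
    (congrArg Subtype.val (mem_center_iff.1 (h (show (⟨v, hVU hv⟩ : ↥U) ∈ _ from hv)) ⟨u, hu⟩)).symm

/-- Elementary abelian subgroups of largest order are offenders or centralise. -/
theorem card_maxEA_offender [Finite G] {T E V : Subgroup G} (hE : E ∈ PLocal.maxEAIn 2 T)
    (hV : IsElementaryAbelian 2 V) (hVT : V ≤ T) :
    Nat.card V * Nat.card ↥(E ⊓ centralizer (V : Set G)) ≤
      Nat.card E * Nat.card ↥(V ⊓ centralizer (E : Set G)) := by
  obtain ⟨hET, hEe, hmax⟩ := hE
  set C := E ⊓ centralizer (V : Set G) with hC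
  have hsup : IsElementaryAbelian 2 (C ⊔ V) :=
    PLocal.isElementaryAbelian_sup (PLocal.isElementaryAbelian_of_le hEe inf_le_left) hV inf_le_right
  have h1 := hmax _ (sup_le (inf_le_left.trans hET) hVT) hsup
  have h2 := PLocal.card_sup_mul_card_inf (A := C) (B := V)
    ((inf_le_right : C ≤ _).trans (centralizer_le_normalizer _))
  have h3 : Nat.card ↥(C ⊓ V) ≤ Nat.card ↥(V ⊓ centralizer (E : Set G)) :=
    card_le_of_le fun v hv => mem_inf.2 ⟨hv.2, mem_centralizer_iff.2 fun e he =>
      congrArg Subtype.val (hEe.1.is_comm.comm (⟨e, he⟩ : E) ⟨v, hv.1.1⟩)⟩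
  calc Nat.card V * Nat.card C = Nat.card ↥(C ⊔ V) * Nat.card ↥(C ⊓ V) := by rw [h2, mul_comm]
    _ ≤ _ := Nat.mul_le_mul h1 h3

/-- The Thompson subgroup of a two-group is an E-group. -/
theorem isEGroup_thompson [Finite G] (T : Subgroup G) :
    IsEGroup ↥(thompsonSubgroupOf 2 T) := by
  refine isEGroup_of _ fun V hVJ hn hV hc => ?_
  rw [PLocal.thompsonSubgroupOf_eq]
  refine sSup_le fun E hE => ?_
  by_contra hnc
  have h1 := hc E (PLocal.le_thompsonSubgroupOf hE)
    (fun e he => by rw [hE.2.1.2 e he]; exact one_mem _) hnc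
  have h2 := card_maxEA_offender hE hV (hVJ.trans (PLocal.thompsonSubgroupOf_le 2 T))
  have h3 : Nat.card ↥(E ⊓ centralizer (V : Set G)) ≤ Nat.card E := card_le_of_le inf_le_left
  refine absurd h1 (not_lt.2 ?_)
  calc Nat.card V ^ 2 * Nat.card ↥(E ⊓ centralizer (V : Set G)) ^ 3
      = (Nat.card V * Nat.card ↥(E ⊓ centralizer (V : Set G))) ^ 2 *
          Nat.card ↥(E ⊓ centralizer (V : Set G)) := by ring
    _ ≤ (Nat.card E * Nat.card ↥(V ⊓ centralizer (E : Set G))) ^ 2 * Nat.card E :=
        Nat.mul_le_mul (Nat.pow_le_pow_left h2 2) h3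
    _ = _ := by ring

/-! ### The automizer of an abelian normal subgroup -/

section Automizer

variable {N : Subgroup G} [N.Normal] [IsMulCommutative N]

set_option linter.unusedSectionVars false

/-- A subgroup, seen inside the additive copy of `N`. -/
def subD (N V : Subgroup G) [IsMulCommutative N] : AddSubgroup (Additive N) :=
  Subgroup.toAddSubgroup (V.subgroupOf N)

theorem mem_subD {V : Subgroup G} {x : Additive N} :
    x ∈ subD N V ↔ ((x.toMul : N) : G) ∈ V := Iff.rfl

theorem card_subD {V : Subgroup G} (hVN : V ≤ N) : Nat.card (subD N V) = Nat.card V :=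
  Nat.card_congr
    { toFun := fun x => ⟨(((x : Additive N).toMul : N) : G), x.2⟩
      invFun := fun v => ⟨Additive.ofMul ⟨v, hVN v.2⟩, v.2⟩
      left_inv := fun _ => rfl
      right_inv := fun _ => rfl }

theorem subD_self : subD N N = ⊤ := eq_top_iff.2 fun x _ => (x.toMul : N).2

/-- The map to the automizer. -/
noncomputable abbrev toAut (N : Subgroup G) [N.Normal] [IsMulCommutative N] : G →* autGrp N :=
  (conjAdd N).toHomUnits.rangeRestrict

theorem toAut_smul (g : G) (x : Additive N) :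
    (((toAut N g • x).toMul : N) : G) = g * (x.toMul : N) * g⁻¹ := conjAdd_apply N g x

theorem card_subD_inf_fixV {V R : Subgroup G} (hVN : V ≤ N) :
    Nat.card ↥(subD N V ⊓ fixV (R.map (toAut N))) = Nat.card ↥(V ⊓ centralizer (R : Set G)) := by
  refine Nat.card_congr
    { toFun := fun x => ⟨(((x : Additive N).toMul : N) : G), x.2.1, mem_centralizer_iff.2 fun r hr => ?_⟩
      invFun := fun v => ⟨Additive.ofMul ⟨v, hVN v.2.1⟩, v.2.1, ?_⟩
      left_inv := fun _ => rfl
      right_inv := fun _ => rfl }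
  · have h1 := congrArg (fun z : Additive N => ((z.toMul : N) : G)) (x.2.2 _ ⟨r, hr, rfl⟩)
    simp only [toAut_smul] at h1
    exact mul_inv_eq_iff_eq_mul.1 h1
  · rintro _ ⟨r, hr, rfl⟩
    apply Additive.toMul.injective
    refine Subtype.ext ?_
    rw [toAut_smul]
    simp only [toMul_ofMul]
    rw [mem_centralizer_iff.1 v.2.2 r hr, mul_inv_cancel_right]

theorem map_inf_centralizer_toAut {V R : Subgroup G} (hVN : V ≤ N) :
    (R ⊓ centralizer (V : Set G)).map (toAut N) = kerOn (R.map (toAut N)) (subD N V) := by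
  ext z
  constructor
  · rintro ⟨r, hr, rfl⟩
    refine mem_kerOn.2 ⟨⟨r, hr.1, rfl⟩, fun x hx => ?_⟩
    apply Additive.toMul.injective
    refine Subtype.ext ?_
    rw [toAut_smul]
    exact mul_inv_eq_iff_eq_mul.2 (mem_centralizer_iff.1 hr.2 _ hx).symm
  · intro hz
    obtain ⟨⟨r, hr, rfl⟩, hz'⟩ := mem_kerOn.1 hz
    refine ⟨r, ⟨hr, mem_centralizer_iff.2 fun v hv => ?_⟩, rfl⟩
    have h1 := congrArg (fun x : Additive N => ((x.toMul : N) : G))
      (hz' (Additive.ofMul ⟨v, hVN hv⟩) hv)
    simp only [toAut_smul, toMul_ofMul] at h1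
    exact (mul_inv_eq_iff_eq_mul.1 h1).symm

theorem card_map_toAut_mul (R : Subgroup G) :
    Nat.card (R.map (toAut N)) * Nat.card ↥(R ⊓ centralizer (N : Set G)) = Nat.card R := by
  have h := card_map_mul_card_ker_inf (toAut N) R
  rwa [ker_autGrp, inf_comm] at h

theorem additive_add_self (hN : IsElementaryAbelian 2 N) (x : Additive N) : x + x = 0 :=
  Additive.toMul.injective (Subtype.ext (by
    show ((x.toMul : N) : G) * (x.toMul : N) = 1
    rw [← pow_two]
    exact hN.2 _ (x.toMul : N).2))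

theorem kerOn_top_eq_bot [Finite G] (B : Subgroup (autGrp N)) :
    kerOn B (⊤ : AddSubgroup (Additive N)) = ⊥ :=
  le_bot_iff.1 fun z hz => mem_bot.2 (eq_of_smul_eq_smul (α := Additive N) fun x => by
    rw [one_smul]; exact (mem_kerOn.1 hz).2 x (AddSubgroup.mem_top x))

end Automizer

/-- **The Thompson subgroup centralises the closure of a conditioned subgroup.** -/
theorem thompson_le_centralizer_closure [Finite G] (hG : GoodX G)
    (hchar : centralizer (pCore 2 G : Set G) ≤ pCore 2 G) {V T : Subgroup G}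
    (hV : IsElementaryAbelian 2 V) (hVT : V ≤ T) (hTp : IsPGroup 2 T) (hTo : Odd T.index)
    (hTn : T ≤ normalizer (V : Set G))
    (hcT : ∀ R : Subgroup G, R ≤ T → (∀ r ∈ R, r ^ 2 ∈ centralizer (V : Set G)) →
      ¬ R ≤ centralizer (V : Set G) →
      Nat.card R ^ 3 * Nat.card ↥(V ⊓ centralizer (R : Set G)) ^ 2 <
        Nat.card V ^ 2 * Nat.card ↥(R ⊓ centralizer (V : Set G)) ^ 3) :
    thompsonSubgroupOf 2 T ≤ centralizer (normalClosure (V : Set G) : Set G) := by
  classical
  have : Fact (Nat.Prime 2) := ⟨Nat.prime_two⟩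
  -- the condition for all two-groups normalising `V`
  have hcond : CondGrp V := by
    intro R hRp hRn hsq hnc
    set NV := normalizer (V : Set G) with hNV
    let S : Sylow 2 ↥NV := (hTp.comap_of_injective NV.subtype NV.subtype_injective).toSylow (by
      show ¬ 2 ∣ T.relIndex NV
      exact fun h => Nat.not_even_iff_odd.2 (hTo.of_dvd_nat (relIndex_dvd_index_of_le hTn))
        (even_iff_two_dvd.2 h))
    obtain ⟨S', hS'⟩ := (hRp.comap_of_injective NV.subtype NV.subtype_injective).exists_le_sylow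
    obtain ⟨m, hm⟩ := MulAction.exists_smul_eq ↥NV S' S
    set f := (MulAut.conj (m : G)).toMonoidHom with hf
    have hf' : Function.Injective f := (MulAut.conj (m : G)).injective
    have hVf : V.map f = V := mem_normalizer_iff_map_conj_eq.1 m.2
    have hmem : ∀ x, x ∈ centralizer (V : Set G) → f x ∈ centralizer (V : Set G) := by
      intro x hx
      rw [← hVf]
      refine mem_centralizer_iff.2 ?_
      rintro _ ⟨v, hv, rfl⟩
      rw [← map_mul, ← map_mul, mem_centralizer_iff.1 hx v hv]
    have hRT : R.map f ≤ T := by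
      rintro _ ⟨r, hr, rfl⟩
      have h1 : m * ⟨r, hRn hr⟩ * m⁻¹ ∈ (m • S' : Sylow 2 ↥NV) :=
        ⟨⟨r, hRn hr⟩, hS' hr, rfl⟩
      rw [hm] at h1
      exact h1
    have h1 := hcT (R.map f) hRT (by
        rintro _ ⟨r, hr, rfl⟩
        rw [← map_pow]
        exact hmem _ (hsq r hr))
      fun hle => hnc fun r hr => mem_centralizer_iff.2 fun v hv => hf' (by
        rw [map_mul, map_mul]
        exact mem_centralizer_iff.1 (hle ⟨r, hr, rfl⟩) (f v) (hVf ▸ mem_map_of_mem f hv))
    have e1 := card_map_inf_centralizer hf' V R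
    have e2 := card_map_inf_centralizer hf' R V
    rw [hVf] at e1 e2
    rwa [e1, e2, ← Nat.card_congr (R.equivMapOfInjective f hf').toEquiv] at h1
  have hVQ := le_pCore_of_cond hG hchar hV hVT hTp hTo hTn hcond
  set Q := pCore 2 G with hQ
  have hQp : IsPGroup 2 Q := PLocal.isPGroup_pCore 2 G
  have hQT : Q ≤ T := PLocal.pCore_le_sylow (hTp.toSylow fun h =>
    Nat.not_even_iff_odd.2 hTo (even_iff_two_dvd.2 h))
  -- the conjugates commute
  have hcomm : ∀ g : G, V.map (MulAut.conj g).toMonoidHom ≤ centralizer (V : Set G) := by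
    intro g
    set U := V.map (MulAut.conj g).toMonoidHom with hU
    have hUe : IsElementaryAbelian 2 U := PLocal.isElementaryAbelian_map hV _
    have hUQ : U ≤ Q := by
      rintro _ ⟨v, hv, rfl⟩
      exact (inferInstance : Q.Normal).conj_mem v (hVQ hv) g
    by_contra hnc
    have hnc' : ¬ V ≤ centralizer (U : Set G) := fun h => hnc (le_centralizer_iff.1 h)
    have hUn : V ≤ normalizer (U : Set G) := le_normalizer_of_conj_mem (by
      rintro w hw _ ⟨v, hv, rfl⟩
      refine ⟨(g⁻¹ * w * g) * v * (g⁻¹ * w * g)⁻¹, conj_mem_of_le_normalizer (hQT.trans hTn)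
        (by simpa using (inferInstance : Q.Normal).conj_mem w (hVQ hw) g⁻¹) hv, ?_⟩
      simp only [MulEquiv.coe_toMonoidHom, MulAut.conj_apply]
      group)
    have k1 := hcond U (hQp.to_le hUQ) ((hUQ.trans hQT).trans hTn)
      (fun r hr => by rw [hUe.2 r hr]; exact one_mem _) hnc
    have k2 := hcond.conj g V (hQp.to_le hVQ) hUn
      (fun r hr => by rw [hV.2 r hr]; exact one_mem _) hnc'
    rw [← hU] at k2
    have hUV : Nat.card U = Nat.card V :=
      (Nat.card_congr (V.equivMapOfInjective _ (MulAut.conj g).injective).toEquiv).symm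
    rw [hUV] at k1 k2
    set v := Nat.card V
    set c := Nat.card ↥(V ⊓ centralizer (U : Set G)) with hc
    set d := Nat.card ↥(U ⊓ centralizer (V : Set G)) with hd
    have hcv : c ≤ v := card_le_of_le inf_le_left
    have hdv : d ≤ v := hUV ▸ card_le_of_le inf_le_left
    have h1 : v * c ^ 2 < d ^ 3 := Nat.lt_of_mul_lt_mul_left (a := v ^ 2)
      (by rw [← mul_assoc, ← pow_succ]; exact k1)
    have h2 : v * d ^ 2 < c ^ 3 := Nat.lt_of_mul_lt_mul_left (a := v ^ 2)
      (by rw [← mul_assoc, ← pow_succ]; exact k2)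
    have h3 : v ^ 2 * (c ^ 2 * d ^ 2) < (c * d) * (c ^ 2 * d ^ 2) := by
      calc v ^ 2 * (c ^ 2 * d ^ 2) = (v * c ^ 2) * (v * d ^ 2) := by ring
        _ < d ^ 3 * c ^ 3 := Nat.mul_lt_mul_of_lt_of_lt h1 h2
        _ = _ := by ring
    exact absurd (Nat.lt_of_mul_lt_mul_right h3)
      (not_lt.2 (le_of_le_of_eq (Nat.mul_le_mul hcv hdv) (pow_two v).symm))
  set Y := normalClosure (V : Set G) with hY
  have hYe : IsElementaryAbelian 2 Y := by
    rw [hY, normalClosure]
    refine PLocal.isElementaryAbelian_closure (fun x hx y hy => ?_) fun x hx => ?_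
    · obtain ⟨a, ha, hxa⟩ := Group.mem_conjugatesOfSet_iff.1 hx
      obtain ⟨b, hb, hyb⟩ := Group.mem_conjugatesOfSet_iff.1 hy
      obtain ⟨g, rfl⟩ := isConj_iff.1 hxa
      obtain ⟨h, rfl⟩ := isConj_iff.1 hyb
      have h1 := mem_centralizer_iff.1 (hcomm (g⁻¹ * h) ⟨b, hb, rfl⟩) a ha
      simp only [MulEquiv.coe_toMonoidHom, MulAut.conj_apply] at h1
      calc g * a * g⁻¹ * (h * b * h⁻¹) = g * (a * (g⁻¹ * h * b * (g⁻¹ * h)⁻¹)) * g⁻¹ := by group
        _ = g * (g⁻¹ * h * b * (g⁻¹ * h)⁻¹ * a) * g⁻¹ := by rw [h1]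
        _ = h * b * h⁻¹ * (g * a * g⁻¹) := by group
    · obtain ⟨a, ha, hxa⟩ := Group.mem_conjugatesOfSet_iff.1 hx
      obtain ⟨g, rfl⟩ := isConj_iff.1 hxa
      rw [conj_pow, hV.2 a ha, mul_one, mul_inv_cancel]
  have : IsMulCommutative Y := hYe.1
  have hVY : V ≤ Y := subset_normalClosure
  have hYQ : Y ≤ Q := normalClosure_le_normal hVQ
  set D := subD Y V with hD
  set φ := toAut Y with hφ
  have hφs : Function.Surjective φ := (conjAdd Y).toHomUnits.rangeRestrict_surjective
  have hgen : ⨆ x : autGrp Y, smulSub x D = ⊤ := by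
    let f : Y →* Multiplicative (Additive Y) :=
      { toFun := fun y => Multiplicative.ofAdd (Additive.ofMul y)
        map_one' := rfl
        map_mul' := fun _ _ => rfl }
    have key : ∀ y ∈ Y, ∀ h : y ∈ Y, Additive.ofMul (⟨y, h⟩ : Y) ∈ ⨆ x : autGrp Y, smulSub x D := by
      intro y hy
      change y ∈ closure (Group.conjugatesOfSet (V : Set G)) at hy
      induction hy using closure_induction with
      | mem z hz =>
        intro h
        obtain ⟨a, ha, hza⟩ := Group.mem_conjugatesOfSet_iff.1 hz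
        obtain ⟨g, rfl⟩ := isConj_iff.1 hza
        refine AddSubgroup.mem_iSup_of_mem (φ g)
          ⟨Additive.ofMul ⟨a, hVY ha⟩, ha, Additive.toMul.injective (Subtype.ext ?_)⟩
        rw [DistribSMul.toAddMonoidHom_apply, toAut_smul]
        rfl
      | one => intro h; exact zero_mem _
      | mul a b ha hb iha ihb =>
        intro h
        exact add_mem (iha ha) (ihb hb)
      | inv a ha iha =>
        intro h
        exact neg_mem (iha ha)
    exact eq_top_iff.2 fun x _ => key _ (x.toMul : Y).2 (x.toMul : Y).2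
  have hTst : T.map φ ≤ stabS D := inv_iff_le_stabS.1 (by
    rintro _ ⟨t, ht, rfl⟩ x hx
    show (((φ t • x).toMul : Y) : G) ∈ V
    rw [toAut_smul]
    exact conj_mem_of_le_normalizer hTn ht hx)
  have hcD : CondOn (autGrp Y) D := by
    intro R hR hRst hRnt hRinv
    have hψ : Function.Surjective (φ.subgroupComap R) :=
      MonoidHom.subgroupComap_surjective_of_surjective _ _ hφs
    obtain ⟨P⟩ : Nonempty (Sylow 2 ↥(R.comap φ)) := inferInstance
    set R0 : Subgroup G := (P : Subgroup ↥(R.comap φ)).map (R.comap φ).subtype with hR0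
    have hR0R : R0.map φ = R := by
      have htop : (P : Subgroup ↥(R.comap φ)).map (φ.subgroupComap R) = ⊤ :=
        ((P.mapSurjective hψ).is_maximal' (hR.of_equiv (topEquiv (G := ↥R)).symm) le_top).symm
      calc R0.map φ = ((P : Subgroup ↥(R.comap φ)).map (φ.subgroupComap R)).map R.subtype := by
            rw [hR0, Subgroup.map_map, Subgroup.map_map]; rfl
        _ = R := by rw [htop, ← MonoidHom.range_eq_map, Subgroup.range_subtype]
    have h1 := hcond R0 (P.isPGroup'.map _) (le_normalizer_of_conj_mem fun r hr v hv => by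
        have h2 := inv_iff_le_stabS.2 hRst (φ r) (hR0R.le ⟨r, hr, rfl⟩)
          (Additive.ofMul ⟨v, hVY hv⟩) hv
        rw [mem_subD, toAut_smul] at h2
        exact h2) (fun r hr => mem_centralizer_iff.2 fun v hv => by
        have h2 := congrArg (fun z : Additive Y => ((z.toMul : Y) : G))
          (hRinv (φ r) (hR0R.le ⟨r, hr, rfl⟩) (Additive.ofMul ⟨v, hVY hv⟩) hv)
        simp only [← mul_smul, ← map_mul, toAut_smul, toMul_ofMul] at h2
        rw [pow_two]
        exact (mul_inv_eq_iff_eq_mul.1 h2).symm) (fun hle => hRnt fun x hx r hr => by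
        obtain ⟨r, hr', rfl⟩ := hR0R.ge hr
        apply Additive.toMul.injective
        refine Subtype.ext ?_
        rw [toAut_smul]
        exact mul_inv_eq_iff_eq_mul.2 (mem_centralizer_iff.1 (hle hr') _ hx).symm)
    have e1 := card_map_toAut_mul (N := Y) R0
    have e2 : Nat.card (kerOn R D) * Nat.card ↥(R0 ⊓ centralizer (Y : Set G)) =
        Nat.card ↥(R0 ⊓ centralizer (V : Set G)) := by
      have h2 := card_map_toAut_mul (N := Y) (R0 ⊓ centralizer (V : Set G))
      rwa [map_inf_centralizer_toAut hVY, hR0R, inf_assoc,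
        inf_eq_right.2 (centralizer_le (hVY : (V : Set G) ⊆ Y))] at h2
    have e3 := card_subD_inf_fixV (N := Y) (R := R0) hVY
    rw [hR0R] at e1 e3
    rw [← e1, ← e2, ← e3, ← card_subD hVY] at h1
    refine Nat.lt_of_mul_lt_mul_right (a := Nat.card ↥(R0 ⊓ centralizer (Y : Set G)) ^ 3) ?_
    refine lt_of_eq_of_lt ?_ (lt_of_lt_of_eq h1 ?_) <;> ring
  rw [PLocal.thompsonSubgroupOf_eq]
  refine sSup_le fun E hE => ?_
  by_contra hnc
  refine not_offOn (additive_add_self hYe) (hG.of_surjective φ hφs) D (T.map φ) (hTp.map φ)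
    (hTo.of_dvd_nat (index_map_dvd T hφs)) hTst hgen hcD (E.map φ) (map_mono hE.1)
    (PLocal.isElementaryAbelian_map hE.2.1 φ) ⟨fun _ _ _ _ => trivial, ?_, ?_, ?_⟩
  · rintro _ ⟨e, he, rfl⟩ x -
    rw [← mul_smul, ← map_mul, ← pow_two, hE.2.1.2 e he, map_one, one_smul]
  · intro h
    refine hnc fun e he => ?_
    rw [← ker_autGrp Y, MonoidHom.mem_ker]
    exact eq_of_smul_eq_smul (α := Additive Y) fun x => by
      rw [one_smul]; exact h (AddSubgroup.mem_top x) _ ⟨e, he, rfl⟩
  · rw [kerOn_top_eq_bot, card_bot, mul_one, ← subD_self, card_subD_inf_fixV le_rfl, card_subD le_rfl]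
    refine Nat.le_of_mul_le_mul_right ?_
      (Nat.card_pos : 0 < Nat.card ↥(E ⊓ centralizer (Y : Set G)))
    refine le_trans (card_maxEA_offender hE hYe (hYQ.trans hQT)) (le_of_eq ?_)
    rw [← card_map_toAut_mul (N := Y) E]
    ring

end CfsgLib.LocalEven.OffenderBound
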