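import Cfsg.Agent.LocalEven.OffenderBound.Config

/-!
In the configuration without nontrivial odd normal subgroups a minimal normal subgroup is simple,
complemented up to overlap by `A`, and has trivial centraliser.
-/

set_option autoImplicit false

universe u

namespace CfsgLib.LocalEven.OffenderBound.Config

open Cfsg Subgroup
open CfsgLib.DicksonPSL2 (conjS mem_conjS conjS_mul conjS_one conjS_eq_self_iff)
open CfsgLib.MinNormal (IsMinNormal IsFactor conj_mem_of_le_normalizer le_normalizer_of_conj_mem)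

variable {X : Type u} [Group X] [Finite X] {T A F0 : Subgroup X}

theorem exists_minimal_normal (h : Config X T A F0)
    (hodd : ∀ W : Subgroup X, W.Normal → Odd (Nat.card W) → W = ⊥) :
    ∃ N : Subgroup X, IsMinNormal N ∧ ¬ IsMulCommutative N ∧ N ⊔ A = ⊤ ∧
      centralizer (N : Set X) = ⊥ := by
  have : Fact (Nat.Prime 2) := ⟨Nat.prime_two⟩
  have htop : (⊤ : Subgroup X) ≠ ⊥ := fun e => by
    have h1 := Subgroup.card_le_card_group A
    have h2 := h.four
    rw [← Subgroup.card_top (G := X), e, card_bot] at h1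
    omega
  obtain ⟨N, hN, -⟩ := MinNormal.exists_isMinNormal_le (⊤ : Subgroup X) htop
  have := hN.normal
  have hTN : T ⊓ N ≠ ⊥ := by
    intro e
    refine hN.ne_bot (hodd N hN.normal ?_)
    rw [← relIndex_bot_left, ← e, inf_relIndex_right]
    exact odd_relIndex_of_normal h.oddIndex N
  have hNT := h.normal_sup N hN.normal hTN
  have hnc : ¬ IsMulCommutative N := by
    intro hc
    have hn : (T ⊓ N).Normal := by
      rw [← normalizer_eq_top_iff, eq_top_iff, ← hNT]
      refine sup_le (le_normalizer_of_conj_mem fun l hl k hk => ?_)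
        (le_normalizer_of_conj_mem fun l hl k hk => ⟨T.mul_mem (T.mul_mem hl hk.1) (T.inv_mem hl),
          Normal.conj_mem inferInstance k hk.2 l⟩)
      have h1 : l * k = k * l := congrArg Subtype.val (hc.is_comm.comm (⟨l, hl⟩ : N) ⟨k, hk.2⟩)
      rwa [h1, mul_inv_cancel_right]
    exact hTN (h.eq_bot_of_pgroup (h.pgroup.to_le inf_le_left))
  refine ⟨N, hN, hnc, ?_, ?_⟩
  · let π := QuotientGroup.mk' N
    have hs : Function.Surjective π := QuotientGroup.mk'_surjective N
    have hp : IsPGroup 2 (⊤ : Subgroup (X ⧸ N)) := by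
      rw [← map_top_of_surjective π hs, ← hNT, Subgroup.map_sup,
        show N.map π = ⊥ from by rw [Subgroup.map_eq_bot_iff, QuotientGroup.ker_mk'], bot_sup_eq]
      exact h.pgroup.map π
    have : Group.IsNilpotent (X ⧸ N) := (hp.of_equiv topEquiv).isNilpotent
    rcases eq_top_or_exists_le_coatom (A.map π) with e | ⟨M, hM, hAM⟩
    · rw [← comap_top π, ← e, QuotientGroup.comap_map_mk']
    · have := NormalizerCondition.normal_of_coatom M Group.normalizerCondition_of_isNilpotent hM
      have hAM' : A ≤ M.comap π := map_le_iff_le_comap.1 hAM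
      refine absurd ?_ hM.1
      rw [← map_comap_eq_self_of_surjective hs M, h.eq_top_of_le hAM',
        map_top_of_surjective π hs]
  · set C := centralizer (N : Set X) with hC
    have hd : T ⊓ C = ⊥ := by
      by_contra hne
      have htop := h.normal_sup C inferInstance hne
      -- otherwise `X = C T` and `N` meets `C` in its trivial centre
      have hCN : N ⊓ C = ⊥ := (eq_bot_iff_forall _).2 fun x hx =>
        MinNormal.eq_one_of_commute_all hN hnc hx.1 fun m hm =>
          (mem_centralizer_iff.1 hx.2 m hm).symm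
      let π := QuotientGroup.mk' C
      have hp : IsPGroup 2 (X ⧸ C) := by
        refine (?_ : IsPGroup 2 (⊤ : Subgroup (X ⧸ C))).of_equiv topEquiv
        rw [← map_top_of_surjective π (QuotientGroup.mk'_surjective C), ← htop, Subgroup.map_sup,
          show C.map π = ⊥ from by rw [Subgroup.map_eq_bot_iff, QuotientGroup.ker_mk'], bot_sup_eq]
        exact h.pgroup.map π
      have hNp : IsPGroup 2 N := hp.of_injective (π.comp N.subtype) (by
        rw [← MonoidHom.ker_eq_bot_iff, eq_bot_iff]
        intro a ha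
        have : (a : X) ∈ N ⊓ C := ⟨a.2, (QuotientGroup.eq_one_iff (a : X)).1 ha⟩
        rw [hCN, mem_bot] at this
        exact mem_bot.2 (Subtype.ext this))
      exact hN.ne_bot (h.eq_bot_of_pgroup hNp)
    refine hodd C inferInstance ?_
    rw [← relIndex_bot_left, ← hd, inf_relIndex_right]
    exact odd_relIndex_of_normal h.oddIndex C

/-- The minimal normal subgroup is simple. -/
theorem factor_eq (h : Config X T A F0)
    (hodd : ∀ W : Subgroup X, W.Normal → Odd (Nat.card W) → W = ⊥) {N L : Subgroup X}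
    (hN : IsMinNormal N) (hnc : ¬ IsMulCommutative N) (hNA : N ⊔ A = ⊤)
    (hcen : centralizer (N : Set X) = ⊥) (hL : IsFactor N L) : L = N := by
  classical
  by_contra hne
  have := Fintype.ofFinite A
  have hNn := hN.normal
  have hLmem : ∀ {g x : X}, x ∈ L → g * x * g⁻¹ ∈ conjS g L := fun hx =>
    mem_conjS.2 (by simpa [mul_assoc] using hx)
  -- an element of `A` moving `L`
  obtain ⟨t, htA, ht⟩ : ∃ t ∈ A, conjS t L ≠ L := by
    by_contra hall
    push Not at hall
    have hn : L.Normal := by
      rw [← normalizer_eq_top_iff, eq_top_iff, ← hNA]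
      exact sup_le hL.normal fun a ha => conjS_eq_self_iff.1 (hall a ha)
    exact hne ((hN.minimal L hn hL.le).resolve_left hL.ne_bot)
  have ht2 := h.mul_self htA
  have hti : t⁻¹ = t := inv_eq_of_mul_eq_one_right ht2
  have ht1 : t ≠ 1 := by rintro rfl; exact ht (conjS_one L)
  have hf : ∀ g : X, IsFactor N (conjS g L) := fun g => hL.conj hN g
  have hcomm : ∀ {g g' : X} {x y : X}, conjS g L ≠ conjS g' L → x ∈ conjS g L → y ∈ conjS g' L →
      Commute x y := fun hgg hx hy => (hf _).commute (hf _) hgg hx hy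
  have hLt : ∀ {l m : X}, l ∈ L → m ∈ L → Commute l (t * m * t⁻¹) := fun hl hm =>
    hL.commute (hf t) (Ne.symm ht) hl (hLmem hm)
  let dg : L →* X := MonoidHom.mk' (fun l => l * (t * l * t⁻¹)) (fun l m => by
    show (l : X) * m * (t * (l * m) * t⁻¹) = l * (t * l * t⁻¹) * (m * (t * m * t⁻¹))
    rw [show t * ((l : X) * m) * t⁻¹ = t * l * t⁻¹ * (t * m * t⁻¹) by group]
    calc (l : X) * m * (t * l * t⁻¹ * (t * m * t⁻¹))
        = l * (m * (t * l * t⁻¹)) * (t * m * t⁻¹) := by group
      _ = l * ((t * l * t⁻¹) * m) * (t * m * t⁻¹) := by rw [(hLt m.2 l.2).eq]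
      _ = _ := by group)
  have dg_apply : ∀ l : L, dg l = l * (t * l * t⁻¹) := fun _ => rfl
  have hdinj : Function.Injective dg := by
    rw [← MonoidHom.ker_eq_bot_iff, eq_bot_iff]
    intro l hl
    have h1 : (l : X) * (t * l * t⁻¹) = 1 := hl
    have h2 : (l : X) ∈ L ⊓ conjS t L :=
      mem_inf.2 ⟨l.2, by rw [eq_inv_of_mul_eq_one_left h1]; exact inv_mem (hLmem l.2)⟩
    rw [hL.inf_eq_bot (hf t) (Ne.symm ht), mem_bot] at h2
    exact mem_bot.2 (Subtype.ext h2)
  set D := dg.range with hD
  have htD : ∀ l : L, t * dg l * t⁻¹ = dg l := by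
    intro l
    rw [dg_apply]
    calc t * ((l : X) * (t * l * t⁻¹)) * t⁻¹ = t * l * t⁻¹ * ((t * t) * l * (t * t)⁻¹) := by group
      _ = t * l * t⁻¹ * l := by rw [ht2]; simp
      _ = _ := (hLt l.2 l.2).eq.symm
  -- conjugation by an element of `A` fixing `L`
  have hDu : ∀ u ∈ A, conjS u L = L → conjS u D = D := by
    intro u hu huL
    refine conjS_eq_self_iff.2 ((le_normalizer_of_conj_mem (L := zpowers u) ?_) (mem_zpowers u))
    rintro v hv _ ⟨l, rfl⟩
    have hvA : v ∈ A := zpowers_le.2 hu hv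
    have hvL : v * (l : X) * v⁻¹ ∈ L := conj_mem_of_le_normalizer
      (zpowers_le.2 (conjS_eq_self_iff.1 huL)) hv l.2
    refine ⟨⟨_, hvL⟩, ?_⟩
    rw [dg_apply, dg_apply]
    have hvt := h.comm hvA htA
    calc v * (l : X) * v⁻¹ * (t * (v * l * v⁻¹) * t⁻¹)
        = v * l * v⁻¹ * ((t * v) * l * (t * v)⁻¹) := by group
      _ = v * l * v⁻¹ * ((v * t) * l * (v * t)⁻¹) := by rw [hvt]
      _ = _ := by group
  have hDt : conjS t D = D := conjS_eq_self_iff.2 ((le_normalizer_of_conj_mem (L := zpowers t) (by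
    rintro v hv _ ⟨l, rfl⟩
    obtain ⟨k, rfl⟩ := hv
    have : Commute t (dg l) := by
      have := htD l
      rwa [mul_inv_eq_iff_eq_mul] at this
    exact ⟨l, by rw [(this.zpow_left k).eq, mul_inv_cancel_right]⟩)) (mem_zpowers t))
  -- the conjugates of `D` are equal or commute
  have hpair : ∀ a b : A, conjS (a : X) D = conjS (b : X) D ∨
      ∀ x ∈ conjS (a : X) D, ∀ y ∈ conjS (b : X) D, Commute x y := by
    intro a b
    by_cases e1 : conjS (b : X) L = conjS (a : X) L
    · left
      have hu : conjS ((a : X)⁻¹ * b) L = L := by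
        rw [conjS_mul, e1, DicksonPSL2.conjS_inv_conjS]
      conv_rhs => rw [show (b : X) = a * ((a : X)⁻¹ * b) from (mul_inv_cancel_left _ _).symm,
        conjS_mul, hDu _ (mul_mem (inv_mem a.2) b.2) hu]
    by_cases e2 : conjS (b : X) L = conjS ((a : X) * t) L
    · left
      have hu : conjS (((a : X) * t)⁻¹ * b) L = L := by
        rw [conjS_mul, e2, DicksonPSL2.conjS_inv_conjS]
      conv_rhs => rw [show (b : X) = a * t * (((a : X) * t)⁻¹ * b) from
        (mul_inv_cancel_left _ _).symm, conjS_mul,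
        hDu _ (mul_mem (inv_mem (mul_mem a.2 htA)) b.2) hu, conjS_mul, hDt]
    right
    have e3 : conjS (a : X) L ≠ conjS ((b : X) * t) L := fun e => e2 (by
      rw [show (a : X) * t = t * a from h.comm a.2 htA, conjS_mul, e, ← conjS_mul,
        show t * ((b : X) * t) = b from by rw [h.comm b.2 htA, ← mul_assoc, ht2, one_mul]])
    have e4 : conjS ((a : X) * t) L ≠ conjS ((b : X) * t) L := fun e => e1 (by
      rw [show (a : X) * t = t * a from h.comm a.2 htA,
        show (b : X) * t = t * b from h.comm b.2 htA, conjS_mul, conjS_mul] at e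
      exact (map_injective (MulAut.conj t).injective e).symm)
    intro x hx y hy
    obtain ⟨l, hl⟩ := (mem_conjS.1 hx : _ ∈ D)
    obtain ⟨m, hm⟩ := (mem_conjS.1 hy : _ ∈ D)
    have hx' : x = (a : X) * l * (a : X)⁻¹ * (((a : X) * t) * l * ((a : X) * t)⁻¹) := by
      have : x = a * dg l * (a : X)⁻¹ := by rw [hl]; group
      rw [this, dg_apply]; group
    have hy' : y = (b : X) * m * (b : X)⁻¹ * (((b : X) * t) * m * ((b : X) * t)⁻¹) := by
      have : y = b * dg m * (b : X)⁻¹ := by rw [hm]; group
      rw [this, dg_apply]; group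
    rw [hx', hy']
    exact ((hcomm (Ne.symm e1) (hLmem l.2) (hLmem m.2)).mul_right
      (hcomm e3 (hLmem l.2) (hLmem m.2))).mul_left
      ((hcomm (Ne.symm e2) (hLmem l.2) (hLmem m.2)).mul_right (hcomm e4 (hLmem l.2) (hLmem m.2)))
  -- `T` meets all of them in Sylow subgroups
  have hoL : Odd (T.relIndex L) := by
    have hn : (L.subgroupOf N).Normal := normal_subgroupOf_of_le_normalizer hL.normal
    have h0 := odd_relIndex_of_normal h.oddIndex N
    have h1 : Odd ((T.subgroupOf N).relIndex (L.subgroupOf N)) :=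
      odd_relIndex_of_normal h0 (L.subgroupOf N)
    rwa [relIndex_subgroupOf hL.le] at h1
  have hoD : Odd (T.relIndex D) := by
    have h1 : T.subgroupOf L ≤ T.comap dg := fun l hl => by
      show dg l ∈ T
      rw [dg_apply]
      exact mul_mem hl (mul_mem (mul_mem (h.le_T htA) hl) (inv_mem (h.le_T htA)))
    rw [hD, MonoidHom.range_eq_map, ← relIndex_comap, relIndex_top_right]
    exact hoL.of_dvd_nat (index_dvd_of_le h1)
  have hconjT : ∀ a ∈ A, ∀ K : Subgroup X, T.relIndex (conjS a K) = T.relIndex K := by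
    intro a ha K
    conv_lhs => rw [← conjS_eq_self_iff.2 (le_normalizer (h.le_T ha) : a ∈ normalizer (T : Set X))]
    exact relIndex_map_map_of_injective T K (MulAut.conj a).injective
  set H1 := Finset.univ.sup (fun a : A => conjS (a : X) D) with hH1
  have hoH1 : Odd (T.relIndex H1) := by
    refine odd_relIndex_finset_sup _ _ (fun a _ => by rw [hconjT a a.2]; exact hoD)
      fun a _ b _ => ?_
    rcases hpair a b with e | e
    · show conjS (a : X) D ≤ _
      rw [e]
      exact le_normalizer
    · exact fun x hx => centralizer_le_normalizer _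
        (mem_centralizer_iff.2 fun y hy => (e x hx y hy).eq.symm)
  have hAH1 : A ≤ normalizer (H1 : Set X) := by
    intro c hc
    refine conjS_eq_self_iff.1 ?_
    rw [hH1, conjS, Finset.sup_eq_iSup]
    simp only [Finset.mem_univ, iSup_pos, Subgroup.map_iSup]
    exact (Equiv.mulLeft (⟨c, hc⟩ : A)).iSup_congr fun a => by simp [conjS_mul]; rfl
  have hDH1 : D ≤ H1 := le_trans (le_of_eq (by simp [conjS_one]))
    (Finset.le_sup (f := fun a : A => conjS (a : X) D) (Finset.mem_univ (1 : A)))
  set H := A ⊔ H1 with hH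
  have hoH : Odd (T.relIndex H) := odd_relIndex_sup hAH1 hoH1 (by
    rw [relIndex_eq_one.2 h.le_T]; exact odd_one)
  have hHne : H ≠ ⊤ := by
    intro e
    refine h.centralizer_singleton_ne_top htA ht1 (top_le_iff.1 (e.ge.trans (sup_le ?_ ?_)))
    · exact fun a ha => mem_centralizer_singleton_iff.2 (h.comm ha htA)
    · refine Finset.sup_le fun a _ x hx => ?_
      obtain ⟨l, hl⟩ := (mem_conjS.1 hx : _ ∈ D)
      rw [mem_centralizer_singleton_iff, show x = a * dg l * (a : X)⁻¹ by rw [hl]; group]
      have hl' : t * dg l = dg l * t := mul_inv_eq_iff_eq_mul.1 (htD l)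
      have hc1 := h.comm (inv_mem a.2) htA
      calc (a : X) * dg l * (a : X)⁻¹ * t = a * (dg l * t) * (a : X)⁻¹ := by
            simp only [mul_assoc]; rw [hc1]
        _ = (a * t) * dg l * (a : X)⁻¹ := by rw [← hl']; simp only [mul_assoc]
        _ = _ := by rw [h.comm a.2 htA]; simp only [mul_assoc]
  set G := closure {x : X | ∃ g ∈ H, ∃ a ∈ A, g * a * g⁻¹ = x} with hG
  have hH1core : pCore 2 ↥H1 = ⊥ := by
    set Q := pCore 2 ↥H1 with hQ
    -- `O₂` of `H1` centralises every conjugate of `D`, so every factor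
    refine le_bot_iff.1 fun q hq => mem_bot.2 (Subtype.ext ?_)
    have hqN : (q : X) ∈ N := by
      have hle : H1 ≤ N := by
        refine Finset.sup_le fun a _ x hx => ?_
        obtain ⟨l, hl⟩ := (mem_conjS.1 hx : _ ∈ D)
        rw [show x = a * dg l * (a : X)⁻¹ by rw [hl]; group, dg_apply]
        exact Normal.conj_mem hNn _
          (N.mul_mem (hL.le l.2) (Normal.conj_mem hNn _ (hL.le l.2) t)) _
      exact hle q.2
    have hcD : ∀ a : A, ∀ l : L, Commute (q : X) (a * dg l * (a : X)⁻¹) := by
      intro a l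
      have hmemH1 : ∀ l : L, (a : X) * dg l * (a : X)⁻¹ ∈ H1 := fun l =>
        Finset.le_sup (f := fun a : A => conjS (a : X) D) (Finset.mem_univ a)
          (mem_conjS.2 ⟨l, by group⟩)
      let ψ : L →* ↥H1 := ((MulAut.conj (a : X)).toMonoidHom.comp dg).codRestrict H1 hmemH1
      have hψ : Function.Injective ψ := fun l l' e => hdinj ((MulAut.conj (a : X)).injective
        (congrArg Subtype.val e))
      have hsimp := hL.isSimpleGroup hN
      have hLn := hL.not_commutative hN hnc
      have hpb : (Q.comap ψ) = ⊥ := by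
        refine (IsSimpleGroup.eq_bot_or_eq_top_of_normal _ inferInstance).resolve_right fun e => ?_
        have hp : IsPGroup 2 L := ((PLocal.isPGroup_pCore 2 ↥H1).comap_of_injective ψ hψ).of_equiv
          ((MulEquiv.subgroupCongr e).trans topEquiv)
        have : Fact (Nat.Prime 2) := ⟨Nat.prime_two⟩
        have : Group.IsNilpotent L := hp.isNilpotent
        exact hLn ⟨⟨IsSimpleGroup.comm_iff_isSolvable.2 inferInstance⟩⟩
      -- `[q, ψ l]` lies in `Q` and in the conjugate of `D`, as the latter is normal in `H1`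
      have hnorm : ψ.range.Normal := by
        refine ⟨fun y hy g => ?_⟩
        have hg : conjS (g : X) (conjS (a : X) D) = conjS (a : X) D := by
          refine conjS_eq_self_iff.2 ((Finset.sup_le ?_ : H1 ≤ _) g.2)
          intro b _
          rcases hpair b a with e | e
          · show conjS (b : X) D ≤ _
            rw [e]
            exact le_normalizer
          · exact fun x hx => centralizer_le_normalizer _
              (mem_centralizer_iff.2 fun z hz => (e x hx z hz).eq.symm)
        obtain ⟨m, rfl⟩ := hy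
        have h1 : (g : X) * (a * dg m * (a : X)⁻¹) * (g : X)⁻¹ ∈ conjS (a : X) D :=
          hg ▸ mem_conjS.2 (by
            refine mem_conjS.2 ⟨m, ?_⟩
            group)
        obtain ⟨m', hm'⟩ := (mem_conjS.1 h1 : _ ∈ D)
        refine ⟨m', Subtype.ext ?_⟩
        show (a : X) * dg m' * (a : X)⁻¹ = g * (a * dg m * (a : X)⁻¹) * (g : X)⁻¹
        rw [hm']; group
      have hcom : q * ψ l * q⁻¹ * (ψ l)⁻¹ = 1 := by
        obtain ⟨m, hm⟩ := mul_mem (hnorm.conj_mem _ ⟨l, rfl⟩ q) (inv_mem ⟨l, rfl⟩)
        have hmQ : m ∈ Q.comap ψ := by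
          show ψ m ∈ Q
          rw [hm, show q * ψ l * q⁻¹ * (ψ l)⁻¹ = q * (ψ l * q⁻¹ * (ψ l)⁻¹) by group]
          exact mul_mem hq (Normal.conj_mem inferInstance _ (inv_mem hq) _)
        rw [hpb, mem_bot] at hmQ
        rw [← hm, hmQ, map_one]
      have := congrArg Subtype.val hcom
      simp only [Subgroup.coe_mul, Subgroup.coe_inv, OneMemClass.coe_one, mul_inv_eq_one] at this
      exact mul_inv_eq_iff_eq_mul.1 this
    -- hence `q` centralises all factors
    refine MinNormal.eq_one_of_commute_factors hN hnc hL hqN fun V hV v hv => ?_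
    obtain ⟨b, hbV⟩ : ∃ b : A, V = conjS (b : X) L := by
      by_contra hcon
      push Not at hcon
      refine hV.ne_bot (le_bot_iff.1 fun x hx => mem_bot.2 ?_)
      refine hV.eq_one_of_commute hN hnc hx fun u hu => ?_
      have hxN : x ∈ centralizer (N : Set X) → x = 1 := fun h' => by rwa [hcen, mem_bot] at h'
      rw [hxN (mem_centralizer_iff.2 fun m hm => ?_)]
      · exact Commute.one_left u
      rw [SetLike.mem_coe, ← MinNormal.iSup_factor_eq hN hL] at hm
      induction hm using Subgroup.iSup_induction' with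
      | hp g z hz =>
        have hg : g ∈ ((N ⊔ A : Subgroup X) : Set X) := by rw [hNA]; exact mem_top g
        rw [normal_mul] at hg
        obtain ⟨n, hn, b, hb, rfl⟩ := hg
        have e : conjS n (conjS b L) = conjS b L := conjS_eq_self_iff.2 ((hf b).normal hn)
        have hz' : z ∈ conjS b L := by rw [← e, ← conjS_mul]; exact hz
        exact ((hV.commute (hf b) (hcon ⟨b, hb⟩) hx hz').eq).symm
      | h1 => simp
      | hmul x' y' _ _ hx' hy' => exact (Commute.mul_left hx' hy').eq
    subst hbV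
    -- `q = l₀ z` along `L ^ b`
    obtain ⟨u, hu, z, -, hz, hquz⟩ := MinNormal.exists_mul_decomp hN (hf (b : X)) hqN
    have hu1 : u = 1 := by
      refine (hf (b : X)).eq_one_of_commute hN hnc hu fun w hw => ?_
      obtain ⟨l, hl⟩ : ∃ l : L, w = (b : X) * l * (b : X)⁻¹ :=
        ⟨⟨_, mem_conjS.1 hw⟩, by group⟩
      set w' := ((b : X) * t) * l * ((b : X) * t)⁻¹ with hw'
      have hsplit : (b : X) * dg l * (b : X)⁻¹ = w * w' := by
        rw [hl, hw', dg_apply]; group
      have hne' : conjS ((b : X) * t) L ≠ conjS (b : X) L := fun e => ht (by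
        rw [conjS_mul] at e
        exact map_injective (MulAut.conj (b : X)).injective e)
      have huw' : Commute u w' := hcomm hne'.symm hu (hLmem l.2)
      have hc := hcD b l
      rw [hsplit, hquz] at hc
      -- compare the components in `L ^ b`
      have h1 : u * w * u⁻¹ = u * (z * w * z⁻¹) * u⁻¹ := by
        rw [(hz w hw).eq, mul_inv_cancel_right]
      have h2 : u * z * (w * w') = w * w' * (u * z) := hc.eq
      have h3 : u * w * u⁻¹ * w⁻¹ = w' * (z * w' * z⁻¹)⁻¹ := by
        have h4 : u * z * (w * w') * (u * z)⁻¹ = w * w' := by rw [h2, mul_inv_cancel_right]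
        have h5 : u * z * (w * w') * (u * z)⁻¹ = (u * w * u⁻¹) * (z * w' * z⁻¹) := by
          have hzw' : u * (z * w' * z⁻¹) * u⁻¹ = z * w' * z⁻¹ := by
            have hzw : z * w' * z⁻¹ ∈ conjS ((b : X) * t) L := by
              have hzN : z ∈ N := by
                have : z = u⁻¹ * q := by rw [hquz, inv_mul_cancel_left]
                rw [this]
                exact N.mul_mem (inv_mem ((hf (b : X)).le hu)) hqN
              exact conj_mem_of_le_normalizer (hf _).normal hzN (hLmem l.2)
            rw [(hcomm hne'.symm hu hzw).eq, mul_inv_cancel_right]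
          calc u * z * (w * w') * (u * z)⁻¹
              = (u * (z * w * z⁻¹) * u⁻¹) * (u * (z * w' * z⁻¹) * u⁻¹) := by group
            _ = _ := by rw [← h1, hzw']
        have h6 : (u * w * u⁻¹) * (z * w' * z⁻¹) = w * w' := h5.symm.trans h4
        have h7 : u * w * u⁻¹ = w * w' * (z * w' * z⁻¹)⁻¹ := eq_mul_inv_of_mul_eq h6
        have hwu : Commute w (w' * (z * w' * z⁻¹)⁻¹) := by
          have hzN : z ∈ N := by
            have : z = u⁻¹ * q := by rw [hquz, inv_mul_cancel_left]
            rw [this]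
            exact N.mul_mem (inv_mem ((hf (b : X)).le hu)) hqN
          exact (hcomm hne'.symm hw (hLmem l.2)).mul_right
            (hcomm hne'.symm hw (conj_mem_of_le_normalizer (hf _).normal hzN (hLmem l.2))).inv_right
        rw [h7, mul_assoc w w', hwu.eq, mul_inv_cancel_right]
      have h8 : u * w * u⁻¹ * w⁻¹ ∈ conjS (b : X) L ⊓ conjS ((b : X) * t) L := by
        refine mem_inf.2 ⟨mul_mem (mul_mem (mul_mem hu hw) (inv_mem hu)) (inv_mem hw), ?_⟩
        rw [h3]
        have hzN : z ∈ N := by
          have : z = u⁻¹ * q := by rw [hquz, inv_mul_cancel_left]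
          rw [this]
          exact N.mul_mem (inv_mem ((hf (b : X)).le hu)) hqN
        exact mul_mem (hLmem l.2)
          (inv_mem (conj_mem_of_le_normalizer (hf _).normal hzN (hLmem l.2)))
      rw [(hf _).inf_eq_bot (hf _) hne'.symm, mem_bot, mul_inv_eq_one, mul_inv_eq_iff_eq_mul] at h8
      exact h8
    rw [hquz, hu1, one_mul]
    exact hz v hv
  have hGF : G ≤ F0 := by
    rw [hG, closure_le]
    rintro _ ⟨g, hg, a, ha, rfl⟩
    have hg' : g ∈ ((H1 ⊔ A : Subgroup X) : Set X) := by rw [sup_comm]; exact hg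
    rw [coe_mul_of_right_le_normalizer_left H1 A hAH1] at hg'
    obtain ⟨w, hw, b, hb, rfl⟩ := hg'
    rw [show w * b * a * (w * b)⁻¹ = w * (b * a * b⁻¹) * w⁻¹ by group,
      h.comm hb ha, mul_inv_cancel_right]
    exact h.fam H1 hAH1 hH1core (by rwa [sup_comm]) (by rwa [sup_comm]) w hw a ha
  have hGn : H ≤ normalizer (G : Set X) := le_normalizer_of_conj_mem fun g hg k hk => by
    induction hk using closure_induction with
    | mem x hx =>
      obtain ⟨g', hg', a, ha, rfl⟩ := hx
      exact subset_closure ⟨g * g', mul_mem hg hg', a, ha, by group⟩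
    | one => simp
    | mul x y _ _ hx hy =>
      have := mul_mem hx hy
      simpa [mul_assoc] using this
    | inv x _ hx =>
      have := inv_mem hx
      simpa [mul_assoc] using this
  have hDH : D ≤ H := hDH1.trans le_sup_right
  have hAG : A ≤ G := fun a ha => subset_closure ⟨1, one_mem H, a, ha, by simp⟩
  have hsimple := hL.isSimpleGroup hN
  have hLnc := hL.not_commutative hN hnc
  have hDG : D ≤ G := by
    suffices ∃ l : L, l ≠ 1 ∧ dg l ∈ G by
      obtain ⟨l, hl1, hlG⟩ := this
      have hn : (G.comap dg).Normal := ⟨fun x hx g => by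
        show dg (g * x * g⁻¹) ∈ G
        rw [map_mul, map_mul, map_inv]
        exact conj_mem_of_le_normalizer hGn (hDH ⟨g, rfl⟩) hx⟩
      rcases IsSimpleGroup.eq_bot_or_eq_top_of_normal _ hn with e | e
      · exact absurd (mem_bot.1 (e ▸ (hlG : l ∈ G.comap dg))) hl1
      · rintro _ ⟨x, rfl⟩
        exact (e ▸ mem_top x : x ∈ G.comap dg)
    by_cases hst : ∃ a ∈ A, a ≠ 1 ∧ conjS a L = L
    · obtain ⟨a, ha, ha1, haL⟩ := hst
      obtain ⟨l, hl⟩ : ∃ l : L, a * (l : X) ≠ l * a := by
        by_contra hall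
        push Not at hall
        refine ha1 ?_
        have : a ∈ centralizer (N : Set X) := by
          rw [mem_centralizer_iff]
          intro m hm
          rw [SetLike.mem_coe, ← MinNormal.iSup_factor_eq hN hL] at hm
          induction hm using Subgroup.iSup_induction' with
          | hp g z hz =>
            have hg : g ∈ ((N ⊔ A : Subgroup X) : Set X) := by rw [hNA]; exact mem_top g
            rw [normal_mul] at hg
            obtain ⟨n, hn, b, hb, rfl⟩ := hg
            have hz' : z ∈ conjS b L := by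
              have e : conjS n (conjS b L) = conjS b L := conjS_eq_self_iff.2 ((hf b).normal hn)
              rw [← e, ← conjS_mul]
              exact hz
            have hc : b⁻¹ * z * b * a = a * (b⁻¹ * z * b) :=
              (hall ⟨_, mem_conjS.1 hz'⟩).symm
            calc z * a = b * (b⁻¹ * z * b * (b⁻¹ * a * b)) * b⁻¹ := by group
              _ = b * (b⁻¹ * z * b * a) * b⁻¹ := by
                rw [show b⁻¹ * a * b = a by rw [mul_assoc, h.comm ha hb, inv_mul_cancel_left]]
              _ = b * a * b⁻¹ * z := by rw [hc]; group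
              _ = a * z := by rw [h.comm hb ha, mul_inv_cancel_right]
          | h1 => simp
          | hmul x y _ _ hx hy => exact (Commute.mul_left hx hy).eq
        rwa [hcen, mem_bot] at this
      have haL' : a * (l : X) * a⁻¹ ∈ L :=
        conj_mem_of_le_normalizer (zpowers_le.2 (conjS_eq_self_iff.1 haL)) (mem_zpowers a) l.2
      have hadg : a * dg l * a⁻¹ = dg ⟨_, haL'⟩ := by
        rw [dg_apply, dg_apply]
        calc a * ((l : X) * (t * l * t⁻¹)) * a⁻¹ = a * l * a⁻¹ * ((a * t) * l * (a * t)⁻¹) := by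
              group
          _ = a * l * a⁻¹ * ((t * a) * l * (t * a)⁻¹) := by rw [h.comm ha htA]
          _ = _ := by group
      refine ⟨l * (⟨_, haL'⟩ : L)⁻¹, fun e => hl ?_, ?_⟩
      · have := congrArg Subtype.val (mul_inv_eq_one.1 e)
        simp only at this
        rw [eq_mul_inv_iff_mul_eq] at this
        exact this.symm
      · rw [map_mul, map_inv, ← hadg, show dg l * (a * dg l * a⁻¹)⁻¹ = dg l * a * (dg l)⁻¹ * a⁻¹
          by group]
        exact mul_mem (subset_closure ⟨_, hDH ⟨l, rfl⟩, a, ha, rfl⟩) (inv_mem (hAG ha))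
    · push Not at hst
      obtain ⟨a, ha, ha1, hat⟩ : ∃ a ∈ A, a ≠ 1 ∧ a ≠ t := by
        by_contra hall
        push Not at hall
        have hsub : (A : Set X) ⊆ {1, t} := fun a ha => by
          rcases eq_or_ne a 1 with e | e
          · exact Or.inl e
          · exact Or.inr (hall a ha e)
        have h1 := Set.ncard_le_ncard hsub (Set.toFinite _)
        have h2 : ({1, t} : Set X).ncard ≤ 2 :=
          (Set.ncard_insert_le _ _).trans (by rw [Set.ncard_singleton])
        rw [← Nat.card_coe_set_eq] at h1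
        have := h.four
        simp only [SetLike.coe_sort_coe] at h1
        omega
      obtain ⟨l, m, hlm⟩ : ∃ l m : L, l * m ≠ m * l := by
        by_contra hall
        push Not at hall
        exact hLnc ⟨⟨hall⟩⟩
      refine ⟨m * l * m⁻¹ * l⁻¹, fun e => hlm ?_, ?_⟩
      · rw [mul_inv_eq_one, mul_inv_eq_iff_eq_mul] at e
        exact e.symm
      set x := a * (dg l)⁻¹ * a⁻¹ with hx
      have hxc : Commute x (dg m) := by
        have hat' : a * t ≠ 1 := fun e => hat (by rw [eq_inv_of_mul_eq_one_left e, hti])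
        have n1 : conjS a L ≠ L := hst a ha ha1
        have n2 : conjS (a * t) L ≠ L := hst _ (mul_mem ha htA) hat'
        have n3 : conjS a L ≠ conjS t L := fun e => n2 (by
          rw [h.comm ha htA, conjS_mul, e, ← conjS_mul, ht2, conjS_one])
        have n4 : conjS (a * t) L ≠ conjS t L := fun e => n1 (by
          rw [h.comm ha htA, conjS_mul] at e
          exact map_injective (MulAut.conj t).injective e)
        have n1' : conjS a L ≠ conjS (1 : X) L := by rwa [conjS_one]
        have n2' : conjS (a * t) L ≠ conjS (1 : X) L := by rwa [conjS_one]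
        have hm' : (m : X) ∈ conjS (1 : X) L := by rw [conjS_one]; exact m.2
        rw [show x = a * (l⁻¹ : L) * a⁻¹ * ((a * t) * (l⁻¹ : L) * (a * t)⁻¹) from by
          rw [hx, ← map_inv, dg_apply]; group, dg_apply]
        exact ((hcomm n1' (hLmem (l⁻¹).2) hm').mul_right (hcomm n3 (hLmem (l⁻¹).2) (hLmem m.2))).mul_left
          ((hcomm n2' (hLmem (l⁻¹).2) hm').mul_right (hcomm n4 (hLmem (l⁻¹).2) (hLmem m.2)))
      have hg : dg l * x ∈ G := by
        rw [hx, show dg l * (a * (dg l)⁻¹ * a⁻¹) = dg l * a * (dg l)⁻¹ * a⁻¹ by group]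
        exact mul_mem (subset_closure ⟨_, hDH ⟨l, rfl⟩, a, ha, rfl⟩) (inv_mem (hAG ha))
      have key : dg (m * l * m⁻¹ * l⁻¹) = dg m * (dg l * x) * (dg m)⁻¹ * (dg l * x)⁻¹ := by
        rw [map_mul, map_mul, map_mul, map_inv, map_inv]
        calc dg m * dg l * (dg m)⁻¹ * (dg l)⁻¹
            = dg m * dg l * (x * (dg m)⁻¹) * x⁻¹ * (dg l)⁻¹ := by
              rw [(hxc.inv_right).eq]; group
          _ = _ := by group
      rw [key]
      exact mul_mem (conj_mem_of_le_normalizer hGn (hDH ⟨m, rfl⟩) hg) (inv_mem hg)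
  -- so `L ≤ F0`
  obtain ⟨s, hs, hs1⟩ := (T ⊓ L).bot_or_exists_ne_one.resolve_left fun e => by
    have hLodd : Odd (Nat.card L) := by
      rw [← relIndex_bot_left, ← e, inf_relIndex_right]
      exact hoL
    have h1 : Odd ((⊥ : Subgroup X).relIndex (Finset.univ.sup fun a : A => conjS (a : X) L)) := by
      refine odd_relIndex_finset_sup _ _ (fun a _ => ?_) fun a _ b _ => ?_
      · rw [relIndex_bot_left, DicksonPSL2.card_conjS]; exact hLodd
      · exact (hf _).le.trans (hf _).normal
    refine hN.ne_bot (hodd N hN.normal (h1.of_dvd_nat ?_))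
    rw [relIndex_bot_left]
    refine card_dvd_of_le ?_
    conv_lhs => rw [← MinNormal.iSup_factor_eq hN hL]
    refine iSup_le fun g => ?_
    have hg : g ∈ ((N ⊔ A : Subgroup X) : Set X) := by rw [hNA]; exact mem_top g
    rw [normal_mul] at hg
    obtain ⟨n, hn, b, hb, rfl⟩ := hg
    show conjS (n * b) L ≤ _
    rw [conjS_mul, conjS_eq_self_iff.2 ((hf b).normal hn)]
    exact Finset.le_sup (f := fun a : A => conjS (a : X) L) (Finset.mem_univ (⟨b, hb⟩ : A))
  obtain ⟨l, hl⟩ : ∃ l : L, (l : X) * s ≠ s * l := by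
    by_contra hall
    push Not at hall
    exact hs1 (hL.eq_one_of_commute hN hnc hs.2 fun u hu => (hall ⟨u, hu⟩).symm)
  have hmemF : s * l * s⁻¹ * (l : X)⁻¹ ∈ F0 ⊓ L := by
    refine mem_inf.2 ⟨?_, mul_mem (mul_mem (mul_mem hs.2 l.2) (inv_mem hs.2)) (inv_mem l.2)⟩
    have h1 : dg l ∈ F0 := hGF (hDG ⟨l, rfl⟩)
    have h2 : s * dg l * s⁻¹ ∈ F0 := conj_mem_of_le_normalizer h.T_le hs.1 h1
    have h3 := mul_mem h2 (inv_mem h1)
    suffices e : s * (l : X) * s⁻¹ * (l : X)⁻¹ = s * dg l * s⁻¹ * (dg l)⁻¹ by rwa [e]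
    rw [dg_apply]
    have hc : Commute (t * (l : X) * t⁻¹) s⁻¹ := (hLt hs.2 l.2).inv_left.symm
    calc s * (l : X) * s⁻¹ * (l : X)⁻¹
        = s * l * (s⁻¹ * (t * l * t⁻¹)) * (t * l * t⁻¹)⁻¹ * (l : X)⁻¹ := by group
      _ = s * l * ((t * l * t⁻¹) * s⁻¹) * (t * l * t⁻¹)⁻¹ * (l : X)⁻¹ := by rw [hc.eq]
      _ = _ := by group
  have hFL : F0 ⊓ L = L := by
    refine (hL.eq_bot_or_eq hN (F0 ⊓ L) inf_le_right
      (le_normalizer_of_conj_mem fun u hu k hk =>
        mem_inf.2 ⟨?_, mul_mem (mul_mem hu hk.2) (inv_mem hu)⟩)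
      ).resolve_left fun e => hl ?_
    · have h1 : dg ⟨u, hu⟩ ∈ F0 := hGF (hDG ⟨_, rfl⟩)
      have h2 := mul_mem (mul_mem h1 hk.1) (inv_mem h1)
      suffices e : u * k * u⁻¹ = dg ⟨u, hu⟩ * k * (dg ⟨u, hu⟩)⁻¹ by rwa [e]
      rw [dg_apply]
      have hc : Commute (t * u * t⁻¹) k := (hLt hk.2 hu).symm
      calc u * k * u⁻¹ = u * (k * (t * u * t⁻¹)) * (t * u * t⁻¹)⁻¹ * u⁻¹ := by group
        _ = u * ((t * u * t⁻¹) * k) * (t * u * t⁻¹)⁻¹ * u⁻¹ := by rw [hc.eq]
        _ = _ := by group
    · rw [e, mem_bot, mul_inv_eq_one, mul_inv_eq_iff_eq_mul] at hmemF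
      exact hmemF.symm
  have hLF : L ≤ F0 := hFL ▸ inf_le_left
  refine h.F_ne (top_le_iff.1 (hNA.ge.trans (sup_le ?_ h.le_F)))
  conv_lhs => rw [← MinNormal.iSup_factor_eq hN hL]
  refine iSup_le fun g => ?_
  have hg : g ∈ ((N ⊔ A : Subgroup X) : Set X) := by rw [hNA]; exact mem_top g
  rw [normal_mul] at hg
  obtain ⟨n, hn, b, hb, rfl⟩ := hg
  show conjS (n * b) L ≤ _
  rw [conjS_mul, conjS_eq_self_iff.2 ((hf b).normal hn)]
  intro x hx
  have := hLF (mem_conjS.1 hx)
  have h2 := mul_mem (mul_mem (h.le_F hb) this) (inv_mem (h.le_F hb))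
  simpa [mul_assoc] using h2

end CfsgLib.LocalEven.OffenderBound.Config
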