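import Cfsg.Agent.LocalEven.OffenderBound.EGroup

/-!
Glauberman's factorization theorems for constrained `S₄`-free groups with restricted composition
factors.
-/

set_option autoImplicit false

universe u

namespace CfsgLib.LocalEven.OffenderBound

open Cfsg Subgroup
open scoped IsMulCommutative commutatorElement
open CfsgLib.MinNormal (conj_mem_of_le_normalizer le_normalizer_of_conj_mem)
open CfsgLib.NoOffender (fixV autGrp conjAdd ker_autGrp)

variable {G : Type u} [Group G]

/-! ### The hypotheses -/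

theorem pCore_perm_three : pCore 2 (Equiv.Perm (Fin 3)) = ⊥ := by
  have : Fact (Nat.Prime 2) := ⟨Nat.prime_two⟩
  rw [eq_bot_iff]
  intro x hx
  have hsq : ∀ y ∈ pCore 2 (Equiv.Perm (Fin 3)), y * y = 1 := by
    intro y hy
    obtain ⟨k, hk⟩ := PLocal.isPGroup_pCore 2 (Equiv.Perm (Fin 3)) ⟨y, hy⟩
    have h1 : orderOf y ∣ 2 ^ k := orderOf_dvd_of_pow_eq_one (congrArg Subtype.val hk)
    have h2 : orderOf y ∣ 2 * 3 := by
      have := orderOf_dvd_natCard y
      rwa [Nat.card_perm, Nat.card_fin] at this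
    have h3 : orderOf y ∣ 2 :=
      (Nat.Coprime.coprime_dvd_left h1 (Nat.Coprime.pow_left k (by norm_num))).dvd_of_dvd_mul_right h2
    rw [← pow_two]
    exact orderOf_dvd_iff_pow_eq_one.1 h3
  have key : ∀ x : Equiv.Perm (Fin 3), x * x = 1 →
      (∀ g : Equiv.Perm (Fin 3), (g * x * g⁻¹ * x) * (g * x * g⁻¹ * x) = 1) → x = 1 := by
    decide +kernel
  exact mem_bot.2 (key x (hsq x hx) fun g =>
    hsq _ (mul_mem ((inferInstance : (pCore 2 (Equiv.Perm (Fin 3))).Normal).conj_mem x hx g) hx))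

/-- A constrained `S₄`-free group has no section `S₃`. -/
theorem not_involves_s3_of_constrained [Finite G]
    (hchar : centralizer (pCore 2 G : Set G) ≤ pCore 2 G)
    (hfree : ¬ Involves (Equiv.Perm (Fin 4)) G) : ¬ Involves (Equiv.Perm (Fin 3)) G := by
  intro h
  have : Fact (Nat.Prime 2) := ⟨Nat.prime_two⟩
  set Q := pCore 2 G with hQ
  have hQp : IsPGroup 2 Q := PLocal.isPGroup_pCore 2 G
  refine hfree (Cfsg.Agent.S2759.sufficiency Q hQp ?_)
  set N := normalizer (Q : Set G) with hN
  set C := (centralizer (Q : Set G)).subgroupOf N with hC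
  have hNtop : N = ⊤ := normalizer_eq_top Q
  obtain ⟨L, f, hf⟩ := ConjFunctor.exists_hom_of_involves h
  let ι : ↥L →* ↥N := L.subtype.codRestrict N fun x => hNtop ▸ mem_top _
  let q : ↥L →* ↥N ⧸ C := (QuotientGroup.mk' C).comp ι
  have hker : q.rangeRestrict.ker ≤ f.ker := by
    intro x hx
    rw [MonoidHom.ker_rangeRestrict, MonoidHom.mem_ker] at hx
    have hxQ : (x : G) ∈ centralizer (Q : Set G) := (QuotientGroup.eq_one_iff (ι x)).1 hx
    have hn : ((centralizer (Q : Set G)).subgroupOf L).Normal := inferInstance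
    have hp : IsPGroup 2 ((centralizer (Q : Set G)).subgroupOf L) :=
      (hQp.to_le hchar).comap_of_injective _ L.subtype_injective
    have : (((centralizer (Q : Set G)).subgroupOf L).map f).Normal := hn.map f hf
    exact mem_bot.1 (pCore_perm_three ▸
      PLocal.le_pCore (hp.map f) ⟨x, hxQ, rfl⟩ : f x ∈ (⊥ : Subgroup (Equiv.Perm (Fin 3))))
  let g : ↥q.range →* Equiv.Perm (Fin 3) :=
    q.rangeRestrict.liftOfSurjective q.rangeRestrict_surjective ⟨f, hker⟩
  refine ConjFunctor.involves_trans (ConjFunctor.involves_subgroup q.range)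
    (ConjFunctor.involves_of_surjective g fun z => ?_)
  obtain ⟨l, rfl⟩ := hf z
  exact ⟨q.rangeRestrict l, MonoidHom.liftOfRightInverse_comp_apply q.rangeRestrict _
    (Function.rightInverse_surjInv q.rangeRestrict_surjective) ⟨f, hker⟩ l⟩

/-- A normal subgroup of a constrained group is constrained. -/
theorem constrained_of_normal [Finite G] (hchar : centralizer (pCore 2 G : Set G) ≤ pCore 2 G)
    (M : Subgroup G) [hM : M.Normal] :
    centralizer (pCore 2 ↥M : Set ↥M) ≤ pCore 2 ↥M := by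
  have : Fact (Nat.Prime 2) := ⟨Nat.prime_two⟩
  set Q := pCore 2 G with hQ
  have hQp : IsPGroup 2 Q := PLocal.isPGroup_pCore 2 G
  refine PLocal.le_pCore fun c => ?_
  obtain ⟨k, l, hl, hkl⟩ := Nat.exists_eq_two_pow_mul_odd (orderOf_pos (c : ↥M)).ne'
  refine ⟨k, Subtype.ext ?_⟩
  set y : ↥M := (c : ↥M) ^ 2 ^ k with hy
  show y = 1
  have hyl : Odd (orderOf y) := hl.of_dvd_nat (orderOf_dvd_of_pow_eq_one (by
    rw [hy, ← pow_mul, ← hkl, pow_orderOf_eq_one]))
  have hyQ : (y : G) ∈ Q := hchar (mem_centralizer_iff.2 fun q hq => by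
    set z : G := q⁻¹ * ((y : G) * q * (y : G)⁻¹) with hz
    have hzQ : z ∈ Q := mul_mem (inv_mem hq) ((inferInstance : Q.Normal).conj_mem q hq _)
    have hzM : z ∈ M := by
      rw [hz, ← mul_assoc]
      refine mul_mem ?_ (inv_mem y.2)
      rw [← mul_assoc]
      simpa using hM.conj_mem (y : G) y.2 q⁻¹
    have hcz : (y : G) * z * (y : G)⁻¹ = z := by
      have h1 : (⟨z, hzM⟩ : ↥M) ∈ pCore 2 ↥M := PLocal.pCore_subgroupOf_le M hzQ
      have h2 : y ∈ centralizer (pCore 2 ↥M : Set ↥M) := pow_mem c.2 _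
      exact mul_inv_eq_iff_eq_mul.2 (congrArg Subtype.val (mem_centralizer_iff.1 h2 _ h1)).symm
    have hpow : ∀ j : ℕ, (y : G) ^ j * q * ((y : G) ^ j)⁻¹ = q * z ^ j := fun j => by
      induction j with
      | zero => simp
      | succ j ihj =>
        have hcx : (y : G) * q * (y : G)⁻¹ = q * z := by rw [hz, mul_inv_cancel_left]
        calc (y : G) ^ (j + 1) * q * ((y : G) ^ (j + 1))⁻¹ =
            (y : G) * ((y : G) ^ j * q * ((y : G) ^ j)⁻¹) * (y : G)⁻¹ := by rw [pow_succ']; group
          _ = (y : G) * q * (y : G)⁻¹ * ((y : G) * z * (y : G)⁻¹) ^ j := by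
              rw [ihj, conj_pow]; group
          _ = q * z ^ (j + 1) := by rw [hcx, hcz, pow_succ']; group
    have h3 := hpow (orderOf (y : G))
    rw [pow_orderOf_eq_one, one_mul, inv_one, mul_one, eq_comm, mul_eq_left] at h3
    obtain ⟨i, hi⟩ := hQp ⟨z, hzQ⟩
    have hz1 : z = 1 := orderOf_eq_one_iff.1 (Nat.eq_one_of_dvd_coprimes
      (Nat.Coprime.pow_left i (Nat.coprime_two_left.2 (by rwa [Subgroup.orderOf_coe])))
      (orderOf_dvd_of_pow_eq_one (congrArg Subtype.val hi)) (orderOf_dvd_of_pow_eq_one h3))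
    rw [hz, inv_mul_eq_one] at hz1
    exact (mul_inv_eq_iff_eq_mul.1 hz1.symm).symm)
  obtain ⟨j, hj⟩ := hQp ⟨(y : G), hyQ⟩
  exact orderOf_eq_one_iff.1 (Nat.eq_one_of_dvd_coprimes
    (Nat.Coprime.pow_left j (Nat.coprime_two_left.2 hyl))
    (orderOf_dvd_of_pow_eq_one (Subtype.ext (congrArg Subtype.val hj :))) dvd_rfl)

/-! ### `Ĵ` inside an ambient group -/

theorem isEGroup_congr {A B : Type u} [Group A] [Group B] (e : A ≃* B) (h : IsEGroup A) :
    IsEGroup B := by
  intro V hVn hVe hV
  set e' := e.toMonoidHom with he'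
  have he : Function.Injective e' := e.injective
  set V0 := V.comap e' with hV0
  have hVmap : V0.map e' = V := map_comap_eq_self_of_surjective e.surjective V
  have hmem : ∀ x, x ∈ centralizer (V0 : Set A) → e' x ∈ centralizer (V : Set B) := by
    intro x hx
    refine mem_centralizer_iff.2 fun v hv => ?_
    obtain ⟨v, hv, rfl⟩ := hVmap.ge hv
    rw [← map_mul, ← map_mul, mem_centralizer_iff.1 hx v hv]
  have hle := h V0 (hVn.comap e') ((PLocal.isElementaryAbelian_map_iff he).1 (by rwa [hVmap]))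
    fun R hRc hRs hRn => by
      have h1 := hV (R.map e') (by
          rw [← map_commutator]
          rintro _ ⟨r, hr, rfl⟩
          exact hmem r (hRc hr)) (by
          rintro _ ⟨r, hr, rfl⟩
          rw [← map_pow]
          exact hmem _ (hRs r hr)) fun hle => hRn fun r hr => mem_centralizer_iff.2 fun v hv => he (by
            rw [map_mul, map_mul]
            exact mem_centralizer_iff.1 (hle ⟨r, hr, rfl⟩) (e' v) hv)
      rw [← hVmap, card_map_inf_centralizer he, card_map_inf_centralizer he, ← map_commutator,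
        ← Nat.card_congr (R.equivMapOfInjective e' he).toEquiv,
        ← Nat.card_congr (V0.equivMapOfInjective e' he).toEquiv,
        ← Nat.card_congr ((⁅V0, R⁆).equivMapOfInjective e' he).toEquiv] at h1
      exact h1
  intro v hv
  obtain ⟨v, hv, rfl⟩ := hVmap.ge hv
  refine mem_center_iff.2 fun b => ?_
  obtain ⟨a, rfl⟩ := e.surjective b
  show e a * e v = e v * e a
  rw [← map_mul, ← map_mul, mem_center_iff.1 (hle hv) a]

/-- `Ĵ(S)` in the ambient group. -/
abbrev jHatOf (S : Subgroup G) : Subgroup G := (jHat ↥S).map S.subtype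

theorem jHatOf_le (S : Subgroup G) : jHatOf S ≤ S := map_subtype_le _

theorem le_jHatOf {S U : Subgroup G} (hU : U ≤ S) (hE : IsEGroup ↥U)
    (hJ : thompsonSubgroupOf 2 S ≤ U) : U ≤ jHatOf S := by
  have h1 : U.subgroupOf S ≤ jHat ↥S := le_sSup
    ⟨isEGroup_congr (subgroupOfEquivOfLe hU).symm hE, fun x hx => hJ ⟨x, hx, rfl⟩⟩
  rw [← map_subgroupOf_eq_of_le hU]
  exact map_mono h1

theorem jHatOf_le_of {S C : Subgroup G}
    (h : ∀ U : Subgroup G, U ≤ S → IsEGroup ↥U → thompsonSubgroupOf 2 S ≤ U → U ≤ C) :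
    jHatOf S ≤ C :=
  map_le_iff_le_comap.2 (sSup_le fun U hU => map_le_iff_le_comap.1 (h (U.map S.subtype)
    (map_subtype_le U) (isEGroup_congr (U.equivMapOfInjective _ S.subtype_injective) hU.1)
    (map_mono hU.2)))

theorem thompson_le_jHatOf [Finite G] (S : Subgroup G) : thompsonSubgroupOf 2 S ≤ jHatOf S :=
  le_jHatOf (PLocal.thompsonSubgroupOf_le 2 S) (isEGroup_thompson S) le_rfl

theorem normalizer_le_normalizer_jHatOf [Finite G] (S : Subgroup G) :
    normalizer (S : Set G) ≤ normalizer (jHatOf S : Set G) := by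
  intro g hg
  have hS := mem_normalizer_iff_map_conj_eq.1 hg
  set f := (MulAut.conj g).toMonoidHom with hf
  have hf' : Function.Injective f := (MulAut.conj g).injective
  refine mem_normalizer_iff_map_conj_eq.2 (eq_of_le_of_card_ge ?_
    (Nat.card_congr ((jHatOf S).equivMapOfInjective f hf').toEquiv).le)
  rw [map_le_iff_le_comap]
  refine jHatOf_le_of fun U hU hE hJ => map_le_iff_le_comap.1 (le_jHatOf ?_
    (isEGroup_congr (U.equivMapOfInjective f hf') hE) ?_)
  · exact (map_mono hU).trans hS.le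
  · refine le_trans (le_of_eq ?_) (map_mono hJ)
    exact ((PLocal.map_thompsonSubgroupOf (p := 2) hf' S).trans (congrArg (thompsonSubgroupOf 2) hS)).symm

theorem normalizer_jHatOf_le [Finite G] (S : Subgroup G) :
    normalizer (jHatOf S : Set G) ≤ normalizer (thompsonSubgroupOf 2 S : Set G) := by
  have h := PLocal.normalizer_le_normalizer_thompsonSubgroupOf 2 (jHatOf S)
  rwa [PLocal.thompsonSubgroupOf_eq_of_le (jHatOf_le S) (thompson_le_jHatOf S)] at h

/-! ### The factorizations -/

/-- **`G = C(Z(S)) N(Ĵ(S))`.** -/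
theorem factor_jHat [Finite G] (hG : GoodX G) (hchar : centralizer (pCore 2 G : Set G) ≤ pCore 2 G)
    (S : Sylow 2 G) (g : G) :
    ∃ c ∈ centralizer (((S : Subgroup G) ⊓ centralizer ((S : Subgroup G) : Set G) : Subgroup G) : Set G),
      ∃ m ∈ normalizer (jHatOf (S : Subgroup G) : Set G), g = c * m := by
  classical
  have : Fact (Nat.Prime 2) := ⟨Nat.prime_two⟩
  set Z := (S : Subgroup G) ⊓ centralizer ((S : Subgroup G) : Set G) with hZ
  set Q := pCore 2 G with hQ
  have hQn : Q.Normal := inferInstance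
  have hQS : Q ≤ S := PLocal.pCore_le_sylow S
  set ZQ := Q ⊓ centralizer (Q : Set G) with hZQ
  have hZle : Z ≤ ZQ := fun z hz => by
    have h1 : z ∈ centralizer (Q : Set G) :=
      mem_centralizer_iff.2 fun q hq => mem_centralizer_iff.1 hz.2 q (hQS hq)
    exact mem_inf.2 ⟨hchar h1, h1⟩
  haveI : IsMulCommutative ZQ :=
    ⟨⟨fun a b => Subtype.ext (mem_centralizer_iff.1 b.2.2 a a.2.1)⟩⟩
  haveI : ZQ.Normal := by rw [hZQ]; infer_instance
  set V' := normalClosure (Z : Set G) with hV'
  have hV'le : V' ≤ ZQ := normalClosure_le_normal hZle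
  haveI hV'c : IsMulCommutative V' := PLocal.isMulCommutative_of_le ‹_› hV'le
  set V := omegaOne 2 V' with hV
  have hVV' : V ≤ V' := PLocal.omegaOne_le 2 V'
  have hVel : IsElementaryAbelian 2 V := PLocal.isElementaryAbelian_omegaOne hV'c
  haveI hVn : V.Normal := by
    refine normalizer_eq_top_iff.1 (eq_top_iff.2 fun y _ => ConjFunctor.mem_normalizer_of_cj_le ?_)
    rw [PLocal.map_omegaOne (f := (MulAut.conj y).toMonoidHom) (MulAut.conj y).injective]
    refine PLocal.omegaOne_mono ?_
    rintro _ ⟨a, ha, rfl⟩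
    exact (inferInstance : V'.Normal).conj_mem a ha y
  haveI : IsMulCommutative V := hVel.1
  have hV'S : V' ≤ S := hV'le.trans (inf_le_left.trans hQS)
  have hVS : V ≤ S := hVV'.trans hV'S
  set C' := centralizer (V' : Set G) with hC'
  have hred : ∀ K : Subgroup G, K.Normal → K ≤ C' ⊔ (S : Subgroup G) → K ≤ C' := by
    intro K hKn hKS
    have hKz : ∀ z ∈ Z, K ≤ centralizer ({z} : Set G) := fun z hz =>
      hKS.trans (sup_le
        (fun c hc' => mem_centralizer_singleton_iff.2
          (mem_centralizer_iff.1 hc' z (subset_normalClosure hz)).symm)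
        fun s hs => mem_centralizer_singleton_iff.2 (mem_centralizer_iff.1 hz.2 s hs))
    intro k hk
    rw [hC', mem_centralizer_iff]
    intro v hv
    suffices hle : V' ≤ centralizer ({k} : Set G) from mem_centralizer_singleton_iff.1 (hle hv)
    rw [hV', normalClosure, closure_le]
    intro y hy
    obtain ⟨z, hz, hconj⟩ := Group.mem_conjugatesOfSet_iff.1 hy
    obtain ⟨a, rfl⟩ := isConj_iff.1 hconj
    refine mem_centralizer_singleton_iff.2 ?_
    have h1 : a⁻¹ * k * a ∈ K := by simpa using hKn.conj_mem k hk a⁻¹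
    have h2 := mem_centralizer_singleton_iff.1 (hKz z hz h1)
    calc a * z * a⁻¹ * k = a * (z * (a⁻¹ * k * a)) * a⁻¹ := by group
      _ = a * ((a⁻¹ * k * a) * z) * a⁻¹ := by rw [h2]
      _ = k * (a * z * a⁻¹) := by group
  set C := centralizer (V : Set G) with hC
  have hodd : ∀ c ∈ C, Odd (orderOf c) → c ∈ C' := by
    intro c hc' hco
    suffices H : ∀ (k : ℕ), ∀ a ∈ V', a ^ 2 ^ k = 1 → c * a * c⁻¹ = a by
      refine mem_centralizer_iff.2 fun a ha => ?_
      obtain ⟨k, hk⟩ := (S.isPGroup'.to_le hV'S) ⟨a, ha⟩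
      exact (mul_inv_eq_iff_eq_mul.1 (H k a ha (congrArg Subtype.val hk :))).symm
    intro k
    induction k with
    | zero => intro a _ h; simp at h; subst h; simp
    | succ k ih =>
      intro a ha h
      have hcm : ∀ x ∈ V', ∀ y ∈ V', x * y = y * x := fun x hx y hy =>
        congrArg Subtype.val (mul_comm' (⟨x, hx⟩ : V') ⟨y, hy⟩)
      have h2 := ih (a ^ 2) (pow_mem ha 2) (by rw [← pow_mul, ← pow_succ']; exact h)
      set t := a⁻¹ * (c * a * c⁻¹) with ht
      have hca : c * a * c⁻¹ ∈ V' := (inferInstance : V'.Normal).conj_mem a ha c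
      have htV : t ∈ V := by
        refine PLocal.mem_omegaOne (mul_mem (inv_mem ha) hca) ?_
        rw [(show Commute a⁻¹ (c * a * c⁻¹) from hcm _ (inv_mem ha) _ hca).mul_pow, conj_pow, h2,
          inv_pow, inv_mul_cancel]
      have hct : c * t * c⁻¹ = t := by
        rw [← mem_centralizer_iff.1 hc' t htV, mul_inv_cancel_right]
      have hpow : ∀ j : ℕ, c ^ j * a * (c ^ j)⁻¹ = a * t ^ j := fun j => by
        induction j with
        | zero => simp
        | succ j ihj =>
          have hca' : c * a * c⁻¹ = a * t := by rw [ht, mul_inv_cancel_left]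
          calc c ^ (j + 1) * a * (c ^ (j + 1))⁻¹ = c * (c ^ j * a * (c ^ j)⁻¹) * c⁻¹ := by
                rw [pow_succ']; group
            _ = c * a * c⁻¹ * (c * t * c⁻¹) ^ j := by rw [ihj, conj_pow]; group
            _ = a * t ^ (j + 1) := by rw [hca', hct, pow_succ']; group
      have h3 := hpow (orderOf c)
      rw [pow_orderOf_eq_one, one_mul, inv_one, mul_one, eq_comm, mul_eq_left] at h3
      obtain ⟨r, hr⟩ := hco
      rw [hr, pow_succ, pow_mul, hVel.2 t htV, one_pow, one_mul] at h3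
      rw [ht, inv_mul_eq_one] at h3
      exact h3.symm
  have hCC' : C = C' := by
    refine le_antisymm (hred C inferInstance fun c hc' => ?_) (centralizer_le hVV')
    let π := QuotientGroup.mk' C'
    have hp2 : IsPGroup 2 (C.map π) := by
      rintro ⟨_, x, hx, rfl⟩
      obtain ⟨a, m, hm, he⟩ := Nat.exists_eq_pow_mul_and_not_dvd (orderOf_pos x).ne' 2 (by norm_num)
      refine ⟨a, Subtype.ext ?_⟩
      rw [SubgroupClass.coe_pow, OneMemClass.coe_one]
      show π x ^ 2 ^ a = 1
      rw [← map_pow]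
      refine (QuotientGroup.eq_one_iff _).2 (hodd _ (pow_mem hx _) ?_)
      rw [orderOf_pow, he, Nat.gcd_mul_right_left,
        Nat.mul_div_cancel_left _ (pow_pos (by norm_num) a)]
      exact Nat.odd_iff.2 (Nat.two_dvd_ne_zero.1 hm)
    have h1 : C.map π ≤ (S : Subgroup G).map π :=
      haveI : (C.map π).Normal := (inferInstance : C.Normal).map π (QuotientGroup.mk'_surjective C')
      (PLocal.le_pCore hp2).trans
        (PLocal.pCore_le_sylow (S.mapSurjective (QuotientGroup.mk'_surjective C')))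
    have h2 : C ≤ ((S : Subgroup G).map π).comap π := map_le_iff_le_comap.1 h1
    rw [comap_map_eq, QuotientGroup.ker_mk', sup_comm] at h2
    exact h2 hc'
  set f := toAut V with hf
  have hfs : Function.Surjective f := (conjAdd V).toHomUnits.rangeRestrict_surjective
  have hker : f.ker = C := ker_autGrp V
  have hO : pCore 2 (autGrp V) = ⊥ := by
    set K := (pCore 2 (autGrp V)).comap f with hK
    have hKS : K ≤ C ⊔ (S : Subgroup G) := by
      have h1 : pCore 2 (autGrp V) ≤ (S : Subgroup G).map f :=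
        PLocal.pCore_le_sylow (S.mapSurjective hfs)
      rw [hK, ← hker, sup_comm, ← comap_map_eq]
      exact comap_mono h1
    have hKC : K ≤ C := hCC' ▸ hred K inferInstance (hCC' ▸ hKS)
    rw [eq_bot_iff]
    intro x hx
    obtain ⟨k, rfl⟩ := hfs x
    exact (MonoidHom.mem_ker (f := f)).1 (hker.symm ▸ hKC hx)
  have hGA : GoodX (autGrp V) := hG.of_surjective f hfs
  have hbound : ∀ R : Subgroup G, (∀ r ∈ R, r ^ 2 ∈ C) →
      Nat.card (R.map f) ^ 2 * Nat.card ↥(V ⊓ centralizer (R : Set G)) ≤ Nat.card V ∧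
        Nat.card (R.map f) ^ 2 ≤ Nat.card ↥⁅V, R⁆ := by
    intro R hsq
    have hAe : IsElementaryAbelian 2 (R.map f) := by
      refine ⟨⟨⟨?_⟩⟩, ?_⟩
      · rintro ⟨_, a, ha, rfl⟩ ⟨_, b, hb, rfl⟩
        refine Subtype.ext ?_
        show f a * f b = f b * f a
        rw [← commutatorElement_eq_one_iff_mul_comm, ← map_commutatorElement, ← MonoidHom.mem_ker, hker]
        exact commutator_le_centralizer_of_sq hsq (commutator_mem_commutator ha hb)
      · rintro _ ⟨a, ha, rfl⟩
        rw [← map_pow, ← MonoidHom.mem_ker, hker]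
        exact hsq a ha
    refine ⟨?_, ?_⟩
    · have h := card_sq_mul_card_fix_le (additive_add_self hVel) hGA hO (R.map f) hAe
      have e : Nat.card (fixV (R.map f) : AddSubgroup (Additive V)) =
          Nat.card ↥(V ⊓ centralizer (R : Set G)) := by
        rw [← card_subD_inf_fixV le_rfl (N := V), subD_self, top_inf_eq]
      rw [e] at h
      exact h
    · refine (card_sq_le_card_commutator (V := Additive V) (additive_add_self hVel) hGA hO _ hAe).trans ?_
      have key : ∀ z ∈ AddSubgroup.closure {z : Additive V | ∃ a ∈ R.map f,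
          ∃ v : Additive V, a • v - v = z}, ((z.toMul : V) : G) ∈ ⁅V, R⁆ := by
        intro z hz
        induction hz using AddSubgroup.closure_induction with
        | mem z hz =>
          obtain ⟨_, ⟨a, ha, rfl⟩, v, rfl⟩ := hz
          rw [toMul_sub, Subgroup.coe_div, toAut_smul, div_eq_mul_inv,
            show a * ((v.toMul : V) : G) * a⁻¹ * ((v.toMul : V) : G)⁻¹ =
              ⁅((v.toMul : V) : G), a⁆⁻¹ by rw [commutatorElement_def]; group]
          exact inv_mem (commutator_mem_commutator (v.toMul : V).2 ha)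
        | zero => exact one_mem _
        | add x y _ _ hx hy => exact mul_mem hx hy
        | neg x _ hx => exact inv_mem hx
      exact Nat.card_le_card_of_injective (fun z => (⟨_, key _ z.2⟩ : ↥⁅V, R⁆))
        fun z w e => Subtype.ext (Additive.toMul.injective (Subtype.ext
          (congrArg (fun t : ↥⁅V, R⁆ => (t : G)) e :)))
  have hmap2 : ∀ R : Subgroup G, ¬ R ≤ C → 2 ≤ Nat.card (R.map f) := fun R hR =>
    (Subgroup.one_lt_card_iff_ne_bot _).2 fun e => hR fun r hr => hker ▸ mem_bot.1 (e ▸ ⟨r, hr, rfl⟩)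
  -- the Thompson subgroup
  have hE : ∀ E ∈ PLocal.maxEAIn 2 (S : Subgroup G), E ≤ C := by
    intro E hE
    by_contra hEC
    obtain ⟨h1, -⟩ := hbound E fun e he => by rw [hE.2.1.2 e he]; exact one_mem _
    have h2 := card_maxEA_offender hE hVel hVS
    rw [← card_map_toAut_mul (N := V) E, mul_right_comm] at h2
    have h3 := Nat.le_of_mul_le_mul_right h2 Nat.card_pos
    have h4 := hmap2 E hEC
    have h5 : Nat.card (E.map f) * (Nat.card (E.map f) * Nat.card ↥(V ⊓ centralizer (E : Set G))) ≤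
        1 * (Nat.card (E.map f) * Nat.card ↥(V ⊓ centralizer (E : Set G))) := by
      rw [one_mul, ← mul_assoc, ← pow_two]
      exact h1.trans h3
    exact absurd (h4.trans (Nat.le_of_mul_le_mul_right h5 (Nat.mul_pos Nat.card_pos Nat.card_pos)))
      (by norm_num)
  have hVJ : V ≤ thompsonSubgroupOf 2 (S : Subgroup G) := by
    obtain ⟨E, hEm⟩ := PLocal.maxEAIn_nonempty 2 (S : Subgroup G)
    have hsup : IsElementaryAbelian 2 (E ⊔ V) := PLocal.isElementaryAbelian_sup hEm.2.1 hVel (hE E hEm)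
    have h1 := eq_of_le_of_card_ge (le_sup_left : E ≤ E ⊔ V)
      (hEm.2.2 _ (sup_le hEm.1 hVS) hsup)
    exact (le_sup_right.trans h1.ge).trans (PLocal.le_thompsonSubgroupOf hEm)
  have hU : ∀ U : Subgroup G, U ≤ S → IsEGroup ↥U → thompsonSubgroupOf 2 (S : Subgroup G) ≤ U →
      U ≤ C := by
    intro U _ hUE hJU
    refine le_centralizer_of_isEGroup hUE (hVJ.trans hJU) le_normalizer_of_normal hVel
      fun R _ hsq hnc => ?_
    obtain ⟨h1, h2⟩ := hbound R hsq
    have h3 := hmap2 R hnc
    have h4 := card_map_toAut_mul (N := V) R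
    have hlt : ∀ i : ℕ, Nat.card (R.map f) ^ i < Nat.card (R.map f) ^ (i + 1) := fun i =>
      Nat.pow_lt_pow_right h3 (Nat.lt_succ_self i)
    rw [← h4]
    refine ⟨?_, Nat.mul_lt_mul_of_pos_right ?_ Nat.card_pos⟩
    · rw [mul_pow, mul_right_comm]
      refine Nat.mul_lt_mul_of_pos_right ?_ (pow_pos Nat.card_pos 3)
      calc Nat.card (R.map f) ^ 3 * Nat.card ↥(V ⊓ centralizer (R : Set G)) ^ 2
          < Nat.card (R.map f) ^ 4 * Nat.card ↥(V ⊓ centralizer (R : Set G)) ^ 2 :=
            Nat.mul_lt_mul_of_pos_right (hlt 3) (pow_pos Nat.card_pos 2)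
        _ = (Nat.card (R.map f) ^ 2 * Nat.card ↥(V ⊓ centralizer (R : Set G))) ^ 2 := by ring
        _ ≤ _ := Nat.pow_le_pow_left h1 2
    · exact lt_of_lt_of_le (by simpa using hlt 1) h2
  -- the Frattini argument
  set P := (S : Subgroup G) ⊓ C with hP
  have hJC : thompsonSubgroupOf 2 (S : Subgroup G) ≤ P :=
    le_inf (PLocal.thompsonSubgroupOf_le 2 _) (by rw [PLocal.thompsonSubgroupOf_eq]; exact sSup_le hE)
  have hJP : thompsonSubgroupOf 2 P = thompsonSubgroupOf 2 (S : Subgroup G) :=
    PLocal.thompsonSubgroupOf_eq_of_le inf_le_left hJC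
  have hhat : jHatOf P = jHatOf (S : Subgroup G) := by
    refine le_antisymm (jHatOf_le_of fun U hUP hUE hJU => le_jHatOf (hUP.trans inf_le_left) hUE
      (hJP ▸ hJU)) (jHatOf_le_of fun U hUS hUE hJU => le_jHatOf (le_inf hUS (hU U hUS hUE hJU)) hUE
      (hJP.symm ▸ hJU))
  have htop : normalizer (P : Set G) ⊔ C = ⊤ := by
    have hS : ConjFunctor.IsSylowIn 2 P C :=
      (ConjFunctor.isSylowIn_top S).inf_of_normal le_top (by rw [normalizer_eq_top (H := C)])
    let T : Sylow 2 C := (hS.2.1.comap_subtype (K := C)).toSylow hS.2.2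
    have hfr := Sylow.normalizer_sup_eq_top T
    rwa [show ((T : Subgroup C).map C.subtype) = P from map_subgroupOf_eq_of_le inf_le_right] at hfr
  have hg : g ∈ normalizer (P : Set G) ⊔ C := htop ▸ mem_top g
  rw [sup_comm] at hg
  obtain ⟨c, hcC, m, hm, rfl⟩ := mem_sup_of_normal_left.1 hg
  exact ⟨c, centralizer_le (subset_normalClosure : (Z : Set G) ⊆ V') (show c ∈ C' from hCC' ▸ hcC), m,
    hhat ▸ normalizer_le_normalizer_jHatOf P hm, rfl⟩

/-- **`G = C(Ω₁(Z(Ĵ(S)))) N(J_e(S))`.** -/
theorem factor_omega_jHat [Finite G] (hG : GoodX G)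
    (hchar : centralizer (pCore 2 G : Set G) ≤ pCore 2 G) (S : Sylow 2 G) (g : G) :
    ∃ c ∈ centralizer (omegaOne 2 (jHatOf (S : Subgroup G) ⊓
        centralizer (jHatOf (S : Subgroup G) : Set G)) : Set G),
      ∃ m ∈ normalizer (thompsonSubgroupOf 2 (S : Subgroup G) : Set G), g = c * m := by
  classical
  have : Fact (Nat.Prime 2) := ⟨Nat.prime_two⟩
  set J := thompsonSubgroupOf 2 (S : Subgroup G) with hJ
  set M := normalClosure (J : Set G) with hM
  set T := (S : Subgroup G) ⊓ M with hT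
  have hJT : J ≤ T := le_inf (PLocal.thompsonSubgroupOf_le 2 _) fun x hx => subset_normalClosure hx
  have hJT' : thompsonSubgroupOf 2 T = J := PLocal.thompsonSubgroupOf_eq_of_le inf_le_left hJT
  have hTp : IsPGroup 2 T := S.isPGroup'.to_le inf_le_left
  set T0 := T.subgroupOf M with hT0
  have hT0p : IsPGroup 2 T0 := hTp.comap_of_injective _ M.subtype_injective
  have hT0o : Odd T0.index := by
    show Odd (T.relIndex M)
    rw [hT, inf_relIndex_right]
    exact odd_relIndex_of_normal (Nat.odd_iff.2 (Nat.two_dvd_ne_zero.1 S.not_dvd_index)) M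
  have hchar' := constrained_of_normal hchar M
  have hJ0 : (thompsonSubgroupOf 2 T0).map M.subtype = J := by
    rw [PLocal.map_thompsonSubgroupOf M.subtype_injective, map_subgroupOf_eq_of_le inf_le_right,
      hJT']
  have hfr : M ⊔ normalizer (T : Set G) = ⊤ := by
    have h1 := Sylow.normalizer_sup_eq_top (hT0p.toSylow (p := 2)
      fun h => Nat.not_even_iff_odd.2 hT0o (even_iff_two_dvd.2 h))
    rw [sup_comm, show ((hT0p.toSylow (p := 2)
      fun h => Nat.not_even_iff_odd.2 hT0o (even_iff_two_dvd.2 h) : Sylow 2 M) : Subgroup M).map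
        M.subtype = T from map_subgroupOf_eq_of_le inf_le_right] at h1
    exact h1
  have hNJ : normalizer (T : Set G) ≤ normalizer (J : Set G) := by
    rw [← hJT']; exact PLocal.normalizer_le_normalizer_thompsonSubgroupOf 2 T
  have hmain : ∀ V : Subgroup G, V ≤ T → IsElementaryAbelian 2 V → T ≤ normalizer (V : Set G) →
      (∀ R : Subgroup G, R ≤ T → (∀ r ∈ R, r ^ 2 ∈ centralizer (V : Set G)) →
        ¬ R ≤ centralizer (V : Set G) →
        Nat.card R ^ 3 * Nat.card ↥(V ⊓ centralizer (R : Set G)) ^ 2 <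
          Nat.card V ^ 2 * Nat.card ↥(R ⊓ centralizer (V : Set G)) ^ 3) →
      M ≤ centralizer (V : Set G) := by
    intro V hVT hVe hTV hc
    have hVM : V ≤ M := hVT.trans inf_le_right
    set V0 := V.subgroupOf M with hV0
    have h1 := thompson_le_centralizer_closure (hG.subgroup M) hchar' (V := V0) (T := T0)
      ((PLocal.isElementaryAbelian_map_iff M.subtype_injective).1 (by
        rwa [map_subgroupOf_eq_of_le hVM])) (comap_mono hVT) hT0p hT0o
      (fun t ht => le_normalizer_of_conj_mem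
        (fun a (ha : a ∈ T0) b (hb : b ∈ V0) =>
          (conj_mem_of_le_normalizer hTV ha hb : (a : G) * b * (a : G)⁻¹ ∈ V)) ht)
      (fun R hR hsq hnc => by
        have h2 := hc (R.map M.subtype) ((map_mono hR).trans_eq
            (map_subgroupOf_eq_of_le inf_le_right)) (by
            rintro _ ⟨r, hr, rfl⟩
            rw [← map_pow]
            exact (mem_centralizer_subgroupOf hVM).1 (hsq r hr))
          fun hle => hnc fun r hr => (mem_centralizer_subgroupOf hVM).2 (hle ⟨r, hr, rfl⟩)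
        rw [← map_subgroupOf_eq_of_le hVM, card_map_inf_centralizer M.subtype_injective,
          card_map_inf_centralizer M.subtype_injective,
          ← Nat.card_congr (R.equivMapOfInjective _ M.subtype_injective).toEquiv,
          ← Nat.card_congr (V0.equivMapOfInjective _ M.subtype_injective).toEquiv] at h2
        exact h2)
    set CY := centralizer (normalClosure (V0 : Set ↥M) : Set ↥M) with hCY
    have hCYV : CY.map M.subtype ≤ centralizer (V : Set G) := by
      rintro _ ⟨c, hc', rfl⟩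
      exact (mem_centralizer_subgroupOf hVM).1
        (centralizer_le (subset_normalClosure : (V0 : Set ↥M) ⊆ _) hc')
    refine le_trans ?_ hCYV
    conv_lhs => rw [hM, normalClosure]
    rw [closure_le]
    intro y hy
    obtain ⟨j, hj, hyj⟩ := Group.mem_conjugatesOfSet_iff.1 hy
    obtain ⟨x, rfl⟩ := isConj_iff.1 hyj
    obtain ⟨m, hm, n, hn, rfl⟩ := mem_sup_of_normal_left.1 (hfr ▸ mem_top x : x ∈ M ⊔ _)
    have hj' : n * j * n⁻¹ ∈ J := conj_mem_of_le_normalizer hNJ hn hj
    obtain ⟨j', hj'', e⟩ := hJ0.ge hj'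
    refine ⟨⟨m, hm⟩ * j' * ⟨m, hm⟩⁻¹, (inferInstance : CY.Normal).conj_mem j' (h1 hj'') _, ?_⟩
    show m * (j' : G) * m⁻¹ = _
    rw [show (j' : G) = n * j * n⁻¹ from e]
    group
  have hTE : IsEGroup ↥T := isEGroup_of T fun V hVT hn hV hc =>
    inf_le_right.trans (hmain V hVT hV hn hc)
  have hThat : T ≤ jHatOf (S : Subgroup G) := le_jHatOf inf_le_left hTE hJT
  set H := jHatOf (S : Subgroup G) with hH
  set W := omegaOne 2 (H ⊓ centralizer (H : Set G)) with hW
  have hHc : IsMulCommutative ↥(H ⊓ centralizer (H : Set G)) :=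
    ⟨⟨fun a b => Subtype.ext (mem_centralizer_iff.1 b.2.2 a a.2.1)⟩⟩
  have hWe : IsElementaryAbelian 2 W := PLocal.isElementaryAbelian_omegaOne hHc
  have hWH : W ≤ H ⊓ centralizer (H : Set G) := PLocal.omegaOne_le 2 _
  have hTW : T ≤ centralizer (W : Set G) := fun t ht => mem_centralizer_iff.2 fun w hw =>
    (mem_centralizer_iff.1 (hWH hw).2 t (hThat ht)).symm
  have hWT : W ≤ T := by
    obtain ⟨E, hE⟩ := PLocal.maxEAIn_nonempty 2 (S : Subgroup G)
    have hEJ := PLocal.le_thompsonSubgroupOf hE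
    have hsup : IsElementaryAbelian 2 (E ⊔ W) :=
      PLocal.isElementaryAbelian_sup hE.2.1 hWe ((hEJ.trans hJT).trans hTW)
    have h1 := eq_of_le_of_card_ge (le_sup_left : E ≤ E ⊔ W)
      (hE.2.2 _ (sup_le hE.1 ((hWH.trans inf_le_left).trans (jHatOf_le _))) hsup)
    exact (le_sup_right.trans h1.ge).trans (hEJ.trans hJT)
  have hMW := hmain W hWT hWe (hTW.trans (centralizer_le_normalizer _))
    fun R hR _ hnc => absurd (hR.trans hTW) hnc
  obtain ⟨m, hm, n, hn, rfl⟩ := mem_sup_of_normal_left.1 (hfr ▸ mem_top g : g ∈ M ⊔ _)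
  exact ⟨m, hMW hm, n, hNJ hn, rfl⟩

end CfsgLib.LocalEven.OffenderBound
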