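import Cfsg.Agent.SuzukiLocal.Basic
import Cfsg.Agent.Suzuki.Simple

/-!
Two two-subgroups of a Suzuki group in different Sylow subgroups have no common normalised
two-subgroup meeting one of them.
-/

set_option autoImplicit false

namespace CfsgLib.LocalEven.OffenderBound

open Cfsg Subgroup
open CfsgLib.Suzuki CfsgLib.SuzukiLocal

variable {F : Type} [Field F] [Fintype F] {m : ℕ}

/-- Sylow `2`-subgroups of a Suzuki group are trivial intersection sets. -/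
theorem sz_sylow_eq_of_common (hS : SzField F m) {P1 P2 : Sylow 2 ↥(Cfsg.Sz F m)}
    {z : ↥(Cfsg.Sz F m)} (hz : z ≠ 1) (h1 : z ∈ (P1 : Subgroup _)) (h2 : z ∈ (P2 : Subgroup _)) :
    P1 = P2 := by
  obtain ⟨k1, hk1⟩ := exists_conj_sylow hS P1
  obtain ⟨k2, hk2⟩ := exists_conj_sylow hS P2
  rw [hk1] at h1
  rw [hk2] at h2
  obtain ⟨z1, hz1, e1⟩ := h1
  obtain ⟨z2, hz2, e2⟩ := h2
  simp only [MulEquiv.coe_toMonoidHom, MulAut.conj_apply] at e1 e2
  obtain ⟨a, b, rfl⟩ := hz2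
  set k := k1⁻¹ * k2 with hk
  have hne : uniEl hS a b ≠ 1 := fun e => hz (by rw [← e2, e, mul_one, mul_inv_cancel])
  have hmem : k * uniEl hS a b * k⁻¹ ∈ uniSub hS := by
    have : k * uniEl hS a b * k⁻¹ = z1 := by
      rw [hk, show k1⁻¹ * k2 * uniEl hS a b * (k1⁻¹ * k2)⁻¹ =
        k1⁻¹ * (k2 * uniEl hS a b * k2⁻¹) * k1 by group, e2, ← e1]
      group
    rw [this]; exact hz1
  have heq := map_conj_uniSub hS (fix_infinity_of_conj_mem hS hne hmem)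
  apply Sylow.ext
  rw [hk1, hk2]
  conv_lhs => rw [← heq, map_map]
  congr 1
  ext x
  simp [hk, mul_assoc]

/-- If a two-group `N` is normalised by a subgroup of another Sylow subgroup, it misses the first. -/
theorem sz_inf_eq_bot (hS : SzField F m) {P1 P2 : Sylow 2 ↥(Cfsg.Sz F m)} (hne : P1 ≠ P2)
    {A1 A2 N : Subgroup ↥(Cfsg.Sz F m)} (h1 : A1 ≤ P1) (h2 : A2 ≤ P2) (hA2 : A2 ≠ ⊥)
    (hN : IsPGroup 2 N) (hn : A2 ≤ normalizer (N : Set ↥(Cfsg.Sz F m))) : A1 ⊓ N = ⊥ := by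
  have : Fact (Nat.Prime 2) := ⟨Nat.prime_two⟩
  rw [eq_bot_iff]
  intro z hz
  rw [mem_bot]
  by_contra hz1
  obtain ⟨P3, hP3⟩ := hN.exists_le_sylow
  obtain rfl : P1 = P3 := sz_sylow_eq_of_common hS hz1 (h1 hz.1) (hP3 hz.2)
  obtain ⟨b, hb, hb1⟩ := A2.bot_or_exists_ne_one.resolve_left hA2
  have hbP : b • P1 = P1 := by
    refine sz_sylow_eq_of_common hS (z := b * z * b⁻¹) (fun e => hz1 ?_) ⟨z, h1 hz.1, rfl⟩
      (hP3 ((mem_normalizer_iff.1 (hn hb) z).1 hz.2))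
    simpa using e
  have hbN : b ∈ normalizer (((P1 : Sylow 2 _) : Subgroup ↥(Cfsg.Sz F m)) : Set ↥(Cfsg.Sz F m)) :=
    (Sylow.smul_eq_iff_mem_normalizer (g := b) (P := P1)).1 hbP
  have hp : IsPGroup 2 ↥((P1 : Subgroup _) ⊔ zpowers b) :=
    IsPGroup.to_sup_of_normal_left' P1.2 (P2.2.to_le (zpowers_le.2 (h2 hb))) (zpowers_le.2 hbN)
  have hb3 : b ∈ (P1 : Subgroup _) := P1.3 hp le_sup_left ▸ mem_sup_right (mem_zpowers b)
  exact hne (sz_sylow_eq_of_common hS hb1 hb3 (h2 hb))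

/-- A nontrivial two-subgroup has a conjugate with which it has no common normalised two-subgroup. -/
theorem sz_exists_separate (hS : SzField F m) {A : Subgroup ↥(Cfsg.Sz F m)} (hA : IsPGroup 2 A)
    (hne : A ≠ ⊥) : ∃ h : ↥(Cfsg.Sz F m), ∀ N : Subgroup ↥(Cfsg.Sz F m), IsPGroup 2 N →
      A ≤ normalizer (N : Set _) → A.map (MulAut.conj h).toMonoidHom ≤ normalizer (N : Set _) →
      A ⊓ N = ⊥ ∧ A.map (MulAut.conj h).toMonoidHom ⊓ N = ⊥ := by
  have : Fact (Nat.Prime 2) := ⟨Nat.prime_two⟩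
  have := Suzuki.isSimpleGroup_sz hS
  obtain ⟨P, hP⟩ := hA.exists_le_sylow
  obtain ⟨h, hh⟩ : ∃ h : ↥(Cfsg.Sz F m), h • P ≠ P := by
    by_contra hall
    push Not at hall
    have hn : (P : Subgroup ↥(Cfsg.Sz F m)).Normal := normalizer_eq_top_iff.1
      (eq_top_iff.2 fun g _ => Sylow.smul_eq_iff_mem_normalizer.1 (hall g))
    rcases IsSimpleGroup.eq_bot_or_eq_top_of_normal _ hn with e | e
    · exact hne (le_bot_iff.1 (e ▸ hP))
    · have hp : IsPGroup 2 ↥(Cfsg.Sz F m) :=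
        ((e ▸ P.2 : IsPGroup 2 ↥(⊤ : Subgroup ↥(Cfsg.Sz F m)))).of_equiv topEquiv
      have := hp.isNilpotent
      have := Suzuki.sz_nontrivial hS
      exact (Group.IsSolvable.commutator_lt_top_of_nontrivial ↥(Cfsg.Sz F m)).ne
        (Suzuki.commutator_sz_eq_top hS)
  have hB : A.map (MulAut.conj h).toMonoidHom ≤ (h • P : Sylow 2 ↥(Cfsg.Sz F m)) := by
    rintro _ ⟨a, ha, rfl⟩
    exact ⟨a, hP ha, rfl⟩
  have hBne : A.map (MulAut.conj h).toMonoidHom ≠ ⊥ := by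
    rwa [ne_eq, map_eq_bot_iff_of_injective _ (MulAut.conj h).injective]
  exact ⟨h, fun N hN h1 h2 => ⟨sz_inf_eq_bot hS hh.symm hP hB hBne hN h2,
    sz_inf_eq_bot hS hh hB hP hne hN h1⟩⟩

end CfsgLib.LocalEven.OffenderBound
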