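import Cfsg.Agent.LocalEven.OffenderBound.SeriesComm
import Cfsg.Agent.LocalEven.OffenderBound.SzSeparate

/-!
In a constrained group an elementary abelian normal subgroup of a Sylow two-subgroup on which
two-groups move more than their order to the `3/2` lies in `O₂`.
-/

set_option autoImplicit false

universe u

namespace CfsgLib.LocalEven.OffenderBound

open Cfsg Subgroup
open CfsgLib.MinNormal (conj_mem_of_le_normalizer le_normalizer_of_conj_mem)

variable {G : Type u} [Group G]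

/-- Two-groups normalising `V` move more than their order to the `3/2`. -/
def CondGrp (V : Subgroup G) : Prop :=
  ∀ R : Subgroup G, IsPGroup 2 R → R ≤ normalizer (V : Set G) →
    (∀ r ∈ R, r ^ 2 ∈ centralizer (V : Set G)) → ¬ R ≤ centralizer (V : Set G) →
    Nat.card R ^ 3 * Nat.card ↥(V ⊓ centralizer (R : Set G)) ^ 2 <
      Nat.card V ^ 2 * Nat.card ↥(R ⊓ centralizer (V : Set G)) ^ 3

theorem card_map_inf_centralizer {H : Type*} [Group H] {f : G →* H} (hf : Function.Injective f)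
    (A B : Subgroup G) :
    Nat.card ↥(A.map f ⊓ centralizer ((B.map f : Subgroup H) : Set H)) =
      Nat.card ↥(A ⊓ centralizer (B : Set G)) := by
  have h : (A ⊓ centralizer (B : Set G)).map f =
      A.map f ⊓ centralizer ((B.map f : Subgroup H) : Set H) := by
    ext z
    constructor
    · rintro ⟨a, ha, rfl⟩
      refine ⟨⟨a, ha.1, rfl⟩, mem_centralizer_iff.2 ?_⟩
      rintro _ ⟨b, hb, rfl⟩
      rw [← map_mul, ← map_mul, mem_centralizer_iff.1 ha.2 b hb]
    · rintro ⟨⟨a, ha, rfl⟩, hc⟩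
      refine ⟨a, ⟨ha, mem_centralizer_iff.2 fun b hb => hf ?_⟩, rfl⟩
      rw [map_mul, map_mul]
      exact mem_centralizer_iff.1 hc (f b) ⟨b, hb, rfl⟩
  rw [← h]
  exact (Nat.card_congr ((A ⊓ centralizer (B : Set G)).equivMapOfInjective f hf).toEquiv).symm

theorem CondGrp.of_map {H : Type u} [Group H] {f : G →* H} (hf : Function.Injective f)
    {V : Subgroup G} (h : CondGrp (V.map f)) : CondGrp V := by
  intro R hR hn hsq hnc
  have h1 := h (R.map f) (hR.map f) (le_normalizer_of_conj_mem (by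
    rintro _ ⟨r, hr, rfl⟩ _ ⟨v, hv, rfl⟩
    exact ⟨r * v * r⁻¹, conj_mem_of_le_normalizer hn hr hv, by simp⟩)) (by
    rintro _ ⟨r, hr, rfl⟩
    refine mem_centralizer_iff.2 ?_
    rintro _ ⟨v, hv, rfl⟩
    rw [← map_pow, ← map_mul, ← map_mul, mem_centralizer_iff.1 (hsq r hr) v hv]) (fun hle =>
    hnc fun r hr => mem_centralizer_iff.2 fun v hv => hf (by
      rw [map_mul, map_mul]
      exact mem_centralizer_iff.1 (hle ⟨r, hr, rfl⟩) (f v) ⟨v, hv, rfl⟩))
  rw [card_map_inf_centralizer hf, card_map_inf_centralizer hf,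
    ← Nat.card_congr (R.equivMapOfInjective f hf).toEquiv,
    ← Nat.card_congr (V.equivMapOfInjective f hf).toEquiv] at h1
  exact h1

theorem CondGrp.conj {V : Subgroup G} (h : CondGrp V) (g : G) :
    CondGrp (V.map (MulAut.conj g).toMonoidHom) := by
  refine CondGrp.of_map (MulAut.conj g⁻¹).injective (f := (MulAut.conj g⁻¹).toMonoidHom) ?_
  rwa [map_map, show (MulAut.conj g⁻¹).toMonoidHom.comp (MulAut.conj g).toMonoidHom =
    MonoidHom.id G from MonoidHom.ext fun x => by simp [mul_assoc], map_id]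

theorem CondGrp.subgroupOf {V H : Subgroup G} (h : CondGrp V) (hVH : V ≤ H) :
    CondGrp (V.subgroupOf H) := by
  refine CondGrp.of_map H.subtype_injective ?_
  rwa [map_subgroupOf_eq_of_le hVH]

/-- The series bound inside `P ⊔ W₁ ⊔ W₂`. -/
theorem series_bound [Finite G] (hG : GoodX G) {P W1 W2 : Subgroup G} [P.Normal] (hP : IsPGroup 2 P)
    (hcP : centralizer (P : Set G) ≤ P) (hW2 : IsElementaryAbelian 2 W2)
    (hn : P ≤ normalizer (W2 : Set G))
    (hsep : ∀ N : Subgroup G, IsPGroup 2 N → N ≤ P ⊔ W1 ⊔ W2 →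
      P ⊔ W1 ⊔ W2 ≤ normalizer (N : Set G) → W2 ⊓ N ≤ P) :
    Nat.card W2 ^ 2 * Nat.card ↥(P ⊓ W2 ⊓ centralizer (W1 : Set G)) ≤
      Nat.card ↥(P ⊓ W2) ^ 3 := by
  classical
  have : Fact (Nat.Prime 2) := ⟨Nat.prime_two⟩
  set L := P ⊔ W1 ⊔ W2 with hL
  have hPL : P ≤ L := le_sup_left.trans le_sup_left
  have h1L : W1 ≤ L := le_sup_right.trans le_sup_left
  have h2L : W2 ≤ L := le_sup_right
  have hgen : P.subgroupOf L ⊔ W1.subgroupOf L ⊔ W2.subgroupOf L = ⊤ := by
    refine map_injective L.subtype_injective ?_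
    rw [Subgroup.map_sup, Subgroup.map_sup, map_subgroupOf_eq_of_le hPL, map_subgroupOf_eq_of_le h1L,
      map_subgroupOf_eq_of_le h2L, ← MonoidHom.range_eq_map, range_subtype, hL]
  have hW2e : IsElementaryAbelian 2 (W2.subgroupOf L) :=
    (PLocal.isElementaryAbelian_map_iff L.subtype_injective).1 (by
      rwa [map_subgroupOf_eq_of_le h2L])
  obtain ⟨C, hCn, hC, hb⟩ := exists_series_commutator (hG.subgroup L) (P := P.subgroupOf L)
    (W1 := W1.subgroupOf L) (W2 := W2.subgroupOf L) (hP.comap_of_injective _ L.subtype_injective)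
    hW2e hgen (fun x hx => le_normalizer_of_conj_mem
      (fun a (ha : a ∈ P.subgroupOf L) b (hb : b ∈ W2.subgroupOf L) =>
        (conj_mem_of_le_normalizer hn ha hb : (a : G) * b * (a : G)⁻¹ ∈ W2)) hx)
    (P.subgroupOf L) inferInstance le_rfl
  have hCp : IsPGroup 2 C := by
    intro c
    obtain ⟨k, l, hl, hkl⟩ := Nat.exists_eq_two_pow_mul_odd (orderOf_pos (c : ↥L)).ne'
    refine ⟨k, Subtype.ext ?_⟩
    set y : ↥L := (c : ↥L) ^ 2 ^ k with hy
    show y = 1
    have hyl : Odd (orderOf y) := hl.of_dvd_nat (orderOf_dvd_of_pow_eq_one (by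
      rw [hy, ← pow_mul, ← hkl, pow_orderOf_eq_one]))
    have hyP : (y : G) ∈ P := hcP (mem_centralizer_iff.2 fun p hp => by
      have h1 := congrArg Subtype.val (hC y (pow_mem c.2 _) hyl ⟨p, hPL hp⟩ hp)
      exact (mul_inv_eq_iff_eq_mul.1 h1).symm)
    obtain ⟨j, hj⟩ := hP ⟨(y : G), hyP⟩
    exact orderOf_eq_one_iff.1 (Nat.eq_one_of_dvd_coprimes
      (Nat.Coprime.pow_left j (Nat.coprime_two_left.2 hyl))
      (orderOf_dvd_of_pow_eq_one (Subtype.ext (congrArg Subtype.val hj :))) dvd_rfl)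
  have hle : W2 ⊓ C.map L.subtype ≤ P ⊓ W2 := le_inf
    (hsep _ (hCp.map _) (map_subtype_le C) (le_normalizer_of_conj_mem (by
      rintro l hl _ ⟨c, hc, rfl⟩
      exact ⟨⟨l, hl⟩ * c * ⟨l, hl⟩⁻¹, hCn.conj_mem c hc _, rfl⟩))) inf_le_left
  have e1 : Nat.card ↥(W2.subgroupOf L ⊓ C) ≤ Nat.card ↥(P ⊓ W2) :=
    Nat.card_le_card_of_injective (fun x => (⟨((x : ↥L) : G), hle ⟨x.2.1, _, x.2.2, rfl⟩⟩ : ↥(P ⊓ W2)))
      fun x y e => Subtype.ext (Subtype.ext (congrArg (fun z : ↥(P ⊓ W2) => (z : G)) e :))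
  have e2 : Nat.card ↥(P.subgroupOf L ⊓ W2.subgroupOf L) ≤ Nat.card ↥(P ⊓ W2) :=
    Nat.card_le_card_of_injective (fun x => (⟨((x : ↥L) : G), x.2⟩ : ↥(P ⊓ W2)))
      fun x y e => Subtype.ext (Subtype.ext (congrArg (fun z : ↥(P ⊓ W2) => (z : G)) e :))
  have e3 : Nat.card ↥(P ⊓ W2 ⊓ centralizer (W1 : Set G)) ≤
      Nat.card ↥(P.subgroupOf L ⊓ W2.subgroupOf L ⊓ centralizer (W1.subgroupOf L : Set ↥L)) :=
    Nat.card_le_card_of_injective
      (fun x => (⟨⟨x, hPL x.2.1.1⟩, x.2.1, mem_centralizer_iff.2 fun w hw =>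
        Subtype.ext (mem_centralizer_iff.1 x.2.2 (w : G) hw)⟩ :
        ↥(P.subgroupOf L ⊓ W2.subgroupOf L ⊓ centralizer (W1.subgroupOf L : Set ↥L))))
      fun x y e => Subtype.ext (congrArg
        (fun z : ↥(P.subgroupOf L ⊓ W2.subgroupOf L ⊓ centralizer (W1.subgroupOf L : Set ↥L)) =>
          ((z : ↥L) : G)) e :)
  rw [Nat.card_congr (subgroupOfEquivOfLe h2L).toEquiv] at hb
  calc Nat.card W2 ^ 2 * Nat.card ↥(P ⊓ W2 ⊓ centralizer (W1 : Set G))
      ≤ Nat.card ↥(P.subgroupOf L ⊓ W2.subgroupOf L) * Nat.card ↥(W2.subgroupOf L ⊓ C) ^ 2 :=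
        le_trans (Nat.mul_le_mul_left _ e3) hb
    _ ≤ Nat.card ↥(P ⊓ W2) * Nat.card ↥(P ⊓ W2) ^ 2 :=
        Nat.mul_le_mul e2 (Nat.pow_le_pow_left e1 2)
    _ = _ := by ring

/-- `W` with two cosets of `P ⊓ W` lies in `N P` for any `N` meeting it outside `P`. -/
theorem le_sup_of_two_cosets {W N P : Subgroup G}
    (h : ∀ a ∈ W, ∀ b ∈ W, a ∉ P → b ∉ P → a * b⁻¹ ∈ P) (hne : ¬ W ⊓ N ≤ P) : W ≤ N ⊔ P := by
  obtain ⟨z, hz, hzP⟩ := SetLike.not_le_iff_exists.1 hne
  intro w hw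
  by_cases hwP : w ∈ P
  · exact mem_sup_right hwP
  · have := mul_mem (mem_sup_right (S := N) (h w hw z hz.1 hwP hzP))
      (mem_sup_left (T := P) hz.2)
    rwa [inv_mul_cancel_right] at this

set_option maxHeartbeats 800000 in
theorem le_pCore_aux : ∀ (n : ℕ) (G : Type u) [Group G] [Finite G], Nat.card G = n → GoodX G →
    centralizer (pCore 2 G : Set G) ≤ pCore 2 G → ∀ V T : Subgroup G, IsElementaryAbelian 2 V →
    V ≤ T → IsPGroup 2 T → Odd T.index → T ≤ normalizer (V : Set G) → CondGrp V →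
    V ≤ pCore 2 G := by
  intro n
  induction n using Nat.strongRecOn with
  | ind n ih =>
  intro G _ _ hn hG hchar V T hV hVT hTp hTo hTn hcond
  classical
  have : Fact (Nat.Prime 2) := ⟨Nat.prime_two⟩
  by_contra hVP
  set P := pCore 2 G with hPdef
  have hPp : IsPGroup 2 P := PLocal.isPGroup_pCore 2 G
  have hT2 : ¬ 2 ∣ T.index := fun h => Nat.not_even_iff_odd.2 hTo (even_iff_two_dvd.2 h)
  have hPT : P ≤ T := PLocal.pCore_le_sylow (hTp.toSylow hT2)
  have hPV : P ≤ normalizer (V : Set G) := hPT.trans hTn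
  have hVe2 : ∀ v ∈ V, v * v = 1 := fun v hv => by rw [← pow_two]; exact hV.2 v hv
  -- the smaller constrained groups
  have hlocal : ∀ H : Subgroup G, P ≤ H → V ≤ H → H ≠ ⊤ → Odd (T.relIndex H) →
      V ≤ (pCore 2 ↥H).map H.subtype := by
    intro H hPH hVH hH ho
    have hlt : Nat.card H < n :=
      hn ▸ lt_of_le_of_ne (card_le_card_group H) fun e => hH (eq_top_of_card_eq H e)
    have hPsub : P.subgroupOf H ≤ pCore 2 ↥H := PLocal.pCore_subgroupOf_le H
    have h1 := ih _ hlt ↥H rfl (hG.subgroup H) (fun x hx => hPsub (hchar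
      (mem_centralizer_iff.2 fun p hp => congrArg Subtype.val
        (mem_centralizer_iff.1 hx ⟨p, hPH hp⟩ (hPsub hp)))))
      (V.subgroupOf H) (T.subgroupOf H)
      ((PLocal.isElementaryAbelian_map_iff H.subtype_injective).1 (by
        rwa [map_subgroupOf_eq_of_le hVH]))
      (comap_mono hVT) (hTp.comap_of_injective _ H.subtype_injective) ho
      (fun t ht => le_normalizer_of_conj_mem
        (fun a (ha : a ∈ T.subgroupOf H) b (hb : b ∈ V.subgroupOf H) =>
          (conj_mem_of_le_normalizer hTn ha hb : (a : G) * b * (a : G)⁻¹ ∈ V)) ht)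
      (hcond.subgroupOf hVH)
    rw [← map_subgroupOf_eq_of_le hVH]
    exact map_mono h1
  set π := QuotientGroup.mk' P with hπ
  have hπs : Function.Surjective π := QuotientGroup.mk'_surjective P
  have hπk : π.ker = P := QuotientGroup.ker_mk' P
  have hπ1 : ∀ x, π x = 1 ↔ x ∈ P := fun x => QuotientGroup.eq_one_iff x
  set A := V.map π with hA
  have hAcard : Nat.card A * Nat.card ↥(P ⊓ V) = Nat.card V := by
    have h1 := card_map_mul_card_ker_inf π V
    rwa [hπk] at h1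
  have hA1 : 1 < Nat.card A := by
    refine (Subgroup.one_lt_card_iff_ne_bot A).2 fun e => hVP fun v hv => (hπ1 v).1 ?_
    exact mem_bot.1 (e ▸ ⟨v, hv, rfl⟩)
  -- a conjugate
  suffices hsep : ∃ g : G, ∀ N : Subgroup G, IsPGroup 2 N →
      N ≤ P ⊔ V ⊔ V.map (MulAut.conj g).toMonoidHom →
      P ⊔ V ⊔ V.map (MulAut.conj g).toMonoidHom ≤ normalizer (N : Set G) →
      V ⊓ N ≤ P ∧ V.map (MulAut.conj g).toMonoidHom ⊓ N ≤ P by
    obtain ⟨g, hg⟩ := hsep
    set U := V.map (MulAut.conj g).toMonoidHom with hU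
    have hUe : IsElementaryAbelian 2 U := PLocal.isElementaryAbelian_map hV _
    have hPU : P ≤ normalizer (U : Set G) := le_normalizer_of_conj_mem (by
      rintro p hp _ ⟨v, hv, rfl⟩
      refine ⟨(g⁻¹ * p * g) * v * (g⁻¹ * p * g)⁻¹,
        conj_mem_of_le_normalizer hPV (by simpa using (inferInstance : P.Normal).conj_mem p hp g⁻¹) hv,
        ?_⟩
      simp only [MulEquiv.coe_toMonoidHom, MulAut.conj_apply]
      group)
    have hswap : P ⊔ U ⊔ V = P ⊔ V ⊔ U := by rw [sup_assoc, sup_comm U V, ← sup_assoc]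
    have hb := series_bound hG (W1 := V) (W2 := U) hPp hchar hUe hPU fun N h1 h2 h3 => (hg N h1 h2 h3).2
    have hc := series_bound hG (W1 := U) (W2 := V) hPp hchar hV hPV fun N h1 h2 h3 =>
      (hg N h1 (hswap ▸ h2) (hswap ▸ h3)).1
    have ha : Nat.card U = Nat.card V :=
      (Nat.card_congr (V.equivMapOfInjective _ (MulAut.conj g).injective).toEquiv).symm
    have hp : Nat.card ↥(P ⊓ U) = Nat.card ↥(P ⊓ V) := by
      have h : (P ⊓ V).map (MulAut.conj g).toMonoidHom = P ⊓ U := by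
        rw [Subgroup.map_inf _ _ _ (MulAut.conj g).injective, hU]
        congr 1
        refine le_antisymm ?_ fun x hx => ⟨g⁻¹ * x * g, ?_, by simp [mul_assoc]⟩
        · rintro _ ⟨x, hx, rfl⟩
          exact (inferInstance : P.Normal).conj_mem x hx g
        · simpa using (inferInstance : P.Normal).conj_mem x hx g⁻¹
      rw [← h]
      exact (Nat.card_congr ((P ⊓ V).equivMapOfInjective _ (MulAut.conj g).injective).toEquiv).symm
    rw [ha, hp] at hb
    have hlt : Nat.card ↥(P ⊓ V) < Nat.card V := by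
      rw [← hAcard]
      exact lt_mul_of_one_lt_left Nat.card_pos hA1
    have key : ∀ W1 W2 : Subgroup G, IsElementaryAbelian 2 W2 → CondGrp W1 →
        P ≤ normalizer (W1 : Set G) → Nat.card W1 = Nat.card V →
        Nat.card ↥(P ⊓ W2) = Nat.card ↥(P ⊓ V) →
        Nat.card V ^ 2 * Nat.card ↥(P ⊓ W2 ⊓ centralizer (W1 : Set G)) ≤
          Nat.card ↥(P ⊓ V) ^ 3 →
        Nat.card ↥(P ⊓ V) ^ 3 * Nat.card ↥(P ⊓ W1 ⊓ centralizer (W2 : Set G)) ^ 2 <
          Nat.card V ^ 2 * Nat.card ↥(P ⊓ W2 ⊓ centralizer (W1 : Set G)) ^ 3 := by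
      intro W1 W2 hW2 hc1 hn1 hcW hpW hb'
      have h1 := hc1 (P ⊓ W2) (hPp.to_le inf_le_left) (inf_le_left.trans hn1)
        (fun r hr => by rw [hW2.2 r hr.2]; exact one_mem _) (fun hle => by
          rw [inf_eq_left.2 hle, hpW, show Nat.card ↥(P ⊓ V) ^ 3 =
            Nat.card ↥(P ⊓ V) ^ 2 * Nat.card ↥(P ⊓ V) by ring] at hb'
          exact absurd (Nat.le_of_mul_le_mul_right hb' Nat.card_pos)
            (not_le.2 (Nat.pow_lt_pow_left hlt two_ne_zero)))
      rw [hpW, hcW] at h1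
      refine lt_of_le_of_lt (Nat.mul_le_mul_left _ (Nat.pow_le_pow_left (card_le_of_le ?_) 2)) h1
      exact fun x hx => mem_inf.2 ⟨hx.1.2, mem_centralizer_iff.2 fun r hr =>
        mem_centralizer_iff.1 hx.2 r hr.2⟩
    have k1 := key V U hUe hcond hPV rfl hp hb
    have k2 := key U V hV (hcond.conj g) hPU ha rfl hc
    set p := Nat.card ↥(P ⊓ V)
    set b0 := Nat.card ↥(P ⊓ U ⊓ centralizer (V : Set G))
    set c0 := Nat.card ↥(P ⊓ V ⊓ centralizer (U : Set G))
    have hpos : 0 < (b0 * c0) ^ 2 := pow_pos (mul_pos Nat.card_pos Nat.card_pos) 2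
    have h3 : p ^ 6 < Nat.card V ^ 4 * (b0 * c0) := by
      refine Nat.lt_of_mul_lt_mul_right (a := (b0 * c0) ^ 2) ?_
      calc p ^ 6 * (b0 * c0) ^ 2 = (p ^ 3 * c0 ^ 2) * (p ^ 3 * b0 ^ 2) := by ring
        _ < (Nat.card V ^ 2 * b0 ^ 3) * (Nat.card V ^ 2 * c0 ^ 3) := Nat.mul_lt_mul_of_lt_of_lt k1 k2
        _ = _ := by ring
    have h4 : Nat.card V ^ 4 * (b0 * c0) ≤ p ^ 6 := by
      calc Nat.card V ^ 4 * (b0 * c0) = (Nat.card V ^ 2 * b0) * (Nat.card V ^ 2 * c0) := by ring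
        _ ≤ p ^ 3 * p ^ 3 := Nat.mul_le_mul hb hc
        _ = _ := by ring
    exact absurd h3 (not_lt.2 h4)
  by_cases h4 : Nat.card A < 4
  · obtain ⟨i, hi⟩ := IsPGroup.iff_card.1 ((hTp.to_le hVT).map π : IsPGroup 2 A)
    have hA2 : Nat.card A = 2 := by
      rw [hi] at h4 hA1 ⊢
      have : i < 2 := (Nat.pow_lt_pow_iff_right (by norm_num : 1 < 2)).1 (by simpa using h4)
      interval_cases i <;> simp_all
    have hVcos : ∀ a ∈ V, ∀ b ∈ V, a ∉ P → b ∉ P → a * b⁻¹ ∈ P := by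
      intro a ha b hb haP hbP
      rw [← hπ1, map_mul, map_inv, mul_inv_eq_one]
      obtain ⟨u, v, -, huv⟩ := Nat.card_eq_two_iff.1 hA2
      have hall : ∀ z : A, z = u ∨ z = v := fun z => huv.ge (Set.mem_univ z)
      have hne : ∀ c (hc : c ∈ V), c ∉ P → (⟨π c, c, hc, rfl⟩ : A) ≠ 1 :=
        fun c hc hcP e => hcP ((hπ1 c).1 (congrArg Subtype.val e :))
      have := hall 1
      have h1 := hall ⟨π a, a, ha, rfl⟩
      have h2 := hall ⟨π b, b, hb, rfl⟩
      have h3 := hne a ha haP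
      have h4 := hne b hb hbP
      have : (⟨π a, a, ha, rfl⟩ : A) = ⟨π b, b, hb, rfl⟩ := by grind
      exact congrArg Subtype.val this
    obtain ⟨x, hx, hxP⟩ := SetLike.not_le_iff_exists.1 hVP
    obtain ⟨g, hg⟩ : ∃ g : G, ¬ IsPGroup 2 (closure ({x, g * x * g⁻¹} : Set G)) := by
      by_contra hall
      push Not at hall
      obtain ⟨N, hN, hNp, hxN⟩ := Small.baerSuzuki_elem (p := 2) x hall
      exact hxP (PLocal.le_pCore hNp hxN)
    refine ⟨g, fun N hN hNle hNn => ?_⟩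
    set U := V.map (MulAut.conj g).toMonoidHom with hU
    have hUcos : ∀ a ∈ U, ∀ b ∈ U, a ∉ P → b ∉ P → a * b⁻¹ ∈ P := by
      rintro _ ⟨a, ha, rfl⟩ _ ⟨b, hb, rfl⟩ haP hbP
      simp only [MulEquiv.coe_toMonoidHom, MulAut.conj_apply] at haP hbP ⊢
      have h := (inferInstance : P.Normal).conj_mem _ (hVcos a ha b hb
        (fun h => haP ((inferInstance : P.Normal).conj_mem a h g))
        (fun h => hbP ((inferInstance : P.Normal).conj_mem b h g))) g
      rwa [show g * (a * b⁻¹) * g⁻¹ = g * a * g⁻¹ * (g * b * g⁻¹)⁻¹ by group] at h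
    have hNP : IsPGroup 2 ↥(N ⊔ P) := IsPGroup.to_sup_of_normal_right hN hPp
    have hGle : ∀ W1 W2 : Subgroup G, IsPGroup 2 W2 → W1 ≤ N ⊔ P → W2 ≤ P ⊔ V ⊔ U →
        P ⊔ V ⊔ U ≤ P ⊔ W1 ⊔ W2 → False := by
      intro W1 W2 hW2 h1 h2 h3
      have hn2 : W2 ≤ normalizer ((N ⊔ P : Subgroup G) : Set G) := by
        refine le_trans ?_ (normalizer_inf_normalizer_le_normalizer_sup N P)
        exact le_inf (h2.trans hNn) le_normalizer_of_normal
      have hp : IsPGroup 2 ↥(N ⊔ P ⊔ W2) := IsPGroup.to_sup_of_normal_left' hNP hW2 hn2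
      refine hg (hp.to_le ((closure_le _).2 ?_))
      have h5 : P ⊔ V ⊔ U ≤ N ⊔ P ⊔ W2 :=
        h3.trans (sup_le_sup_right (sup_le le_sup_right h1) W2)
      rintro z (rfl | rfl)
      · exact h5 (mem_sup_left (mem_sup_right hx))
      · exact h5 (mem_sup_right ⟨x, hx, rfl⟩)
    refine ⟨?_, ?_⟩
    · by_contra hh
      exact hGle V U ((hTp.to_le hVT).map _) (le_sup_of_two_cosets hVcos hh) le_sup_right le_rfl
    · by_contra hh
      exact hGle U V (hTp.to_le hVT) (le_sup_of_two_cosets hUcos hh)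
        (le_sup_right.trans le_sup_left) (by rw [sup_assoc, sup_comm V U, ← sup_assoc])
  -- the configuration
  push Not at h4
  have hcore : pCore 2 (G ⧸ P) = ⊥ := PLocal.pCore_quotient_pCore_eq_bot 2 G
  have hrel : ∀ H : Subgroup (G ⧸ P), T.relIndex (H.comap π) = (T.map π).relIndex H := by
    intro H
    conv_lhs => rw [← (show (T.map π).comap π = T by rw [comap_map_eq, hπk, sup_eq_left.2 hPT])]
    rw [relIndex_comap, map_comap_eq_self_of_surjective hπs]
  have hcomap_ne : ∀ H : Subgroup (G ⧸ P), H ≠ ⊤ → H.comap π ≠ ⊤ := fun H hH e => hH (by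
    rw [← map_comap_eq_self_of_surjective hπs H, e, map_top_of_surjective π hπs])
  have hAe : IsElementaryAbelian 2 A := PLocal.isElementaryAbelian_map hV π
  have hcen : ∀ W H : Subgroup (G ⧸ P), W ≤ H → A ≤ H → A ≤ normalizer (W : Set (G ⧸ P)) →
      pCore 2 ↥W = ⊥ → H ≠ ⊤ → Odd ((T.map π).relIndex H) →
      ∀ w ∈ W, ∀ a ∈ A, w * a * w⁻¹ = a := by
    intro W H hWH hAH hAW hWc hH ho w hw a ha
    set H1 := H.comap π with hH1
    have hPH : P ≤ H1 := fun p hp => by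
      rw [hH1, mem_comap, (hπ1 p).2 hp]; exact one_mem H
    have hVO := hlocal H1 hPH (map_le_iff_le_comap.1 hAH) (hcomap_ne H hH) (by rwa [hrel])
    set O := ((pCore 2 ↥H1).map H1.subtype).map π with hO
    have hOn : ∀ y ∈ H, ∀ z ∈ O, y * z * y⁻¹ ∈ O := by
      rintro y hy _ ⟨_, ⟨c, hc, rfl⟩, rfl⟩
      obtain ⟨y, rfl⟩ := hπs y
      exact ⟨_, ⟨⟨y, hy⟩ * c * ⟨y, hy⟩⁻¹, (inferInstance : (pCore 2 ↥H1).Normal).conj_mem c hc _, rfl⟩,
        by simp⟩
    have haO : a ∈ O := map_mono hVO ha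
    have hp : IsPGroup 2 ↥(W ⊓ O) :=
      ((((PLocal.isPGroup_pCore 2 ↥H1).map _).map _).to_le inf_le_right)
    have hWOn : ((W ⊓ O).subgroupOf W).Normal := ⟨fun z hz y =>
      mem_inf.2 ⟨mul_mem (mul_mem y.2 z.2) (inv_mem y.2), hOn _ (hWH y.2) _ hz.2⟩⟩
    have h1 : (W ⊓ O).subgroupOf W ≤ (⊥ : Subgroup ↥W) :=
      hWc ▸ PLocal.le_pCore (hp.comap_of_injective _ W.subtype_injective)
    have hz : w * a * w⁻¹ * a⁻¹ ∈ W ⊓ O := by
      refine mem_inf.2 ⟨?_, mul_mem (hOn w (hWH hw) a haO) (inv_mem haO)⟩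
      rw [mul_assoc w, mul_assoc w]
      exact mul_mem hw (conj_mem_of_le_normalizer hAW ha (inv_mem hw))
    have hzW : w * a * w⁻¹ * a⁻¹ ∈ W := hz.1
    have h2 := congrArg Subtype.val (mem_bot.1 (h1 (show (⟨_, hzW⟩ : ↥W) ∈ _ from hz)))
    exact mul_inv_eq_one.1 h2
  have hgen : normalClosure (A : Set (G ⧸ P)) = ⊤ := by
    by_contra hne
    set L := normalClosure (A : Set (G ⧸ P)) with hL
    have hVL : V ≤ L.comap π := map_le_iff_le_comap.1 fun a ha => subset_normalClosure ha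
    refine hVP ((hlocal (L.comap π) (fun p hp => ?_) hVL (hcomap_ne L hne) ?_).trans
      (PLocal.pCore_map_subtype_le _))
    · rw [mem_comap, (hπ1 p).2 hp]; exact one_mem L
    · exact odd_relIndex_of_normal hTo _
  have hconf : Config (G ⧸ P) (T.map π) A (T.map π) :=
    { good := hG.of_surjective π hπs
      core := hcore
      pgroup := hTp.map π
      oddIndex := hTo.of_dvd_nat (index_map_dvd T hπs)
      elab_A := hAe
      four := h4
      le_T := map_mono hVT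
      le_F := map_mono hVT
      T_le := le_normalizer
      F_ne := fun e => by
        have hp : IsPGroup 2 (⊤ : Subgroup (G ⧸ P)) := e ▸ hTp.map π
        have h1 := card_le_card_group A
        rw [← Subgroup.card_top (G := G ⧸ P), show (⊤ : Subgroup (G ⧸ P)) = ⊥ from
          le_bot_iff.1 (hcore ▸ PLocal.le_pCore hp), card_bot] at h1
        omega
      fam := fun W hWn hWc hWA ho w hw a ha => by
        rw [hcen W (W ⊔ A) le_sup_left le_sup_right hWn hWc hWA ho w hw a ha]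
        exact map_mono hVT ha
      normal_sup := fun K hK hTK => by
        by_contra hne
        have hKc : pCore 2 ↥K = ⊥ := by
          have h1 := PLocal.pCore_map_subtype_le (p := 2) K
          rwa [hcore, le_bot_iff, map_eq_bot_iff_of_injective _ K.subtype_injective] at h1
        have hAK : A ≤ centralizer (K : Set (G ⧸ P)) := fun a ha => mem_centralizer_iff.2 fun k hk =>
          mul_inv_eq_iff_eq_mul.1 (hcen K (K ⊔ T.map π) le_sup_left
            (le_sup_of_le_right (map_mono hVT)) le_normalizer_of_normal hKc hne (by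
              rw [sup_comm]
              exact Odd.of_dvd_nat (hTo.of_dvd_nat (index_map_dvd T hπs))
                (relIndex_dvd_index_of_le le_sup_left)) k hk a ha)
        have hKt : centralizer (K : Set (G ⧸ P)) = ⊤ :=
          top_le_iff.1 (hgen.ge.trans (normalClosure_le_normal hAK))
        have hn' : (T.map π ⊓ K).Normal := ⟨fun z hz y => by
          rw [← mem_centralizer_iff.1 (hKt ▸ mem_top y : y ∈ centralizer (K : Set (G ⧸ P))) z hz.2,
            mul_inv_cancel_right]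
          exact hz⟩
        exact hTK (le_bot_iff.1 (hcore ▸ PLocal.le_pCore ((hTp.map π).to_le inf_le_left)))
      gen := hgen }
  obtain ⟨F, iF, iF', m, hm, f, hf, hker⟩ := hconf.isSzModOdd
  set φ := f.comp π with hφ
  have hφs : Function.Surjective φ := hf.comp hπs
  have hinv : ∀ a : G, a * a = 1 → φ a = 1 → a ∈ P := by
    intro a ha e
    refine (hπ1 a).1 (orderOf_eq_one_iff.1 (Nat.eq_one_of_dvd_coprimes
      (Nat.coprime_two_left.2 hker) (orderOf_dvd_of_pow_eq_one (n := 2) ?_)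
      (f.ker.orderOf_dvd_natCard e)))
    rw [pow_two, ← map_mul, ha, map_one]
  have hAne : V.map φ ≠ ⊥ := fun e => hVP fun v hv =>
    hinv v (hVe2 v hv) (mem_bot.1 (e ▸ ⟨v, hv, rfl⟩))
  obtain ⟨h, hh⟩ := sz_exists_separate hm ((hTp.to_le hVT).map φ) hAne
  obtain ⟨g, rfl⟩ := hφs h
  refine ⟨g, fun N hN _ hNn => ?_⟩
  have hconj : (V.map (MulAut.conj g).toMonoidHom).map φ =
      (V.map φ).map (MulAut.conj (φ g)).toMonoidHom := by
    rw [map_map, map_map]
    congr 1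
    ext x
    simp
  have hnorm : ∀ W : Subgroup G, W ≤ normalizer (N : Set G) →
      W.map φ ≤ normalizer ((N.map φ : Subgroup _) : Set ↥(Cfsg.Sz F m)) := fun W hW =>
    le_normalizer_of_conj_mem (by
      rintro _ ⟨w, hw, rfl⟩ _ ⟨z, hz, rfl⟩
      exact ⟨w * z * w⁻¹, conj_mem_of_le_normalizer hW hw hz, by simp⟩)
  obtain ⟨h1, h2⟩ := hh (N.map φ) (hN.map φ)
    (hnorm V ((le_sup_right.trans le_sup_left).trans hNn))
    (hconj ▸ hnorm _ (le_sup_right.trans hNn))
  refine ⟨fun z hz => hinv z (hVe2 z hz.1) (mem_bot.1 (h1 ▸ ⟨⟨z, hz.1, rfl⟩, ⟨z, hz.2, rfl⟩⟩)),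
    fun z hz => hinv z ?_ (mem_bot.1 (h2 ▸ ⟨hconj ▸ ⟨z, hz.1, rfl⟩, ⟨z, hz.2, rfl⟩⟩))⟩
  rw [← pow_two]
  exact (PLocal.isElementaryAbelian_map hV _).2 z hz.1

/-- **The conditioned subgroup lies in `O₂`.** -/
theorem le_pCore_of_cond [Finite G] (hG : GoodX G)
    (hchar : centralizer (pCore 2 G : Set G) ≤ pCore 2 G) {V T : Subgroup G}
    (hV : IsElementaryAbelian 2 V) (hVT : V ≤ T) (hTp : IsPGroup 2 T) (hTo : Odd T.index)
    (hTn : T ≤ normalizer (V : Set G)) (hcond : CondGrp V) : V ≤ pCore 2 G :=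
  le_pCore_aux _ G rfl hG hchar V T hV hVT hTp hTo hTn hcond

end CfsgLib.LocalEven.OffenderBound
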