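import Cfsg.Agent.LocalEven.OffenderBound.Hyp
import Cfsg.Agent.Inv53.PSLTwoAbelian
import Cfsg.Agent.DicksonPSL2.Orders

/-!
Facts about `PSL₂(q)`, `q = 3^odd`: tori of involutions, outer involutive automorphisms, and the
subgroups containing a large element of a nonsplit torus and an odd element inverted by its
involution.
-/

set_option autoImplicit false
set_option linter.unusedSectionVars false

namespace CfsgLib.LocalEven.OffenderBound.PSL

open Matrix CfsgLib.SL2Trace CfsgLib.DicksonPSL2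
open CfsgLib.SL2Tori (tr)
open scoped MatrixGroups

section Arith

theorem mod_eight (n : ℕ) : 3 ^ (2 * n + 1) % 8 = 3 := by
  rw [pow_succ, pow_mul, Nat.mul_mod, Nat.pow_mod]
  norm_num

theorem three_not_dvd_quarter {q m : ℕ} (hq : 3 ∣ q) (hm : q + 1 = 4 * m) : ¬ 3 ∣ m := by
  omega

/-- No proper subfield group has order divisible by `(q + 1) / 4`. -/
theorem subfield_arith {f d m : ℕ} (hf : Odd f) (hd : d ∣ f) (hlt : d < f) (hm : 3 ^ f + 1 = 4 * m)
    (h : m ∣ 3 ^ d * ((3 ^ d) ^ 2 - 1)) : False := by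
  obtain ⟨e, rfl⟩ := hd
  obtain ⟨j, rfl⟩ := (Nat.odd_mul.1 hf).2
  have hd0 : 0 < d := (Nat.odd_mul.1 hf).1.pos
  have h3 : ¬ 3 ∣ m := three_not_dvd_quarter (dvd_pow_self 3 (by positivity)) hm
  have h1 : m ∣ (3 ^ d) ^ 2 - 1 := (Nat.Coprime.pow_right d
    ((Nat.prime_three.coprime_iff_not_dvd.2 h3).symm)).dvd_of_dvd_mul_left h
  have h2 : (3 ^ d) ^ 2 ≡ 1 [MOD m] :=
    ((Nat.modEq_iff_dvd' (Nat.one_le_pow _ _ (by positivity))).2 h1).symm
  have h4 : 3 ^ (d * (2 * j + 1)) + 1 ≡ 3 ^ d + 1 [MOD m] := by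
    refine Nat.ModEq.add_right 1 ?_
    rw [pow_mul, pow_succ, pow_mul]
    simpa using (h2.pow j).mul_right (3 ^ d)
  have h5 : m ∣ 3 ^ d + 1 :=
    (h4.dvd_iff dvd_rfl).1 (hm ▸ Dvd.intro_left 4 rfl)
  have h6 : 3 ^ (d * (2 * j + 1)) ≥ (3 ^ d) ^ 3 := by
    rw [← pow_mul]
    refine Nat.pow_le_pow_right (by norm_num) ?_
    rcases Nat.eq_zero_or_pos j with rfl | hj
    · simp at hlt
    · nlinarith
  have h7 : 3 ≤ 3 ^ d := by
    calc 3 = 3 ^ 1 := rfl
      _ ≤ _ := Nat.pow_le_pow_right (by norm_num) hd0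
  have h8 := Nat.le_of_dvd (by positivity) h5
  have h9 : 9 * 3 ^ d ≤ (3 ^ d) ^ 3 := by
    have : 9 ≤ 3 ^ d * 3 ^ d := by nlinarith
    calc 9 * 3 ^ d ≤ 3 ^ d * 3 ^ d * 3 ^ d := Nat.mul_le_mul_right _ this
      _ = _ := by ring
  omega

end Arith

variable {F : Type} [Field F] [Fintype F]

theorem odd_card (hq : Fintype.card F % 8 = 3) : Odd (Fintype.card F) :=
  Nat.odd_iff.2 (by omega)

theorem neg_one_not_square (hq : Fintype.card F % 8 = 3) : ¬ IsSquare (-1 : F) := by
  rw [FiniteField.isSquare_neg_one_iff]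
  omega

/-- An involution lifts to a traceless square root of `-1`. -/
theorem exists_lift (hq : Fintype.card F % 8 = 3) {x : PSL(2, F)} (hx : x * x = 1) (hx1 : x ≠ 1) :
    ∃ i : SL(2, F), proj i = x ∧ i * i = -1 ∧ tr i = 0 := by
  obtain ⟨i, rfl⟩ := proj_surjective x
  have hF := odd_card hq
  have hi : i * i = -1 := by
    rw [← proj_mul, proj_eq_one_iff] at hx
    refine hx.resolve_left fun h => hx1 ?_
    rw [proj_eq_one_iff]
    by_cases h1 : i = 1
    · exact Or.inl h1
    · exact Or.inr (Linear.eq_neg_one_of_sq hF i h1 (by rw [pow_two, h]))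
  refine ⟨i, rfl, hi, ?_⟩
  have hc := cayley i (tr i) rfl
  have h2 : i.1 ^ 2 = -1 := by rw [pow_two]; simpa using congrArg Subtype.val hi
  rw [h2] at hc
  have h3 : tr i • i.1 = 0 := by
    have := hc
    rw [sub_add_eq_add_sub, neg_add_cancel, zero_sub, neg_eq_zero] at this
    exact this
  rcases smul_eq_zero.1 h3 with h | h
  · exact h
  · exfalso
    have := congrArg Matrix.det h
    rw [i.2] at this
    simp at this

theorem isTor_involution (hq : Fintype.card F % 8 = 3) {x : PSL(2, F)} (hx : x * x = 1)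
    (hx1 : x ≠ 1) : IsTor x := by
  obtain ⟨i, hi, -, ht⟩ := exists_lift hq hx hx1
  refine ⟨i, hi, ?_⟩
  rw [ht, zero_pow two_ne_zero]
  intro e
  have h2 : (2 : F) ≠ 0 := Linear.two_ne_zero_of_odd (odd_card hq)
  exact pow_ne_zero 2 h2 (by linear_combination -e)

theorem eq_of_mem_torus {x y : PSL(2, F)} (hx : IsTor x) (hx2 : x * x = 1) (hy : y ∈ torus x)
    (hy2 : y * y = 1) (hy1 : y ≠ 1) : y = x := by
  classical
  have := Fintype.ofFinite (torus x)
  have := isCyclic_torus hx
  by_contra hne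
  have h := IsCyclic.card_pow_eq_one_le (α := torus x) (n := 2) two_pos
  have hsub : ({1, ⟨x, self_mem_torus x⟩, ⟨y, hy⟩} : Finset (torus x)) ⊆
      Finset.univ.filter fun g => g ^ 2 = 1 := by
    intro g hg
    simp only [Finset.mem_insert, Finset.mem_singleton] at hg
    rw [Finset.mem_filter, pow_two]
    refine ⟨Finset.mem_univ _, ?_⟩
    rcases hg with rfl | rfl | rfl
    · simp
    · exact Subtype.ext hx2
    · exact Subtype.ext hy2
  have h3 := (Finset.card_le_card hsub).trans h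
  have hx1 := ne_one_of_isTor hx
  rw [Finset.card_insert_of_notMem (by simp [Subtype.ext_iff, eq_comm, hx1, hy1]),
    Finset.card_pair (by simp [Subtype.ext_iff, Ne.symm hne])] at h3
  omega

theorem card_torus_involution (hq : Fintype.card F % 8 = 3) {x : PSL(2, F)} (hx : x * x = 1)
    (hx1 : x ≠ 1) : 2 * Nat.card (torus x) = Fintype.card F + 1 := by
  have hF := odd_card hq
  have hg : Nat.gcd 2 (Fintype.card F - 1) = 2 := Nat.gcd_eq_left (by omega)
  have h2 : 2 ∣ Nat.card (torus x) := by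
    have := orderOf_eq_prime (p := 2) (by rw [pow_two, hx]) hx1
    have h' := Subgroup.orderOf_dvd_natCard _ (self_mem_torus x)
    rwa [this] at h'
  have := card_torus (isTor_involution hq hx hx1)
  rw [hg] at this
  omega

theorem exists_order_quarter (hq : Fintype.card F % 8 = 3) {x : PSL(2, F)} (hx : x * x = 1)
    (hx1 : x ≠ 1) : ∃ l ∈ torus x, Odd (orderOf l) ∧ 4 * orderOf l = Fintype.card F + 1 := by
  have hc := card_torus_involution hq hx hx1
  have := isCyclic_torus (isTor_involution hq hx hx1)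
  obtain ⟨g, hg⟩ := IsCyclic.exists_ofOrder_eq_natCard (α := torus x)
  have ho : orderOf ((g : PSL(2, F)) ^ 2) = Nat.card (torus x) / 2 := by
    rw [orderOf_pow' _ two_ne_zero, Subgroup.orderOf_coe, hg,
      Nat.gcd_eq_right (show 2 ∣ _ by omega)]
  refine ⟨(g : PSL(2, F)) ^ 2, pow_mem g.2 2, ?_, ?_⟩
  · rw [ho, Nat.odd_iff]; omega
  · rw [ho]; omega

theorem eight_not_dvd (hq : Fintype.card F % 8 = 3) : ¬ 8 ∣ Nat.card PSL(2, F) := by
  intro h
  have h2 : 16 ∣ Fintype.card F * (Fintype.card F ^ 2 - 1) := by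
    rw [← Linear.card_PSL_two_odd (odd_card hq)]
    exact mul_dvd_mul_left 2 h
  obtain ⟨j, hj⟩ : ∃ j, Fintype.card F = 8 * j + 3 := ⟨Fintype.card F / 8, by omega⟩
  rw [hj, show (8 * j + 3) * ((8 * j + 3) ^ 2 - 1) = 8 * ((8 * j + 3) * (8 * j ^ 2 + 6 * j + 1)) by
    rw [show (8 * j + 3) ^ 2 = 8 * (8 * j ^ 2 + 6 * j + 1) + 1 by ring, Nat.add_sub_cancel]
    ring, show 16 = 8 * 2 from rfl] at h2
  have h4 := Nat.dvd_of_mul_dvd_mul_left (by norm_num) h2
  rcases Nat.prime_two.dvd_mul.1 h4 with h5 | h5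
  · omega
  · rw [show 8 * j ^ 2 + 6 * j + 1 = 2 * (4 * j ^ 2 + 3 * j) + 1 by ring] at h5
    omega

/-- `conjSL g` is inner if `det g` is a square. -/
theorem inner_of_square {g : GL (Fin 2) F} (h : IsSquare g.1.det) :
    ∃ s : PSL(2, F), AutPSL.toPSLAut (AutPSL.conjSL g) = MulAut.conj s := by
  obtain ⟨e, he⟩ := h
  have he0 : e ≠ 0 := by
    rintro rfl
    have := (Matrix.isUnit_iff_isUnit_det g.1).1 g.isUnit
    rw [he, mul_zero] at this
    exact this.ne_zero rfl
  let s : SL(2, F) := ⟨e⁻¹ • g.1, by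
    rw [Matrix.det_smul, he, Fintype.card_fin]
    field_simp⟩
  have hg : g = Matrix.SpecialLinearGroup.toGL s *
      Matrix.GeneralLinearGroup.scalar (Fin 2) (Units.mk0 e he0) := by
    apply Units.ext
    rw [Units.val_mul]
    show g.1 = (e⁻¹ • g.1) * Matrix.scalar (Fin 2) e
    rw [Matrix.scalar_apply, ← Matrix.smul_one_eq_diagonal, mul_smul_comm, mul_one, smul_smul,
      mul_inv_cancel₀ he0, one_smul]
  refine ⟨proj s, ?_⟩
  rw [hg, map_mul, AutPSL.conjSL_scalar, mul_one, AutPSL.conjSL_toGL, AutPSL.toPSLAut_conj]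

/-- An automorphism squaring to the identity is induced by some element of `GL₂`. -/
theorem exists_gl {n : ℕ} (hF : Fintype.card F = 3 ^ (2 * n + 1)) (α : MulAut PSL(2, F))
    (hα : α * α = 1) : ∃ g : GL (Fin 2) F, α = AutPSL.toPSLAut (AutPSL.conjSL g) := by
  have : Fact (Nat.Prime 3) := ⟨Nat.prime_three⟩
  obtain ⟨g, σ, γ, hγ, hαf⟩ := AutPSL.exists_form le_rfl α
  obtain ⟨g', hg'⟩ : ∃ g' : GL (Fin 2) F,
      AutPSL.conjSL g * AutPSL.fieldSL σ * γ = AutPSL.conjSL g' * AutPSL.fieldSL σ := by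
    rcases hγ with rfl | rfl
    · exact ⟨g, by rw [mul_one]⟩
    · obtain ⟨w, hw⟩ := AutPSL.invTransSL_fin_two (F := F)
      exact ⟨g * AutPSL.mapGL σ w, by
        rw [hw, mul_assoc, AutPSL.fieldSL_mul_conjSL, map_mul, mul_assoc]⟩
  rw [hg'] at hαf
  refine ⟨AutPSL.twNorm σ g' (2 * n + 1), ?_⟩
  have hd : σ ^ (2 * n + 1) = 1 := by
    rw [← AutPSL.card_ringEquiv hF (by omega)]
    exact pow_card_eq_one'
  calc α = α ^ (2 * n + 1) := by rw [pow_succ, pow_mul, pow_two, hα, one_pow, one_mul]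
    _ = _ := by rw [hαf, ← map_pow, AutPSL.conjSL_fieldSL_pow, hd, map_one, mul_one]

/-- A product of two non-squares is a square. -/
theorem isSquare_mul_of_not (hF : Odd (Fintype.card F)) {a b : F} (ha : ¬ IsSquare a)
    (hb : ¬ IsSquare b) : IsSquare (a * b) := by
  classical
  have hc : ringChar F ≠ 2 := by
    intro h
    have := FiniteField.even_card_iff_char_two.1 h
    exact (Nat.not_odd_iff.2 this) hF
  have h1 := (quadraticChar_neg_one_iff_not_isSquare (F := F)).2 ha
  have h2 := (quadraticChar_neg_one_iff_not_isSquare (F := F)).2 hb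
  have h0 : a * b ≠ 0 := mul_ne_zero (fun e => ha (e ▸ IsSquare.zero)) (fun e => hb (e ▸ IsSquare.zero))
  refine (quadraticChar_one_iff_isSquare h0).1 ?_
  rw [map_mul, h1, h2]
  norm_num

/-- An involutive automorphism that is not inner is conjugation by a traceless matrix whose square
is a nonzero square scalar. -/
theorem exists_outer_form (hq : Fintype.card F % 8 = 3) [CharP F 3] {g : GL (Fin 2) F}
    (hg : AutPSL.toPSLAut (AutPSL.conjSL g) * AutPSL.toPSLAut (AutPSL.conjSL g) = 1)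
    (hns : ¬ IsSquare g.1.det) :
    ∃ c : F, c ≠ 0 ∧ g.1 * g.1 = (c * c) • 1 ∧ g.1 1 1 = -g.1 0 0 := by
  have : Fact (Nat.Prime 3) := ⟨Nat.prime_three⟩
  have h1 : AutPSL.conjSL (g * g) = 1 :=
    AutPSL.toPSLAut_injective 3 (by rw [map_mul, map_mul, hg, map_one])
  have hcomm : ∀ z : SL(2, F), (g * g).1 * z.1 = z.1 * (g * g).1 := by
    intro z
    have h2 := congrArg (fun α : MulAut SL(2, F) => (α z).1) h1
    simp only [AutPSL.conjSL_coe, MulAut.one_apply] at h2
    conv_rhs => rw [← h2, mul_assoc, Units.inv_mul, mul_one]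
  have hU := hcomm (upSL 1)
  have hL := hcomm ⟨!![1, 0; 1, 1], by simp [Matrix.det_fin_two]⟩
  have u00 := congrFun (congrFun hU 0) 0
  have u01 := congrFun (congrFun hU 0) 1
  have l00 := congrFun (congrFun hL 0) 0
  simp [Units.val_mul, coe_upSL, Matrix.mul_apply, Fin.sum_univ_two] at u00 u01 l00
  set a := g.1 0 0 with ha
  set b := g.1 0 1 with hb
  set c := g.1 1 0 with hc
  set d := g.1 1 1 with hd
  have hdet : g.1.det = a * d - b * c := Matrix.det_fin_two _
  have hb0 : b * (a + d) = 0 := by linear_combination l00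
  have hc0 : c * (a + d) = 0 := by linear_combination u00
  have had : (a - d) * (a + d) = 0 := by linear_combination u01
  have ht : d = -a := by
    by_contra hne
    have hne' : a + d ≠ 0 := fun e => hne (by linear_combination e)
    have b0 := (mul_eq_zero.1 hb0).resolve_right hne'
    have c0 := (mul_eq_zero.1 hc0).resolve_right hne'
    have a0 := (mul_eq_zero.1 had).resolve_right hne'
    exact hns ⟨a, by rw [hdet, b0]; linear_combination -a * a0⟩
  obtain ⟨l, hl⟩ : IsSquare (-1 * g.1.det) :=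
    isSquare_mul_of_not (odd_card hq) (neg_one_not_square hq) hns
  have hl' : a * a + b * c = l * l := by rw [← hl, hdet, ht]; ring
  refine ⟨l, ?_, ?_, ht⟩
  · rintro rfl
    refine hns ⟨0, ?_⟩
    linear_combination -hl
  · ext i j
    fin_cases i <;> fin_cases j <;>
      simp [Matrix.mul_apply, Fin.sum_univ_two, ← ha, ← hb, ← hc, ← hd, ht] <;> first | ring1 | linear_combination hl'

/-- The elements of the split torus of a traceless matrix `M` with square `c²`. -/
theorem exists_split_hom (hF : Odd (Fintype.card F)) (M : Matrix (Fin 2) (Fin 2) F) {c : F}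
    (hc : c ≠ 0) (hM : M * M = (c * c) • 1) (ht : M 1 1 = -M 0 0) :
    ∃ s : Fˣ →* SL(2, F), (∀ v, M * (s v).1 = (s v).1 * M) ∧
      (∀ (v : Fˣ) (i : Matrix (Fin 2) (Fin 2) F), i * M = -(M * i) →
        i * (s v).1 = (s v⁻¹).1 * i) ∧ ∀ v, s v = 1 → v = 1 := by
  have h2 : (2 : F) ≠ 0 := Linear.two_ne_zero_of_odd hF
  let x : Fˣ → F := fun v => ((v : F) + (v : F)⁻¹) / 2
  let y : Fˣ → F := fun v => ((v : F)⁻¹ - (v : F)) / (2 * c)
  let S : Fˣ → Matrix (Fin 2) (Fin 2) F := fun v => x v • 1 + y v • M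
  have hmul : ∀ v w, S v * S w = S (v * w) := by
    intro v w
    have hx : x v * x w + y v * y w * (c * c) = x (v * w) := by
      simp only [x, y, Units.val_mul]
      field_simp
      ring
    have hy : x v * y w + y v * x w = y (v * w) := by
      simp only [x, y, Units.val_mul]
      field_simp
      ring
    simp only [S, add_mul, mul_add, smul_mul_assoc, mul_smul_comm, one_mul, mul_one, hM, smul_smul]
    rw [← hx, ← hy, add_smul, add_smul]
    module
  have hdet : ∀ v, (S v).det = 1 := by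
    intro v
    have h00 := congrFun (congrFun hM 0) 0
    simp [Matrix.mul_apply, Fin.sum_univ_two] at h00
    have e : x v * x v - y v * y v * (c * c) = 1 := by
      simp only [x, y]
      have := v.ne_zero
      field_simp
      ring
    rw [Matrix.det_fin_two]
    simp [S, ht]
    linear_combination e - y v * y v * h00
  have hy_inv : ∀ v, y v⁻¹ = -y v := fun v => by simp only [y, Units.val_inv_eq_inv_val, inv_inv]; ring
  have hx_inv : ∀ v, x v⁻¹ = x v := fun v => by simp only [x, Units.val_inv_eq_inv_val, inv_inv]; ring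
  refine ⟨MonoidHom.mk' (fun v => ⟨S v, hdet v⟩) (fun v w => Subtype.ext (hmul v w).symm),
    fun v => ?_, fun v i hi => ?_, fun v hv => ?_⟩
  · show M * S v = S v * M
    simp only [S, add_mul, mul_add, smul_mul_assoc, mul_smul_comm, one_mul, mul_one]
  · show i * S v = S v⁻¹ * i
    simp only [S, hx_inv, hy_inv, add_mul, mul_add, smul_mul_assoc, mul_smul_comm, one_mul, mul_one,
      hi, smul_neg, neg_smul, neg_mul]
  · have h1 : S v = 1 := congrArg Subtype.val hv
    have h3 := congrArg Matrix.trace h1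
    simp [S, Matrix.trace_fin_two, ht] at h3
    have h4 : ((v : F) - 1) * ((v : F) - 1) = 0 := by
      have := v.ne_zero
      simp only [x] at h3
      field_simp at h3
      linear_combination h3
    exact Units.ext (sub_eq_zero.1 (mul_self_eq_zero.1 h4))

/-- A subgroup with an element of order `(q+1)/4` in the torus of an involution `z` and an odd
element inverted by `z` is everything. -/
theorem eq_top {n : ℕ} (hn : 1 ≤ n) (hF : Fintype.card F = 3 ^ (2 * n + 1))
    (hfree : ¬ Cfsg.Involves (Equiv.Perm (Fin 3)) PSL(2, F)) (M : Subgroup PSL(2, F))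
    {z l r : PSL(2, F)} (hz : z * z = 1) (hz1 : z ≠ 1) (hl : l ∈ torus z)
    (hlo : 4 * orderOf l = Fintype.card F + 1) (hlM : l ∈ M) (hrM : r ∈ M) (hr : Odd (orderOf r))
    (hr1 : r ≠ 1) (hinv : z * r * z⁻¹ = r⁻¹) : M = ⊤ := by
  have : Fact (Nat.Prime 3) := ⟨Nat.prime_three⟩
  have : CharP F 3 := charP_of_card_eq_prime_pow hF
  have hq : Fintype.card F % 8 = 3 := by rw [hF]; exact mod_eight n
  have hm7 : 7 ≤ orderOf l := by
    have : 27 ≤ Fintype.card F := by
      rw [hF]
      calc 27 = 3 ^ 3 := rfl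
        _ ≤ _ := Nat.pow_le_pow_right (by norm_num) (by omega)
    omega
  have hmodd : Odd (orderOf l) := Nat.odd_iff.2 (by omega)
  have hdvd : orderOf l ∣ Nat.card M := M.orderOf_dvd_natCard hlM
  have hl1 : l ≠ 1 := fun e => by rw [e, orderOf_one] at hm7; omega
  have hno2 : ∀ {x : PSL(2, F)}, Odd (orderOf x) → x * x = 1 → x = 1 := fun {x} ho hx => by
    have h := orderOf_dvd_of_pow_eq_one (show x ^ 2 = 1 by rw [pow_two, hx])
    rcases (Nat.dvd_prime Nat.prime_two).1 h with e | e
    · exact orderOf_eq_one_iff.1 e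
    · rw [e] at ho; exact absurd ho (by decide)
  rcases subgroup_cases_sharp 3 M with h | h | ⟨-, hp, -⟩ | ⟨-, hp, -⟩ | ⟨-, -, ⟨e⟩⟩ | h
  · exfalso
    have h1 := hdvd.trans h.card_dvd
    have h2 := card_BP F
    rw [Nat.gcd_eq_left (show 2 ∣ Fintype.card F - 1 by omega)] at h2
    have h3 : orderOf l ∣ Fintype.card F * (Fintype.card F - 1) := h2 ▸ dvd_mul_of_dvd_right h1 2
    have hco : (orderOf l).Coprime (Fintype.card F) := by
      refine Nat.coprime_of_dvd' fun k _ hk hk' => ?_
      have := Nat.dvd_sub (Dvd.dvd.mul_left hk 4) hk'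
      rwa [hlo, Nat.add_sub_cancel_left] at this
    have h5 := hco.dvd_of_dvd_mul_left h3
    have h6 := Nat.dvd_sub (Dvd.intro_left 4 hlo : orderOf l ∣ Fintype.card F + 1) h5
    rw [show Fintype.card F + 1 - (Fintype.card F - 1) = 2 by omega] at h6
    have := Nat.le_of_dvd two_pos h6
    omega
  · exfalso
    obtain ⟨x, hx, hle⟩ := h
    have hmem : ∀ {w : PSL(2, F)}, w ∈ M → Odd (orderOf w) → w ∈ torus x := fun {w} hw ho => by
      rcases mem_or_inverts hx ((mem_normalizer_torus_iff hx).1 (hle hw)) with h | ⟨h, -⟩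
      · exact h
      · rw [hno2 ho h]; exact one_mem _
    have hlx := hmem hlM hmodd
    have hzt := isTor_involution hq hz hz1
    have e : torus x = torus z :=
      (isTor_of_mem_torus hx hlx hl1).2.symm.trans (isTor_of_mem_torus hzt hl hl1).2
    have hrz : r ∈ torus z := e ▸ hmem hrM hr
    rw [torus_comm hzt (self_mem_torus z) hrz, mul_inv_cancel_right] at hinv
    exact hr1 (hno2 hr (mul_eq_one_iff_eq_inv.2 hinv))
  · exact absurd rfl hp.2
  · exact absurd rfl hp.2
  · exact absurd (ConjFunctor.involves_trans (ConjFunctor.involves_trans (ConjFunctor.involves_subgroup M)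
      (ConjFunctor.involves_equiv e)) perm_three_involved_alt_five) hfree
  · obtain ⟨K, iK, iK', k, hk, hiso⟩ := h.data
    obtain ⟨p, c, hp, hc0, hc⟩ : ∃ p c : ℕ, p.Prime ∧ c ≠ 0 ∧ Fintype.card K = p ^ c := by
      obtain ⟨p, -, c, hp, hc⟩ := FiniteField.card' K
      exact ⟨p, c, hp, c.2.ne', hc⟩
    have h1 : p ^ (c * k) = 3 ^ (2 * n + 1) := by rw [pow_mul, ← hc, hk, hF]
    have hk0 : k ≠ 0 := by
      rintro rfl
      rw [pow_zero, hF] at hk
      exact absurd hk.symm (Nat.one_lt_pow (by omega) (by norm_num)).ne'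
    obtain ⟨rfl, h2⟩ := Nat.Prime.pow_inj' hp Nat.prime_three
      (mul_ne_zero hc0 hk0) (by omega) h1
    have hKodd : Odd (Fintype.card K) := by rw [hc]; exact Odd.pow (by decide)
    have hcard : Nat.card M = Fintype.card K * (Fintype.card K ^ 2 - 1) ∨
        2 * Nat.card M = Fintype.card K * (Fintype.card K ^ 2 - 1) := by
      rcases hiso with ⟨⟨e⟩⟩ | ⟨⟨e⟩⟩
      · right; rw [Nat.card_congr e.toEquiv]; exact Linear.card_PSL_two_odd hKodd
      · left; rw [Nat.card_congr e.toEquiv, Linear.card_PGL, Linear.card_SL_two]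
    rcases lt_or_eq_of_le (Nat.le_of_dvd (by omega) (Dvd.intro k h2)) with hlt | heq
    · exfalso
      refine subfield_arith ⟨n, rfl⟩ (Dvd.intro k h2) hlt (hF ▸ hlo.symm) ?_
      rw [← hc]
      rcases hcard with e | e
      · exact e ▸ hdvd
      · exact e ▸ dvd_mul_of_dvd_right hdvd 2
    · have hKF : Fintype.card K = Fintype.card F := by rw [hc, hF, heq]
      rw [hKF] at hcard
      have hP := Linear.card_PSL_two_odd (F := F) (odd_card hq)
      have hle := Subgroup.card_le_card_group M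
      refine Subgroup.eq_top_of_card_eq M ?_
      omega

end CfsgLib.LocalEven.OffenderBound.PSL
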