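import Cfsg.Agent.LocalEven.OffenderBound.Config
import Cfsg.Agent.LocalEven.OffenderBound.PSLFacts

/-!
In the configuration the minimal normal subgroup is not `PSL₂(3^odd)`: `F0` would contain a large
element of a nonsplit torus and an odd element inverted by its involution.
-/

set_option autoImplicit false

universe u

namespace CfsgLib.LocalEven.OffenderBound.Config

open Cfsg Subgroup
open CfsgLib.DicksonPSL2 (IsTor torus self_mem_torus torus_comm mem_or_inverts)
open CfsgLib.SL2Trace (proj proj_surjective)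
open CfsgLib.MinNormal (conj_mem_of_le_normalizer le_normalizer_of_conj_mem)
open scoped MatrixGroups

variable {X : Type u} [Group X] [Finite X] {T A F0 : Subgroup X}

theorem psl_false (h : Config X T A F0)
    (hodd : ∀ W : Subgroup X, W.Normal → Odd (Nat.card W) → W = ⊥) {F : Type} [Field F] [Fintype F]
    {n : ℕ} (hn : 1 ≤ n) (hF : Fintype.card F = 3 ^ (2 * n + 1)) (ι : PSL(2, F) →* X)
    (hι : Function.Injective ι) (φ : X →* MulAut PSL(2, F)) (hφ : Function.Injective φ)
    (hact : ∀ x p, ι (φ x p) = x * ι p * x⁻¹) (htop : ι.range ⊔ A = ⊤) : False := by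
  classical
  have : Fact (Nat.Prime 3) := ⟨Nat.prime_three⟩
  have : Fact (Nat.Prime 2) := ⟨Nat.prime_two⟩
  have : CharP F 3 := charP_of_card_eq_prime_pow hF
  have hq : Fintype.card F % 8 = 3 := by rw [hF]; exact PSL.mod_eight n
  have hFo := PSL.odd_card hq
  have hfree : ¬ Cfsg.Involves (Equiv.Perm (Fin 3)) PSL(2, F) := fun h' =>
    h.good.s3 (ConjFunctor.involves_trans (ConjFunctor.involves_trans
      (ConjFunctor.involves_subgroup ι.range)
      (ConjFunctor.involves_equiv (MonoidHom.ofInjective hι).symm)) h')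
  set M := F0.comap ι with hM
  suffices hMtop : M = ⊤ by
    refine h.F_ne (top_le_iff.1 (htop.ge.trans (sup_le ?_ h.le_F)))
    rintro _ ⟨p, rfl⟩
    exact (hMtop ▸ mem_top p : p ∈ M)
  -- conjugation by elements of the image
  have hconj : ∀ v p : PSL(2, F), φ (ι v) p = v * p * v⁻¹ := fun v p => hι (by
    rw [hact, map_mul, map_mul, map_inv])
  -- odd elements inverted by `A`
  have hkey : ∀ r : PSL(2, F), Odd (orderOf r) → (∀ b ∈ A, φ b r = r ∨ φ b r = r⁻¹) →
      (∃ b ∈ A, φ b r = r⁻¹) → r ∈ M := by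
    intro r hr hall ⟨b, hb, hbr⟩
    rcases eq_or_ne r 1 with rfl | hr1
    · exact one_mem M
    set W := (zpowers r).map ι with hW
    have hWodd : Odd (Nat.card W) := by
      rw [hW, ← Nat.card_congr ((zpowers r).equivMapOfInjective ι hι).toEquiv, Nat.card_zpowers]
      exact hr
    have hn : A ≤ normalizer (W : Set X) := by
      refine le_normalizer_of_conj_mem ?_
      rintro c hc _ ⟨x, ⟨k, rfl⟩, rfl⟩
      refine ⟨φ c (r ^ k), ?_, hact c _⟩
      rw [map_zpow]
      rcases hall c hc with e | e <;> rw [e]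
      · exact zpow_mem (mem_zpowers r) k
      · exact zpow_mem (inv_mem (mem_zpowers r)) k
    have hne : W ⊔ A ≠ ⊤ := fun e => by
      have hWn : W.Normal := by
        rw [← normalizer_eq_top_iff, eq_top_iff, ← e]
        exact sup_le le_normalizer hn
      have := hodd W hWn hWodd
      rw [hW, map_eq_bot_iff_of_injective _ hι, zpowers_eq_bot] at this
      exact hr1 this
    have h1 := h.commutator_mem hn hWodd hne (mem_map_of_mem ι (mem_zpowers r)) hb
    have h2 : r * r ∈ M := by
      show ι (r * r) ∈ F0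
      have e : b * (ι r)⁻¹ * b⁻¹ = ι r := by
        rw [← map_inv, ← hact, map_inv (φ b), hbr, inv_inv]
      rw [map_mul]
      conv => arg 2; arg 2; rw [← e]
      simpa [mul_assoc] using h1
    obtain ⟨k, hk⟩ := hr
    have : r = (r * r) ^ (k + 1) := by
      rw [← pow_two, ← pow_mul, show 2 * (k + 1) = (2 * k + 1) + 1 by ring, ← hk, pow_succ,
        pow_orderOf_eq_one, one_mul]
    rw [this]
    exact pow_mem h2 _
  by_cases hin : ∀ a ∈ A, a ∈ ι.range
  · -- `A` is a four group of inner elements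
    set V := A.comap ι with hV
    have hVc : Nat.card V = Nat.card A := by
      rw [Nat.card_congr (V.equivMapOfInjective ι hι).toEquiv, hV, map_comap_eq, inf_eq_right.2 hin]
    have hV2 : ∀ v ∈ V, v * v = 1 := fun v hv => hι (by rw [map_mul, map_one, h.mul_self hv])
    have hVab : ∀ v ∈ V, ∀ w ∈ V, v * w = w * v := fun v hv w hw => hι (by
      rw [map_mul, map_mul, h.comm hv hw])
    have hVp : IsPGroup 2 V := fun v => ⟨1, Subtype.ext (by rw [pow_one, pow_two]; exact hV2 v v.2)⟩
    have hV4 : Nat.card V = 4 := by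
      obtain ⟨k, hk⟩ := IsPGroup.iff_card.1 hVp
      have h8 := PSL.eight_not_dvd hq
      have h4 := hVc ▸ h.four
      rcases Nat.lt_or_ge k 3 with hk3 | hk3
      · rw [hk] at h4 ⊢
        interval_cases k <;> omega
      · exact absurd ((dvd_trans (pow_dvd_pow 2 hk3) (hk ▸ dvd_rfl)).trans
          V.card_subgroup_dvd_card) h8
    obtain ⟨z, hz, hz1⟩ := V.bot_or_exists_ne_one.resolve_left fun e => by
      rw [e, card_bot] at hV4; omega
    obtain ⟨y, hy, hy1, hyz⟩ : ∃ y ∈ V, y ≠ 1 ∧ y ≠ z := by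
      by_contra hall
      push Not at hall
      have hsub : (V : Set PSL(2, F)) ⊆ {1, z} := fun a ha => by
        rcases eq_or_ne a 1 with e | e
        · exact Or.inl e
        · exact Or.inr (hall a ha e)
      have h1 := Set.ncard_le_ncard hsub (Set.toFinite _)
      have h2 : ({1, z} : Set PSL(2, F)).ncard ≤ 2 :=
        (Set.ncard_insert_le _ _).trans (by rw [Set.ncard_singleton])
      rw [← Nat.card_coe_set_eq] at h1
      simp only [SetLike.coe_sort_coe] at h1
      omega
    have hact' : ∀ {x l : PSL(2, F)}, x ∈ V → x ≠ 1 → l ∈ torus x → ∀ b ∈ A,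
        φ b l = l ∨ φ b l = l⁻¹ := by
      intro x l hx hx1 hl b hb
      obtain ⟨v, rfl⟩ := hin b hb
      have hxt := PSL.isTor_involution hq (hV2 x hx) hx1
      have hvx : v * x * v⁻¹ = x := by rw [hVab v hb x hx, mul_inv_cancel_right]
      rw [hconj]
      rcases mem_or_inverts (n := v) hxt (by rw [hvx]; exact self_mem_torus x) with hv | ⟨-, hv⟩
      · exact Or.inl (by rw [torus_comm hxt hv hl, mul_inv_cancel_right])
      · exact Or.inr (hv l hl)
    have hinv : ∀ {x w l : PSL(2, F)}, x ∈ V → x ≠ 1 → w ∈ V → w ≠ 1 → w ≠ x → l ∈ torus x →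
        w * l * w⁻¹ = l⁻¹ := by
      intro x w l hx hx1 hw hw1 hwx hl
      have hxt := PSL.isTor_involution hq (hV2 x hx) hx1
      have hwx' : w * x * w⁻¹ = x := by rw [hVab w hw x hx, mul_inv_cancel_right]
      rcases mem_or_inverts (n := w) hxt (by rw [hwx']; exact self_mem_torus x) with h' | ⟨-, h'⟩
      · exact absurd (PSL.eq_of_mem_torus hxt (hV2 x hx) h' (hV2 w hw) hw1) hwx
      · exact h' l hl
    obtain ⟨l, hl, hlodd, hlo⟩ := PSL.exists_order_quarter hq (hV2 z hz) hz1
    obtain ⟨r, hr, hrodd, hro⟩ := PSL.exists_order_quarter hq (hV2 y hy) hy1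
    have hr1 : r ≠ 1 := fun e => by
      rw [e, orderOf_one] at hro
      have : 3 ^ 3 ≤ Fintype.card F := hF ▸ Nat.pow_le_pow_right (by norm_num) (by omega)
      omega
    refine PSL.eq_top hn hF hfree M (hV2 z hz) hz1 hl hlo
      (hkey l hlodd (hact' hz hz1 hl) ⟨ι y, hy, ?_⟩)
      (hkey r hrodd (hact' hy hy1 hr) ⟨ι z, hz, ?_⟩) hrodd hr1
      (hinv hy hy1 hz hz1 (Ne.symm hyz) hr)
    · rw [hconj]; exact hinv hz hz1 hy hy1 hyz hl
    · rw [hconj]; exact hinv hy hy1 hz hz1 (Ne.symm hyz) hr
  · -- an outer element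
    push Not at hin
    obtain ⟨a, ha, har⟩ := hin
    have hgl : ∀ b ∈ A, b ∉ ι.range → ∃ g : GL (Fin 2) F,
        φ b = AutPSL.toPSLAut (AutPSL.conjSL g) ∧ ¬ IsSquare g.1.det := by
      intro b hb hbr
      obtain ⟨g, hg⟩ := PSL.exists_gl hF (φ b) (by rw [← map_mul, h.mul_self hb, map_one])
      refine ⟨g, hg, fun hsq => hbr ?_⟩
      obtain ⟨s, hs⟩ := PSL.inner_of_square hsq
      exact ⟨s, hφ (by rw [hg, hs]; ext p; simp [hconj])⟩
    obtain ⟨g, hg, hns⟩ := hgl a ha har
    have hmul : ∀ b ∈ A, b ∉ ι.range → a * b ∈ ι.range := by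
      intro b hb hbr
      obtain ⟨g', hg', hns'⟩ := hgl b hb hbr
      obtain ⟨s, hs⟩ := PSL.inner_of_square (g := g * g')
        (by rw [Units.val_mul, Matrix.det_mul]; exact PSL.isSquare_mul_of_not hFo hns hns')
      exact ⟨s, hφ (by rw [map_mul φ, hg, hg', ← map_mul, ← map_mul, hs]; ext p; simp [hconj])⟩
    have ha1 : a ≠ 1 := fun e => har (e ▸ one_mem _)
    obtain ⟨z0, hz0, hz01⟩ : ∃ z0 : PSL(2, F), ι z0 ∈ A ∧ z0 ≠ 1 := by
      obtain ⟨b, hb, hb1, hba⟩ : ∃ b ∈ A, b ≠ 1 ∧ b ≠ a := by
        by_contra hall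
        push Not at hall
        have hsub : (A : Set X) ⊆ {1, a} := fun c hc => by
          rcases eq_or_ne c 1 with e | e
          · exact Or.inl e
          · exact Or.inr (hall c hc e)
        have h1 := Set.ncard_le_ncard hsub (Set.toFinite _)
        have h2 : ({1, a} : Set X).ncard ≤ 2 :=
          (Set.ncard_insert_le _ _).trans (by rw [Set.ncard_singleton])
        rw [← Nat.card_coe_set_eq] at h1
        simp only [SetLike.coe_sort_coe] at h1
        have := h.four
        omega
      by_cases hbr : b ∈ ι.range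
      · obtain ⟨z0, rfl⟩ := hbr
        exact ⟨z0, hb, fun e => hb1 (by rw [e, map_one])⟩
      · obtain ⟨z0, hz0⟩ := hmul b hb hbr
        refine ⟨z0, hz0 ▸ mul_mem ha hb, fun e => hba ?_⟩
        rw [e, map_one] at hz0
        calc b = a * a * b := by rw [h.mul_self ha, one_mul]
          _ = a := by rw [mul_assoc, ← hz0, mul_one]
    have hzz : z0 * z0 = 1 := hι (by rw [map_mul, map_one, h.mul_self hz0])
    have hfix : ∀ v, ι v ∈ A → φ a v = v := fun v hv => hι (by
      rw [hact, h.comm ha hv, mul_inv_cancel_right])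
    have hVz : ∀ v, ι v ∈ A → v = 1 ∨ v = z0 := by
      intro v hv
      by_contra hcon
      push Not at hcon
      obtain ⟨x, -, hx⟩ := Inv53.conjSL_fix_four hFo hzz
        (show v * v = 1 from hι (by rw [map_mul, map_one, h.mul_self hv])) hz01 hcon.1
        (Ne.symm hcon.2) (hι (by rw [map_mul, map_mul, h.comm hz0 hv])) g
        (by rw [← hg]; exact hfix z0 hz0) (by rw [← hg]; exact hfix v hv)
      exact har ⟨x, hφ (by rw [hg, hx]; ext p; simp [hconj])⟩
    have hA4 : ∀ b ∈ A, b = 1 ∨ b = ι z0 ∨ b = a ∨ b = a * ι z0 := by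
      intro b hb
      by_cases hbr : b ∈ ι.range
      · obtain ⟨v, rfl⟩ := hbr
        rcases hVz v hb with rfl | rfl
        · exact Or.inl (map_one ι)
        · exact Or.inr (Or.inl rfl)
      · obtain ⟨v, hv⟩ := hmul b hb hbr
        have hb' : b = a * ι v := by rw [hv, ← mul_assoc, h.mul_self ha, one_mul]
        rcases hVz v (hv ▸ mul_mem ha hb) with rfl | rfl
        · exact Or.inr (Or.inr (Or.inl (by rw [hb', map_one, mul_one])))
        · exact Or.inr (Or.inr (Or.inr hb'))
    -- the matrix `g`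
    obtain ⟨c, hc0, hM2, htr⟩ := PSL.exists_outer_form hq (g := g)
      (by rw [← hg, ← map_mul, h.mul_self ha, map_one]) hns
    obtain ⟨i, hiz, hi2, hit⟩ := PSL.exists_lift hq hzz hz01
    have h2F : (2 : F) ≠ 0 := Linear.two_ne_zero_of_odd hFo
    have hic : i ∉ Subgroup.center SL(2, F) := fun hc' => hz01 (by
      rw [← hiz, SL2Trace.proj, QuotientGroup.eq_one_iff]; exact hc')
    have hnsc := SL2Trace.nonScalar_of_not_mem_center hic
    have hi11 : i.1 1 1 = -i.1 0 0 := by
      rw [SL2Tori.tr, Matrix.trace_fin_two] at hit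
      linear_combination hit
    -- `g` anticommutes with `i`
    have hanti : g.1 * i.1 = -(i.1 * g.1) := by
      have h1 : proj (AutPSL.conjSL g i) = proj i := by
        have h' := hfix z0 hz0
        rw [hg, ← hiz] at h'
        exact h'
      rcases DicksonPSL2.proj_eq_proj_iff.1 h1 with e | e
      · exfalso
        have h' : g.1 * i.1 = i.1 * g.1 := by
          conv_rhs => rw [e, AutPSL.conjSL_coe, mul_assoc, Units.inv_mul, mul_one]
        obtain ⟨u, w, huw⟩ := Linear.exists_coord hnsc h'.symm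
        have htu : u = 0 := by
          have e1 := htr
          rw [huw] at e1
          simp [hi11] at e1
          exact (mul_eq_zero.1 (show (2 : F) * u = 0 by linear_combination e1)).resolve_left h2F
        refine hns ⟨w, ?_⟩
        rw [huw, SL2Tori.det_combination, htu, hit]
        ring
      · conv_rhs => rw [e]
        simp only [Matrix.SpecialLinearGroup.coe_neg, AutPSL.conjSL_coe, neg_mul, neg_neg]
        rw [mul_assoc (g.1 * i.1), Units.inv_mul, mul_one]
    obtain ⟨s, hsM, hsi, hsinj⟩ := PSL.exists_split_hom hFo g.1 hc0 hM2 htr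
    have hanti' : i.1 * g.1 = -(g.1 * i.1) := by rw [hanti, neg_neg]
    -- the element `r`
    obtain ⟨w, hw⟩ := IsCyclic.exists_ofOrder_eq_natCard (α := Fˣ)
    rw [Nat.card_units, Nat.card_eq_fintype_card] at hw
    have hq27 : 27 ≤ Fintype.card F :=
      hF ▸ (Nat.pow_le_pow_right (by norm_num) (show 3 ≤ 2 * n + 1 by omega) : 3 ^ 3 ≤ _)
    set r : PSL(2, F) := proj (s (w ^ 2)) with hr
    have hrodd : Odd (orderOf r) := by
      refine Odd.of_dvd_nat (Nat.odd_iff.2 (show (Fintype.card F - 1) / 2 % 2 = 1 by omega))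
        (orderOf_dvd_of_pow_eq_one ?_)
      show (DicksonPSL2.projHom (s (w ^ 2))) ^ _ = 1
      rw [← map_pow, ← map_pow, ← pow_mul, show 2 * ((Fintype.card F - 1) / 2) = orderOf w by omega,
        pow_orderOf_eq_one, map_one, map_one]
    have hsinv : ∀ v, i * s v = s v⁻¹ * i := fun v => Subtype.ext (by
      rw [Matrix.SpecialLinearGroup.coe_mul, Matrix.SpecialLinearGroup.coe_mul]
      exact hsi v i.1 hanti')
    have hrz : z0 * r * z0⁻¹ = r⁻¹ := by
      rw [← hiz, hr, ← DicksonPSL2.proj_inv, ← DicksonPSL2.proj_inv, ← DicksonPSL2.proj_mul,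
        ← DicksonPSL2.proj_mul, hsinv, mul_inv_cancel_right, map_inv]
    have hr1 : r ≠ 1 := fun e => by
      have h4 : s (w ^ 2) = s (w ^ 2)⁻¹ := by
        apply mul_right_cancel (b := i)
        rw [← hsinv]
        rcases (SL2Trace.proj_eq_one_iff _).1 e with e' | e' <;> rw [e'] <;> simp
      have h5 : w ^ 4 = 1 := hsinj _ (by
        rw [show w ^ 4 = w ^ 2 * w ^ 2 by rw [← pow_add], map_mul]
        conv_lhs => arg 2; rw [h4, map_inv]
        rw [mul_inv_cancel])
      have := Nat.le_of_dvd (by norm_num) (hw ▸ orderOf_dvd_of_pow_eq_one h5)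
      omega
    have hra : φ a r = r := by
      rw [hg, hr]
      show proj (AutPSL.conjSL g (s (w ^ 2))) = _
      congr 1
      apply Subtype.ext
      rw [AutPSL.conjSL_coe, hsM, mul_assoc, Units.mul_inv, mul_one]
    -- the element `l`
    obtain ⟨l, hl, hlodd, hlo⟩ := PSL.exists_order_quarter hq hzz hz01
    have hzt := PSL.isTor_involution hq hzz hz01
    have hla : φ a l = l⁻¹ := by
      obtain ⟨L, rfl⟩ := proj_surjective l
      rw [← hiz, DicksonPSL2.proj_mem_torus_iff] at hl
      have hl' : i.1 * L.1 = L.1 * i.1 := by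
        rw [← Matrix.SpecialLinearGroup.coe_mul, ← Matrix.SpecialLinearGroup.coe_mul, hl]
      obtain ⟨x, y, hxy⟩ := Linear.exists_coord hnsc hl'
      have hd := L.2
      rw [hxy, SL2Tori.det_combination, hit] at hd
      have hinv : (L⁻¹ : SL(2, F)).1 = x • 1 - y • i.1 := by
        have htL : SL2Tori.tr L = x + x := by
          rw [SL2Tori.tr, hxy, Matrix.trace_fin_two]
          simp [hi11, sub_eq_add_neg]
          ring
        rw [SL2Tori.coe_inv_eq, htL, hxy]
        have hii : i.1 * i.1 = -1 := by simpa using congrArg Subtype.val hi2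
        ext p q
        fin_cases p <;> fin_cases q <;>
          simp [hi11, sub_eq_add_neg]
      rw [hg]
      show proj (AutPSL.conjSL g L) = (proj L)⁻¹
      rw [← DicksonPSL2.proj_inv]
      congr 1
      apply Subtype.ext
      rw [AutPSL.conjSL_coe, hinv, hxy, mul_add, add_mul, mul_smul_comm, mul_smul_comm, mul_one,
        smul_mul_assoc, smul_mul_assoc, Units.mul_inv, hanti, neg_mul, mul_assoc, Units.mul_inv,
        mul_one, smul_neg, sub_eq_add_neg]
    have hall : ∀ x : PSL(2, F), (φ a x = x ∨ φ a x = x⁻¹) →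
        (z0 * x * z0⁻¹ = x ∨ z0 * x * z0⁻¹ = x⁻¹) → ∀ b ∈ A, φ b x = x ∨ φ b x = x⁻¹ := by
      intro x hxa hxz b hb
      rcases hA4 b hb with rfl | rfl | rfl | rfl
      · left; simp
      · rw [hconj]; exact hxz
      · exact hxa
      · rw [map_mul φ, MulAut.mul_apply, hconj]
        rcases hxz with e | e <;> rw [e] <;> rcases hxa with e' | e'
        · exact Or.inl e'
        · exact Or.inr e'
        · right; rw [map_inv, e']
        · left; rw [map_inv, e', inv_inv]
    refine PSL.eq_top hn hF hfree M hzz hz01 hl hlo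
      (hkey l hlodd (hall l (Or.inr hla) (Or.inl ?_)) ⟨a, ha, hla⟩)
      (hkey r hrodd (hall r (Or.inl hra) (Or.inr hrz)) ⟨ι z0, hz0, by rw [hconj]; exact hrz⟩)
      hrodd hr1 hrz
    rw [torus_comm hzt (self_mem_torus z0) hl, mul_inv_cancel_right]

end CfsgLib.LocalEven.OffenderBound.Config
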