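import Cfsg.Agent.LocalEven.OffenderBound.Series
import Cfsg.Agent.CharTwoW.QuadSum

/-!
The final configuration in Glauberman's argument: a quadratic offender `A` containing an involution
that inverts an element `s` whose nontrivial modules are large compared with `|A : A ∩ O₂|`, while
the elementary abelian subgroups of `O₂` move more than their order to the `3/2`.
-/

set_option autoImplicit false

universe u

namespace CfsgLib.LocalEven.OffenderBound

open Cfsg Subgroup
open CfsgLib.NoOffender (fixV mem_fixV fixV_anti smulSub stabS smul_mem_iff_of_mem_stabS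
  inv_iff_le_stabS quotHom quotHom_mk)
open CfsgLib.MinNormal (conj_mem_of_le_normalizer le_normalizer_of_conj_mem)

variable {X V : Type u} [Group X] [AddCommGroup V] [DistribMulAction X V] [FaithfulSMul X V]
  [Finite X] [Finite V]

omit [Finite V] in
/-- In a group of exponent two every element is its own negative. -/
theorem neg_eq_self (hV : ∀ v : V, v + v = 0) (v : V) : -v = v := neg_eq_of_add_eq_zero_left (hV v)

/-- The elements of `P` that fix `D` and move everything into `D`. -/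
def stabPair (P : Subgroup X) (D : AddSubgroup V) : Subgroup X where
  carrier := {p | p ∈ P ∧ (∀ d ∈ D, p • d = d) ∧ ∀ v : V, p • v - v ∈ D}
  one_mem' := ⟨one_mem P, fun d _ => one_smul X d, fun v => by rw [one_smul, sub_self]; exact zero_mem D⟩
  mul_mem' := by
    rintro p q ⟨hp, hpd, hpv⟩ ⟨hq, hqd, hqv⟩
    refine ⟨mul_mem hp hq, fun d hd => by rw [mul_smul, hqd d hd, hpd d hd], fun v => ?_⟩
    rw [mul_smul, show p • q • v - v = (p • (q • v) - q • v) + (q • v - v) by abel]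
    exact add_mem (hpv _) (hqv v)
  inv_mem' := by
    rintro p ⟨hp, hpd, hpv⟩
    refine ⟨inv_mem hp, fun d hd => inv_smul_eq_iff.2 (hpd d hd).symm, fun v => ?_⟩
    have := neg_mem (hpv (p⁻¹ • v))
    rwa [smul_inv_smul, neg_sub] at this

omit [FaithfulSMul X V] [Finite X] [Finite V] in
theorem mem_stabPair {P : Subgroup X} {D : AddSubgroup V} {p : X} :
    p ∈ stabPair P D ↔ p ∈ P ∧ (∀ d ∈ D, p • d = d) ∧ ∀ v : V, p • v - v ∈ D := Iff.rfl

omit [Finite X] [Finite V] in
theorem stabPair_elab (hV : ∀ v : V, v + v = 0) (P : Subgroup X) (D : AddSubgroup V) :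
    IsElementaryAbelian 2 (stabPair P D) := by
  have key : ∀ p ∈ stabPair P D, ∀ q ∈ stabPair P D, ∀ v : V,
      (p * q) • v = v + (p • v - v) + (q • v - v) := by
    rintro p ⟨-, hpd, hpv⟩ q ⟨-, hqd, hqv⟩ v
    rw [mul_smul]
    conv_lhs => rw [show q • v = v + (q • v - v) by abel, smul_add, hpd _ (hqv v)]
    abel
  refine ⟨⟨⟨fun p q => Subtype.ext (eq_of_smul_eq_smul (α := V) fun v => ?_)⟩⟩, fun p hp => ?_⟩
  · rw [Subgroup.coe_mul, Subgroup.coe_mul, key _ p.2 _ q.2, key _ q.2 _ p.2]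
    abel
  · refine eq_of_smul_eq_smul (α := V) fun v => ?_
    rw [pow_two, key _ hp _ hp, one_smul, add_assoc, hV, add_zero]

/-- An element of prime order `r ≠ 2` centralises the `2`-groups it normalises that are too small
for a nontrivial module. -/
theorem commute_of_small {F0 : Subgroup X} (hF : IsPGroup 2 F0) {s : X} {r d : ℕ} (hr : r.Prime)
    (hr2 : r ≠ 2) (hs : orderOf s = r) (hdet : ∀ j, r ∣ 2 ^ j - 1 → d ∣ j)
    (hn : ∀ f ∈ F0, s * f * s⁻¹ ∈ F0) (hsmall : Nat.card F0 < 2 ^ d) {f : X} (hf : f ∈ F0) :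
    s * f = f * s := by
  classical
  have := Fact.mk hr
  set Z := zpowers s with hZ
  have hZn : Z ≤ normalizer (F0 : Set X) := zpowers_le.2 (by
    refine DicksonPSL2.conjS_eq_self_iff.1 (eq_of_le_of_card_ge ?_ (DicksonPSL2.card_conjS s F0).ge)
    rintro _ ⟨g, hg, rfl⟩
    exact hn g hg)
  let act : MulAction Z F0 :=
    { smul := fun z g => ⟨(z : X) * g * (z : X)⁻¹, conj_mem_of_le_normalizer hZn z.2 g.2⟩
      one_smul := fun g => Subtype.ext (show (1 : X) * g * 1⁻¹ = g by simp)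
      mul_smul := fun y z g => Subtype.ext (show ((y * z : Z) : X) * g * ((y * z : Z) : X)⁻¹ =
        (y : X) * ((z : X) * g * (z : X)⁻¹) * (y : X)⁻¹ by simp [mul_assoc]) }
  have hp : IsPGroup r Z := IsPGroup.of_card (n := 1) (by rw [Nat.card_zpowers, hs, pow_one])
  have hmod := hp.card_modEq_card_fixedPoints F0
  set K := F0 ⊓ centralizer ({s} : Set X) with hK
  have hfix : Nat.card (MulAction.fixedPoints Z F0) = Nat.card K := by
    refine Nat.card_congr
      { toFun := fun g => ⟨((g : F0) : X), mem_inf.2 ⟨(g : F0).2,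
          mem_centralizer_singleton_iff.2 ((mul_inv_eq_iff_eq_mul.1
            (congrArg Subtype.val (g.2 ⟨s, mem_zpowers s⟩))).symm)⟩⟩
        invFun := fun g => ⟨⟨g, g.2.1⟩, fun z => Subtype.ext ?_⟩
        left_inv := fun g => rfl
        right_inv := fun g => rfl }
    show (z : X) * g * (z : X)⁻¹ = g
    obtain ⟨k, hk⟩ := z.2
    rw [← hk, mul_inv_eq_iff_eq_mul]
    exact (Commute.zpow_left (mem_centralizer_singleton_iff.1 g.2.2 : (g : X) * s = s * g).symm k).eq
  rw [hfix] at hmod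
  obtain ⟨l, hl⟩ := IsPGroup.iff_card.1 hF
  obtain ⟨j, hj⟩ := IsPGroup.iff_card.1 (hF.to_le (inf_le_left : K ≤ F0))
  have hjl : j ≤ l :=
    (Nat.pow_le_pow_iff_right (by norm_num)).1 (hl ▸ hj ▸ card_le_of_le (inf_le_left : K ≤ F0))
  rw [hl, hj] at hmod
  have hd := (Nat.modEq_iff_dvd' (Nat.pow_le_pow_right two_pos hjl)).1 hmod.symm
  rw [show l = (l - j) + j by omega, pow_add, ← Nat.sub_one_mul] at hd
  have h1 := hdet _ ((Nat.Coprime.pow_right j
    ((Nat.coprime_primes hr Nat.prime_two).2 hr2)).dvd_of_dvd_mul_right hd)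
  have hld : l < d := (Nat.pow_lt_pow_iff_right (by norm_num)).1 (hl ▸ hsmall)
  have hlj : l - j = 0 := by
    by_contra hne
    have := Nat.le_of_dvd (Nat.pos_of_ne_zero hne) h1
    omega
  have hKF : K = F0 := eq_of_le_of_card_ge inf_le_left (by rw [hl, hj]; exact le_of_eq (by congr 1; omega))
  have hfK : f ∈ K := hKF.ge hf
  exact (mem_centralizer_singleton_iff.1 hfK.2).symm

set_option maxHeartbeats 1600000 in
/-- **The quadratic configuration does not exist.** -/
theorem quad_offender_false (hV : ∀ v : V, v + v = 0) {P : Subgroup X} [P.Normal]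
    (hP : IsPGroup 2 P)
    (hPb : ∀ B ≤ P, IsElementaryAbelian 2 B → B ≠ ⊥ →
      Nat.card B ^ 3 * Nat.card (fixV B : AddSubgroup V) ^ 2 < Nat.card V ^ 2)
    {A : Subgroup X} (hA : IsElementaryAbelian 2 A)
    (hquad : ∀ a ∈ A, ∀ v : V, a • v - v ∈ (fixV A : AddSubgroup V))
    (hoff : Nat.card V ≤ Nat.card A * Nat.card (fixV A : AddSubgroup V))
    {x s : X} (hx : x ∈ A) (hxs : x * s * x⁻¹ = s⁻¹) {r k : ℕ} (hr : r.Prime) (hr2 : r ≠ 2)
    (hs : orderOf s = r) (hk : 0 < k)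
    (hdet0 : (∀ j, r ∣ 2 ^ j - 1 → 4 * k ∣ j) ∨ k = 1 ∧ r ≠ 3)
    (he : Nat.card A ≤ 2 ^ k * Nat.card ↥(A ⊓ P)) : False := by
  classical
  have := Fact.mk hr
  have hneg := neg_eq_self hV
  have hsodd : Odd (orderOf s) := hs ▸ hr.odd_of_ne_two hr2
  set C : AddSubgroup V := fixV A with hC
  set C0 : AddSubgroup V := fixV (zpowers s) with hC0
  have hmem0 : ∀ v : V, v ∈ C0 ↔ s • v = v := by
    intro v
    refine ⟨fun h => h s (mem_zpowers s), fun h z hz => ?_⟩
    exact (zpowers_le.2 (MulAction.mem_stabilizer_iff.2 h) : zpowers s ≤ MulAction.stabilizer X v) hz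
  set ψ : V →+ V := DistribSMul.toAddMonoidHom V s - AddMonoidHom.id V with hψ
  have hψv : ∀ v, ψ v = s • v - v := fun v => rfl
  set W := ψ.range with hW
  have hker : ψ.ker = C0 := by
    ext v
    rw [AddMonoidHom.mem_ker, hψv, sub_eq_zero, hmem0]
  have hWC0 : W ⊓ C0 = ⊥ := by
    rw [eq_bot_iff]
    rintro z ⟨⟨y, rfl⟩, hz⟩
    rw [hψv] at hz ⊢
    exact AddSubgroup.mem_bot.2
      (smul_eq_of_odd hsodd hV (v := y) (by abel) ((hmem0 _).1 hz))
  have hcardV : Nat.card W * Nat.card C0 = Nat.card V := by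
    rw [← hker, hW, ← AddSubgroup.index_ker, mul_comm, AddSubgroup.card_mul_index]
  have htop : W ⊔ C0 = ⊤ := by
    refine AddSubgroup.eq_top_of_card_eq _ ?_
    have := NoOffender.card_sup_mul_card_inf W C0
    rw [hWC0, AddSubgroup.card_bot, mul_one, hcardV] at this
    exact this
  have hsplit : ∀ v : V, ∃ w ∈ W, ∃ c ∈ C0, w + c = v := fun v =>
    AddSubgroup.mem_sup.1 (htop ▸ AddSubgroup.mem_top v)
  have hsW : ∀ w ∈ W, s • w ∈ W := by
    rintro _ ⟨y, rfl⟩
    exact ⟨s • y, by rw [hψv, hψv, smul_sub]⟩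
  have hsW' : ∀ w ∈ W, s⁻¹ • w ∈ W := by
    rintro _ ⟨y, rfl⟩
    refine ⟨s⁻¹ • y, ?_⟩
    rw [hψv, hψv, smul_sub, smul_inv_smul, inv_smul_smul]
  -- the involution
  have hxx : ∀ v : V, x • x • v = v := fun v => by
    rw [← mul_smul, ← pow_two, hA.2 x hx, one_smul]
  have hxsv : ∀ v : V, x • s • v = s⁻¹ • x • v := fun v => by
    rw [← mul_smul, ← mul_smul, ← hxs, inv_mul_cancel_right]
  have hxC0 : ∀ c ∈ C0, x • c ∈ C0 := fun c hc => (hmem0 _).2 (by
    have := hxsv c
    rw [(hmem0 c).1 hc] at this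
    conv_lhs => rw [this, smul_inv_smul])
  have hxW : ∀ w ∈ W, x • w ∈ W := by
    rintro _ ⟨y, rfl⟩
    refine ⟨-(s⁻¹ • x • y), ?_⟩
    rw [hψv, hψv, smul_sub, hxsv, smul_neg, smul_inv_smul]
    abel
  have hxfix : ∀ c ∈ C, x • c = c := fun c hc => hc x hx
  -- half of `W` is fixed by `x`, and by all of `A`
  set W1 : AddSubgroup V := W ⊓ fixV (zpowers x) with hW1
  have hmem1 : ∀ v, v ∈ W1 ↔ v ∈ W ∧ x • v = v := fun v => by
    refine ⟨fun h => ⟨h.1, h.2 x (mem_zpowers x)⟩, fun h => AddSubgroup.mem_inf.2 ⟨h.1, ?_⟩⟩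
    exact fun z hz =>
      (zpowers_le.2 (MulAction.mem_stabilizer_iff.2 h.2) : zpowers x ≤ MulAction.stabilizer X v) hz
  have hW1sq : Nat.card W1 * Nat.card W1 ≤ Nat.card W := by
    set W2 := W1.map (DistribSMul.toAddMonoidHom V s) with hW2
    have hi : W1 ⊓ W2 = ⊥ := by
      rw [eq_bot_iff]
      rintro z ⟨hz, ⟨u, hu, rfl⟩⟩
      rw [DistribSMul.toAddMonoidHom_apply] at hz ⊢
      have h1 := ((hmem1 _).1 hz).2
      rw [hxsv, ((hmem1 u).1 hu).2] at h1
      have h2 : s • s • u = u := by rw [← h1, smul_inv_smul]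
      obtain ⟨j, hj⟩ := hsodd
      have h2j : ∀ i : ℕ, s ^ (2 * i) • u = u := by
        intro i
        induction i with
        | zero => simp
        | succ i ih =>
          rw [show 2 * (i + 1) = 2 * i + 1 + 1 by ring, pow_succ, pow_succ, mul_smul, mul_smul, h2, ih]
      have h3 : s • u = u := by
        have := h2j (j + 1)
        rwa [show 2 * (j + 1) = (2 * j + 1) + 1 by ring, ← hj, pow_succ, pow_orderOf_eq_one,
          one_mul] at this
      have h4 : u ∈ W ⊓ C0 := ⟨((hmem1 u).1 hu).1, (hmem0 u).2 h3⟩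
      rw [hWC0, AddSubgroup.mem_bot] at h4
      rw [h4, smul_zero]
      exact zero_mem _
    have h2 : Nat.card W2 = Nat.card W1 :=
      (Nat.card_congr (W1.equivMapOfInjective _ (MulAction.injective s)).toEquiv).symm
    have h3 := NoOffender.card_sup_mul_card_inf W1 W2
    rw [hi, AddSubgroup.card_bot, mul_one, h2] at h3
    rw [← h3]
    refine AddSubgroup.card_le_of_le (sup_le inf_le_left ?_)
    rintro _ ⟨u, hu, rfl⟩
    exact hsW u hu.1
  set ξ : W →+ V := (DistribSMul.toAddMonoidHom V x - AddMonoidHom.id V).comp W.subtype with hξ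
  have hξv : ∀ w : W, ξ w = x • (w : V) - w := fun w => rfl
  have hξle : ξ.range ≤ W ⊓ C := by
    rintro _ ⟨w, rfl⟩
    rw [hξv]
    exact AddSubgroup.mem_inf.2 ⟨sub_mem (hxW _ w.2) w.2, hquad x hx _⟩
  have hWC_le : W ⊓ C ≤ W1 := fun z hz => (hmem1 z).2 ⟨hz.1, hxfix z hz.2⟩
  have hξker : Nat.card ξ.ker = Nat.card W1 := by
    refine Nat.card_congr
      { toFun := fun w => ⟨((w : W) : V), (hmem1 _).2 ⟨(w : W).2, sub_eq_zero.1 w.2⟩⟩
        invFun := fun w => ⟨⟨w, w.2.1⟩, sub_eq_zero.2 ((hmem1 _).1 w.2).2⟩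
        left_inv := fun w => rfl
        right_inv := fun w => rfl }
  have hξcard : Nat.card ξ.range * Nat.card W1 = Nat.card W := by
    rw [← hξker, ← AddSubgroup.index_ker, mul_comm, AddSubgroup.card_mul_index]
  have hW1pos : 0 < Nat.card W1 := Nat.card_pos
  have hrange : Nat.card W1 ≤ Nat.card ξ.range :=
    Nat.le_of_mul_le_mul_right (hξcard.symm ▸ hW1sq) hW1pos
  have hξeq : ξ.range = W1 := AddSubgroup.eq_of_le_of_card_ge (hξle.trans hWC_le) hrange
  have hWC : W ⊓ C = W1 := le_antisymm hWC_le (hξeq ▸ hξle)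
  have hWsq : Nat.card W1 * Nat.card W1 = Nat.card W := by rw [← hξcard, hξeq]
  -- `C` splits
  set D := C ⊓ C0 with hD
  have hsD : ∀ d ∈ D, s • d = d := fun d hd => (hmem0 d).1 hd.2
  have hCsplit : C = W1 ⊔ D := by
    refine le_antisymm (fun c hc => ?_) (sup_le (hWC ▸ inf_le_right) inf_le_left)
    obtain ⟨w, hw, c0, hc0, e⟩ := hsplit c
    have h1 : x • w - w = -(x • c0 - c0) := by
      rw [eq_neg_iff_add_eq_zero]
      calc x • w - w + (x • c0 - c0) = x • (w + c0) - (w + c0) := by rw [smul_add]; abel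
        _ = 0 := by rw [e, hxfix c hc, sub_self]
    have h2 : x • w - w ∈ W ⊓ C0 :=
      AddSubgroup.mem_inf.2 ⟨sub_mem (hxW w hw) hw, h1 ▸ neg_mem (sub_mem (hxC0 c0 hc0) hc0)⟩
    rw [hWC0, AddSubgroup.mem_bot, sub_eq_zero] at h2
    have hw1 : w ∈ W1 := (hmem1 w).2 ⟨hw, h2⟩
    refine AddSubgroup.mem_sup.2 ⟨w, hw1, c0, AddSubgroup.mem_inf.2 ⟨?_, hc0⟩, e⟩
    rw [show c0 = c - w by rw [← e]; abel]
    exact sub_mem hc (hWC.ge hw1).2
  have hcardC : Nat.card C = Nat.card W1 * Nat.card D := by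
    have h := NoOffender.card_sup_mul_card_inf W1 D
    rw [← hCsplit, show W1 ⊓ D = ⊥ from le_bot_iff.1 (fun z hz =>
      hWC0.le ⟨hz.1.1, hz.2.2⟩), AddSubgroup.card_bot, mul_one] at h
    exact h
  have hDC0 : Nat.card D ≤ Nat.card C0 := AddSubgroup.card_le_of_le inf_le_right
  -- sizes
  set B := A ⊓ P with hB
  have hBe : IsElementaryAbelian 2 B :=
    ⟨⟨⟨fun a b => Subtype.ext (congrArg Subtype.val
      (hA.1.is_comm.comm (⟨a, a.2.1⟩ : A) ⟨b, b.2.1⟩) :)⟩⟩, fun a ha => hA.2 a ha.1⟩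
  have hDpos : 0 < Nat.card D := Nat.card_pos
  have hoff' : Nat.card W1 * Nat.card C0 ≤ Nat.card A * Nat.card D := by
    refine Nat.le_of_mul_le_mul_left ?_ hW1pos
    rw [← mul_assoc, hWsq, hcardV, mul_left_comm, ← hcardC]
    exact hoff
  have hb : Nat.card B < 2 ^ (2 * k) := by
    by_cases hB1 : B = ⊥
    · rw [hB1, card_bot]
      exact Nat.one_lt_two_pow (by omega)
    have h := hPb B inf_le_right hBe hB1
    have h2 : Nat.card C ≤ Nat.card (fixV B : AddSubgroup V) :=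
      AddSubgroup.card_le_of_le (fixV_anti inf_le_left)
    have h3 : Nat.card B ^ 3 < Nat.card A ^ 2 := by
      refine Nat.lt_of_mul_lt_mul_right (a := Nat.card C ^ 2) ?_
      refine lt_of_le_of_lt (Nat.mul_le_mul_left _ (Nat.pow_le_pow_left h2 2)) (h.trans_le ?_)
      rw [← mul_pow]
      exact Nat.pow_le_pow_left hoff 2
    have h4 : Nat.card B ^ 3 < (2 ^ (2 * k)) * Nat.card B ^ 2 := by
      refine h3.trans_le (le_trans (Nat.pow_le_pow_left he 2) ?_)
      rw [mul_pow, ← pow_mul, mul_comm k 2]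
    exact Nat.lt_of_mul_lt_mul_right (a := Nat.card B ^ 2) (by rwa [← pow_succ'])
  have ha3 : Nat.card A < 2 ^ (3 * k) := by
    refine lt_of_le_of_lt he ?_
    rw [show 3 * k = k + 2 * k by ring, pow_add]
    exact Nat.mul_lt_mul_of_pos_left hb (pow_pos two_pos k)
  -- invariant subgroups meeting `C0` trivially
  have hexp0 : ∀ U : AddSubgroup V, (∀ v ∈ U, s • v ∈ U) → U ⊓ C0 = ⊥ →
      ∃ j, Nat.card U = 2 ^ j ∧ r ∣ 2 ^ j - 1 := by
    intro U hU hU0
    obtain ⟨j, hj⟩ := CharTwoW.exists_card_eq_two_pow (P := U) fun v => Subtype.ext (hV v)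
    have hst : zpowers s ≤ stabS U := by
      refine zpowers_le.2 ?_
      show smulSub s U = U
      refine AddSubgroup.eq_of_le_of_card_ge ?_ (NoOffender.card_smulSub s U).ge
      rintro z hz
      rw [NoOffender.mem_smulSub] at hz
      have := hU _ hz
      rwa [smul_inv_smul] at this
    let act : MulAction (zpowers s) U :=
      { smul := fun z v => ⟨(z : X) • (v : V), (smul_mem_iff_of_mem_stabS (hst z.2)).2 v.2⟩
        one_smul := fun v => Subtype.ext (one_smul X (v : V))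
        mul_smul := fun y z v => Subtype.ext (mul_smul (y : X) (z : X) (v : V)) }
    have hp : IsPGroup r (zpowers s) :=
      IsPGroup.of_card (n := 1) (by rw [Nat.card_zpowers, hs, pow_one])
    have hmod := hp.card_modEq_card_fixedPoints U
    have hfix : Nat.card (MulAction.fixedPoints (zpowers s) U) = 1 := by
      refine Nat.card_eq_one_iff_exists.2 ⟨⟨⟨0, zero_mem U⟩, fun z => Subtype.ext (smul_zero _)⟩,
        fun v => Subtype.ext (Subtype.ext ?_)⟩
      have h1 : ((v : U) : V) ∈ U ⊓ C0 :=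
        ⟨(v : U).2, fun z hz => congrArg Subtype.val (v.2 ⟨z, hz⟩)⟩
      rwa [hU0, AddSubgroup.mem_bot] at h1
    rw [hfix, hj] at hmod
    exact ⟨j, hj, (Nat.modEq_iff_dvd' Nat.one_le_two_pow).1 hmod.symm⟩
  have hsne : ∃ v : V, s • v ≠ v := by
    by_contra hall
    push Not at hall
    have : s = 1 := eq_of_smul_eq_smul (α := V) fun v => by rw [one_smul]; exact hall v
    rw [this, orderOf_one] at hs
    exact hr.ne_one hs.symm
  have hW1A : Nat.card W1 ≤ Nat.card A := by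
    refine Nat.le_of_mul_le_mul_right (hoff'.trans (Nat.mul_le_mul_left _ hDC0)) ?_
    exact Nat.card_pos
  have hdet : ∀ j, r ∣ 2 ^ j - 1 → 4 * k ∣ j := by
    rcases hdet0 with h | ⟨rfl, hr3⟩
    · exact h
    obtain ⟨j, hj, hrj⟩ := hexp0 W hsW hWC0
    obtain ⟨i, hi⟩ := CharTwoW.exists_card_eq_two_pow (P := W1) fun v => Subtype.ext (hV v)
    have hi2 : i < 3 := (Nat.pow_lt_pow_iff_right (by norm_num : 1 < 2)).1
      (lt_of_le_of_lt (hi ▸ hW1A) (by simpa using ha3))
    have hji : j = i + i := Nat.pow_right_injective le_rfl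
      (show 2 ^ j = 2 ^ (i + i) by rw [pow_add, ← hi, hWsq, hj])
    have hr5 : r = 5 := by
      subst hji
      interval_cases i
      · exfalso
        obtain ⟨v, hv⟩ := hsne
        rw [pow_zero, AddSubgroup.card_eq_one] at hj
        have : s • v - v ∈ W := ⟨v, rfl⟩
        rw [hj, AddSubgroup.mem_bot, sub_eq_zero] at this
        exact hv this
      · exact absurd ((Nat.prime_dvd_prime_iff_eq hr Nat.prime_three).1 (by simpa using hrj)) hr3
      · have h15 : r ∣ 3 * 5 := by simpa using hrj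
        rcases hr.dvd_mul.1 h15 with h | h
        · exact absurd ((Nat.prime_dvd_prime_iff_eq hr Nat.prime_three).1 h) hr3
        · exact (Nat.prime_dvd_prime_iff_eq hr (by norm_num)).1 h
    subst hr5
    intro n hn
    have h1 : 2 ^ n % 5 = 1 := by
      have := Nat.one_le_two_pow (n := n)
      omega
    rw [← Nat.div_add_mod n 4, pow_add, pow_mul, Nat.mul_mod, Nat.pow_mod] at h1
    norm_num at h1
    have : n % 4 < 4 := Nat.mod_lt _ (by norm_num)
    refine Nat.dvd_of_mod_eq_zero ?_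
    rw [Nat.mul_one]
    interval_cases h : n % 4 <;> omega
  have hexp : ∀ U : AddSubgroup V, (∀ v ∈ U, s • v ∈ U) → U ⊓ C0 = ⊥ →
      ∃ l, Nat.card U = 2 ^ (4 * k * l) := fun U hU hU0 => by
    obtain ⟨j, hj, hrj⟩ := hexp0 U hU hU0
    obtain ⟨l, rfl⟩ := hdet j hrj
    exact ⟨l, hj⟩
  obtain ⟨l, hl⟩ := hexp W hsW hWC0
  have hW1l : Nat.card W1 = 2 ^ (2 * k * l) :=
    Nat.mul_self_inj.1 (by rw [hWsq, hl, ← pow_add]; ring_nf)
  have hl1 : l = 1 := by
    have h1 := hW1A
    rw [hW1l] at h1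
    have h2 := (Nat.pow_lt_pow_iff_right (by norm_num : 1 < 2)).1 (lt_of_le_of_lt h1 ha3)
    rcases Nat.lt_or_ge l 2 with hlt | hge
    · rcases Nat.eq_zero_or_pos l with rfl | hpos
      · exfalso
        obtain ⟨v, hv⟩ := hsne
        rw [Nat.mul_zero, pow_zero, AddSubgroup.card_eq_one] at hl
        have : s • v - v ∈ W := ⟨v, rfl⟩
        rw [hl, AddSubgroup.mem_bot, sub_eq_zero] at this
        exact hv this
      · omega
    · have : 2 * k * 2 ≤ 2 * k * l := Nat.mul_le_mul_left _ hge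
      omega
  subst hl1
  rw [mul_one] at hl hW1l
  have hirr : ∀ U ≤ W, (∀ v ∈ U, s • v ∈ U) → U ≠ ⊥ → U = W := by
    intro U hUW hU hne
    obtain ⟨l', hl'⟩ := hexp U hU (le_bot_iff.1 ((inf_le_inf_right C0 hUW).trans hWC0.le))
    refine AddSubgroup.eq_of_le_of_card_ge hUW ?_
    rw [hl, hl']
    refine Nat.pow_le_pow_right two_pos ?_
    rcases Nat.eq_zero_or_pos l' with rfl | hpos
    · rw [Nat.mul_zero, pow_zero, AddSubgroup.card_eq_one] at hl'
      exact absurd hl' hne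
    · exact Nat.le_mul_of_pos_right _ hpos
  -- `P` moves `W` into `C0`
  let U : AddSubgroup V :=
    { carrier := {v | ∀ p ∈ P, s • p • v = p • v}
      zero_mem' := fun p _ => by rw [smul_zero, smul_zero]
      add_mem' := fun {a b} ha hb p hp => by rw [smul_add, smul_add, ha p hp, hb p hp]
      neg_mem' := fun {a} ha p hp => by rw [smul_neg, smul_neg, ha p hp] }
  have hUmem : ∀ v, v ∈ U ↔ ∀ p ∈ P, s • p • v = p • v := fun v => Iff.rfl
  have hUC0 : U ≤ C0 := fun v hv => (hmem0 v).2 (by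
    have := hv 1 (one_mem P); rwa [one_smul] at this)
  have hPU : ∀ p ∈ P, ∀ v ∈ U, p • v ∈ U := fun p hp v hv q hq => by
    rw [← mul_smul q]; exact hv _ (mul_mem hq hp)
  have hPW : ∀ p ∈ P, ∀ w ∈ W, p • w - w ∈ U := by
    have hstU : stabS (X := ↥P) U = ⊤ :=
      eq_top_iff.2 (inv_iff_le_stabS.1 fun p _ v hv => hPU p p.2 v hv)
    let : DistribMulAction ↥P (V ⧸ U) := DistribMulAction.compHom (V ⧸ U) (quotHom U hstU)
    have : Fact (Nat.Prime 2) := ⟨Nat.prime_two⟩
    obtain ⟨v0, hv0⟩ : ∃ v, v ∉ U := by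
      obtain ⟨v, hv⟩ := hsne
      exact ⟨v, fun h => hv ((hmem0 v).1 (hUC0 h))⟩
    have hq0 : (QuotientAddGroup.mk v0 : V ⧸ U) ≠ 0 := fun e =>
      hv0 ((QuotientAddGroup.eq_zero_iff v0).1 e)
    obtain ⟨z, hz, hz0⟩ := hP.exists_fixed_point_of_prime_dvd_card_of_fixed_point (V ⧸ U) (by
      have h2 : addOrderOf (QuotientAddGroup.mk v0 : V ⧸ U) = 2 := addOrderOf_eq_prime
        (by rw [two_nsmul, ← QuotientAddGroup.mk_add, hV]; rfl) hq0
      exact h2 ▸ addOrderOf_dvd_natCard _)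
      (show (0 : V ⧸ U) ∈ MulAction.fixedPoints ↥P (V ⧸ U) from fun p => smul_zero p)
    obtain ⟨z, rfl⟩ := QuotientAddGroup.mk_surjective z
    let Z : AddSubgroup V :=
      { carrier := {v | ∀ p ∈ P, p • v - v ∈ U}
        zero_mem' := fun p _ => by rw [smul_zero, sub_zero]; exact zero_mem U
        add_mem' := fun {a b} ha hb p hp => by
          rw [smul_add, show p • a + p • b - (a + b) = p • a - a + (p • b - b) by abel]
          exact add_mem (ha p hp) (hb p hp)
        neg_mem' := fun {a} ha p hp => by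
          rw [smul_neg, show -(p • a) - -a = -(p • a - a) by abel]
          exact neg_mem (ha p hp) }
    have hzZ : z ∈ Z := fun p hp => QuotientAddGroup.eq_iff_sub_mem.1 (hz ⟨p, hp⟩)
    have hzC0 : z ∉ C0 := fun h => hz0 (by
      rw [eq_comm, QuotientAddGroup.eq_zero_iff]
      intro p hp
      have h1 := (hmem0 _).1 (hUC0 (hzZ p hp))
      rw [smul_sub, (hmem0 z).1 h] at h1
      exact sub_left_injective h1)
    have hsU : ∀ u ∈ U, s • u ∈ U := fun u hu => by rw [(hmem0 u).1 (hUC0 hu)]; exact hu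
    have hsZ : ∀ v ∈ Z, s • v ∈ Z := fun v hv p hp => by
      have hq : s⁻¹ * p * s ∈ P := by simpa using ‹P.Normal›.conj_mem p hp s⁻¹
      have := hsU _ (hv _ hq)
      rwa [smul_sub, ← mul_smul, show s * (s⁻¹ * p * s) = p * s by group, mul_smul] at this
    have hWZ : W ⊓ Z = W := hirr _ inf_le_left
      (fun v hv => ⟨hsW v hv.1, hsZ v hv.2⟩) (fun e => hzC0 ((hmem0 z).2 (sub_eq_zero.1 (by
        have h1 : s • z - z ∈ W ⊓ Z := AddSubgroup.mem_inf.2 ⟨⟨z, rfl⟩, sub_mem (hsZ z hzZ) hzZ⟩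
        rwa [e, AddSubgroup.mem_bot] at h1))))
    exact fun p hp w hw => (hWZ.ge hw).2 p hp
  have hAW : ∀ b ∈ B, ∀ w ∈ W, b • w - w ∈ D := fun b hb w hw =>
    ⟨hquad b hb.1 w, hUC0 (hPW b hb.2 w hw)⟩
  have hfixD : ∀ b ∈ B, ∀ d ∈ D, b • d = d := fun b hb d hd => hd.1 b hb.1
  have hCle : C ≤ W ⊔ D := hCsplit ▸ sup_le_sup_right inf_le_left D
  -- the subgroup of `P` respecting the decomposition
  let Fs : Subgroup X :=
    { carrier := {p | p ∈ P ∧ (∀ d ∈ D, p • d = d) ∧ (∀ w ∈ W, p • w - w ∈ D) ∧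
        ∀ v : V, p • v - v ∈ W ⊔ D}
      one_mem' := ⟨one_mem P, fun d _ => one_smul X d,
        fun w _ => by rw [one_smul, sub_self]; exact zero_mem D,
        fun v => by rw [one_smul, sub_self]; exact zero_mem _⟩
      mul_mem' := by
        rintro p q ⟨hp, hpd, hpw, hpv⟩ ⟨hq, hqd, hqw, hqv⟩
        have hps : ∀ v ∈ W ⊔ D, p • v ∈ W ⊔ D := fun v hv => by
          rw [show p • v = (p • v - v) + v by abel]
          exact add_mem (hpv v) hv
        refine ⟨mul_mem hp hq, fun d hd => by rw [mul_smul, hqd d hd, hpd d hd],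
          fun w hw => ?_, fun v => ?_⟩
        · rw [mul_smul, show p • q • w - w = (p • (q • w - w)) + (p • w - w) by rw [smul_sub]; abel,
            hpd _ (hqw w hw)]
          exact add_mem (hqw w hw) (hpw w hw)
        · rw [mul_smul, show p • q • v - v = (p • (q • v - v)) + (p • v - v) by rw [smul_sub]; abel]
          exact add_mem (hps _ (hqv v)) (hpv v)
      inv_mem' := by
        rintro p ⟨hp, hpd, hpw, hpv⟩
        refine ⟨inv_mem hp, fun d hd => inv_smul_eq_iff.2 (hpd d hd).symm, fun w hw => ?_,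
          fun v => ?_⟩
        · rw [show p⁻¹ • w - w = -(p • w - w) from ?_]
          · exact neg_mem (hpw w hw)
          rw [sub_eq_iff_eq_add, inv_smul_eq_iff, smul_add, smul_neg, hpd _ (hpw w hw)]
          abel
        · have := neg_mem (hpv (p⁻¹ • v))
          rwa [smul_inv_smul, neg_sub] at this }
  have hFmem : ∀ p, p ∈ Fs ↔ p ∈ P ∧ (∀ d ∈ D, p • d = d) ∧ (∀ w ∈ W, p • w - w ∈ D) ∧
      ∀ v : V, p • v - v ∈ W ⊔ D := fun p => Iff.rfl
  have hBF : ∀ b ∈ B, b ∈ Fs := fun b hb =>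
    ⟨hb.2, hfixD b hb, hAW b hb, fun v => hCle (hquad b hb.1 v)⟩
  have hsFs : ∀ f ∈ Fs, s * f * s⁻¹ ∈ Fs := by
    intro f hf
    have hf' := (hFmem f).1 hf
    have hsinvD : ∀ d ∈ D, s⁻¹ • d = d := fun d hd => inv_smul_eq_iff.2 (hsD d hd).symm
    refine (hFmem _).2 ⟨‹P.Normal›.conj_mem f hf'.1 s, fun d hd => ?_, fun w hw => ?_, fun v => ?_⟩
    · rw [mul_smul, mul_smul, hsinvD d hd, hf'.2.1 d hd, hsD d hd]
    · rw [show (s * f * s⁻¹) • w - w = s • (f • (s⁻¹ • w) - s⁻¹ • w) by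
        rw [smul_sub, smul_inv_smul, mul_smul, mul_smul]]
      have h1 := hf'.2.2.1 _ (hsW' w hw)
      rw [hsD _ h1]
      exact h1
    · rw [show (s * f * s⁻¹) • v - v = s • (f • (s⁻¹ • v) - s⁻¹ • v) by
        rw [smul_sub, smul_inv_smul, mul_smul, mul_smul]]
      obtain ⟨w, hw, d, hd, e⟩ := AddSubgroup.mem_sup.1 (hf'.2.2.2 (s⁻¹ • v))
      rw [← e, smul_add, hsD d hd]
      exact AddSubgroup.add_mem_sup (hsW w hw) hd
  by_cases hphi : ∀ b ∈ B, ∀ c ∈ C0, b • c - c ∈ D
  · -- `B` commutes with `s`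
    set F0 := stabPair P D with hF0
    have hBF0 : ∀ b ∈ B, b ∈ F0 := fun b hb => by
      refine mem_stabPair.2 ⟨hb.2, hfixD b hb, fun v => ?_⟩
      obtain ⟨w, hw, c, hc, rfl⟩ := hsplit v
      rw [smul_add, show b • w + b • c - (w + c) = (b • w - w) + (b • c - c) by abel]
      exact add_mem (hAW b hb w hw) (hphi b hb c hc)
    have hF0small : Nat.card F0 < 2 ^ (4 * k) := by
      by_cases h1 : F0 = ⊥
      · rw [h1, card_bot]; exact Nat.one_lt_two_pow (by omega)
      have h2 := hPb F0 (fun p hp => hp.1) (stabPair_elab hV P D) h1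
      have h3 : Nat.card D ≤ Nat.card (fixV F0 : AddSubgroup V) :=
        AddSubgroup.card_le_of_le fun d hd p hp => hp.2.1 d hd
      have h4 : Nat.card C0 < 2 ^ k * Nat.card D := by
        refine Nat.lt_of_mul_lt_mul_left (a := Nat.card W1) ?_
        refine lt_of_le_of_lt hoff' ?_
        rw [hW1l, ← mul_assoc, ← pow_add, show 2 * k + k = 3 * k by ring]
        exact Nat.mul_lt_mul_of_pos_right ha3 hDpos
      have h5 : Nat.card F0 ^ 3 < (2 ^ (5 * k)) ^ 2 := by
        refine Nat.lt_of_mul_lt_mul_right (a := Nat.card D ^ 2) ?_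
        refine lt_of_le_of_lt (Nat.mul_le_mul_left _ (Nat.pow_le_pow_left h3 2)) (h2.trans_le ?_)
        rw [← hcardV, hl, ← mul_pow]
        refine Nat.pow_le_pow_left ?_ 2
        rw [show 5 * k = 4 * k + k by ring, pow_add, mul_assoc]
        exact Nat.mul_le_mul_left _ h4.le
      by_contra hge
      have h6 : (2 ^ (4 * k)) ^ 3 ≤ Nat.card F0 ^ 3 := Nat.pow_le_pow_left (Nat.le_of_not_lt hge) 3
      have h7 := h6.trans_lt h5
      rw [← pow_mul, ← pow_mul] at h7
      have := (Nat.pow_lt_pow_iff_right (by norm_num : 1 < 2)).1 h7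
      omega
    have hsF0 : ∀ f ∈ F0, s * f * s⁻¹ ∈ F0 := by
      intro f hf
      obtain ⟨hfP, hfd, hfv⟩ := mem_stabPair.1 hf
      refine mem_stabPair.2 ⟨‹P.Normal›.conj_mem f hfP s, fun d hd => ?_, fun v => ?_⟩
      · rw [mul_smul, mul_smul, inv_smul_eq_iff.2 (hsD d hd).symm, hfd d hd, hsD d hd]
      · rw [show (s * f * s⁻¹) • v - v = s • (f • (s⁻¹ • v) - s⁻¹ • v) by
          rw [smul_sub, smul_inv_smul, mul_smul, mul_smul], hsD _ (hfv _)]
        exact hfv _
    have hcomm : ∀ b ∈ B, s * b = b * s := fun b hb => commute_of_small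
      (hP.to_le fun p hp => (mem_stabPair.1 hp).1) hr hr2 hs hdet hsF0 hF0small (hBF0 b hb)
    have hBW : ∀ b ∈ B, ∀ w ∈ W, b • w = w := by
      intro b hb w hw
      obtain ⟨y, rfl⟩ := hw
      have h1 : b • ψ y - ψ y ∈ W ⊓ C0 := by
        refine AddSubgroup.mem_inf.2 ⟨sub_mem ⟨b • y, ?_⟩ ⟨y, rfl⟩, hUC0 (hPW b hb.2 _ ⟨y, rfl⟩)⟩
        rw [hψv, hψv, smul_sub, ← mul_smul, hcomm b hb, mul_smul]
      rwa [hWC0, AddSubgroup.mem_bot, sub_eq_zero] at h1
    have hfixB : Nat.card W * Nat.card D ≤ Nat.card (fixV B : AddSubgroup V) := by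
      have h := NoOffender.card_sup_mul_card_inf W D
      rw [show W ⊓ D = ⊥ from le_bot_iff.1 (fun z hz => hWC0.le ⟨hz.1, hz.2.2⟩),
        AddSubgroup.card_bot, mul_one] at h
      rw [← h]
      exact AddSubgroup.card_le_of_le (sup_le (fun w hw b hb => hBW b hb w hw)
        fun d hd b hb => hfixD b hb d hd)
    have h2k : 2 ^ k * Nat.card C0 ≤ Nat.card B * Nat.card D := by
      refine Nat.le_of_mul_le_mul_left ?_ (pow_pos two_pos k)
      rw [← mul_assoc, ← pow_add, ← two_mul, ← hW1l, ← mul_assoc]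
      exact hoff'.trans (Nat.mul_le_mul_right _ he)
    by_cases hB1 : B = ⊥
    · rw [hB1, card_bot, one_mul] at h2k
      have h1 : 2 * Nat.card C0 ≤ 2 ^ k * Nat.card C0 :=
        Nat.mul_le_mul_right _ (Nat.le_self_pow hk.ne' 2)
      have : 0 < Nat.card C0 := Nat.card_pos
      omega
    have h := hPb B inf_le_right hBe hB1
    have h1 : Nat.card B ^ 3 * Nat.card D ^ 2 < Nat.card C0 ^ 2 := by
      refine Nat.lt_of_mul_lt_mul_left (a := Nat.card W ^ 2) ?_
      rw [← mul_pow, hcardV, mul_left_comm, ← mul_pow]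
      exact lt_of_le_of_lt (Nat.mul_le_mul_left _ (Nat.pow_le_pow_left hfixB 2)) h
    have h2 : Nat.card C0 ^ 2 ≤ Nat.card B ^ 3 * Nat.card D ^ 2 := by
      refine le_trans (Nat.pow_le_pow_left (le_trans (Nat.le_mul_of_pos_left _
        (pow_pos two_pos k)) h2k) 2) ?_
      rw [mul_pow]
      exact Nat.mul_le_mul_right _ (Nat.pow_le_pow_right Nat.card_pos (by norm_num))
    exact absurd h1 (not_lt.2 h2)
  -- the stabiliser of `C` and `V / C` is large
  push Not at hphi
  obtain ⟨b0, hb0, c, hc, hbc⟩ := hphi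
  let J : AddSubgroup V :=
    { carrier := {w | w ∈ W ∧ ∃ f ∈ Fs, f • c - c - w ∈ D}
      zero_mem' := ⟨zero_mem W, 1, one_mem Fs, by rw [one_smul, sub_self, sub_zero]; exact zero_mem D⟩
      add_mem' := by
        rintro w1 w2 ⟨hw1, f, hf, h1⟩ ⟨hw2, g, hg, h2⟩
        refine ⟨add_mem hw1 hw2, f * g, mul_mem hf hg, ?_⟩
        have hf' := (hFmem f).1 hf
        have h3 : f • (g • c - c - w2) = g • c - c - w2 := hf'.2.1 _ h2
        rw [mul_smul, show f • g • c - c - (w1 + w2) =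
          f • (g • c - c - w2) + (f • w2 - w2) + (f • c - c - w1) by
            rw [smul_sub, smul_sub]; abel, h3]
        exact add_mem (add_mem h2 (hf'.2.2.1 w2 hw2)) h1
      neg_mem' := fun {w} hw => by rw [hneg w]; exact hw }
  have hJ : J = W := by
    refine hirr J (fun w hw => hw.1) ?_ ?_
    · rintro w ⟨hw, f, hf, h1⟩
      refine ⟨hsW w hw, s * f * s⁻¹, hsFs f hf, ?_⟩
      have h3 := hsD _ h1
      rw [mul_smul, mul_smul, inv_smul_eq_iff.2 ((hmem0 c).1 hc).symm]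
      rw [smul_sub, smul_sub, (hmem0 c).1 hc] at h3
      rwa [h3]
    · intro e
      obtain ⟨w, hw, d, hd, hwd⟩ := AddSubgroup.mem_sup.1 (((hFmem b0).1 (hBF b0 hb0)).2.2.2 c)
      have h1 : w ∈ J := ⟨hw, b0, hBF b0 hb0, by rw [← hwd]; simpa using hd⟩
      rw [e, AddSubgroup.mem_bot] at h1
      exact hbc (by rw [← hwd, h1, zero_add]; exact hd)
  set St := stabPair P C with hSt
  have hkey : ∀ u ∈ W1, ∃ g ∈ St, g • c - c - u ∈ D := by
    intro u hu
    obtain ⟨⟨w1, hw1⟩, rfl⟩ := hξeq.ge hu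
    rw [hξv]
    simp only
    obtain ⟨-, f, hf, hfc⟩ := (hJ.ge hw1 : w1 ∈ J)
    have hf' := (hFmem f).1 hf
    have hg' := (hFmem f⁻¹).1 (inv_mem hf)
    have hxD : ∀ d ∈ D, x • d = d := fun d hd => hxfix d hd.1
    have hgW : ∀ w ∈ W, f • x • f⁻¹ • x • w - w ∈ D := by
      intro w hw
      set d1 := f⁻¹ • x • w - x • w with hd1
      have hd1D : d1 ∈ D := hg'.2.2.1 _ (hxW w hw)
      rw [show f⁻¹ • x • w = d1 + x • w by rw [hd1]; abel, smul_add, hxD _ hd1D, hxx, smul_add,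
        hf'.2.1 _ hd1D, add_sub_assoc]
      exact add_mem hd1D (hf'.2.2.1 w hw)
    have hgC0 : ∀ c' ∈ C0, ∀ w' ∈ W, f • c' - c' - w' ∈ D →
        f • x • f⁻¹ • x • c' - c' - (x • w' - w') ∈ D := by
      intro c' hc' w' hw' hfc'
      obtain ⟨w2, hw2, d2, hd2, e2⟩ := AddSubgroup.mem_sup.1 (hg'.2.2.2 c')
      have hw21 : w2 = w' := by
        have h1 : w2 + w' ∈ W ⊓ C0 := by
          refine AddSubgroup.mem_inf.2 ⟨add_mem hw2 hw', ?_⟩
          have h2 : f⁻¹ • c' = c' + w2 + d2 := by rw [add_assoc, e2]; abel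
          have h3 : f • (c' + w2 + d2) = c' := by rw [← h2, smul_inv_smul]
          have h4 : w2 + w' = -((f • c' - c' - w') + (f • w2 - w2) + d2) := by
            rw [smul_add, smul_add, hf'.2.1 d2 hd2] at h3
            rw [eq_neg_iff_add_eq_zero]
            calc w2 + w' + ((f • c' - c' - w') + (f • w2 - w2) + d2)
                = (f • c' + f • w2 + d2) - c' := by abel
              _ = 0 := by rw [h3, sub_self]
          rw [h4]
          exact neg_mem (add_mem (add_mem hfc' (hf'.2.2.1 w2 hw2)) hd2).2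
        rw [hWC0, AddSubgroup.mem_bot] at h1
        rw [eq_neg_of_add_eq_zero_left h1, hneg]
      subst hw21
      set d0 := x • c' - c' with hd0
      have hd0D : d0 ∈ D := AddSubgroup.mem_inf.2 ⟨hquad x hx c', sub_mem (hxC0 c' hc') hc'⟩
      have e3 : f • x • f⁻¹ • x • c' = f • c' + f • (x • w2) + d2 := by
        have hxc : x • c' = c' + d0 := by rw [hd0]; abel
        have hfc : f⁻¹ • c' = c' + w2 + d2 := by rw [add_assoc, e2]; abel
        rw [hxc, smul_add, hg'.2.1 d0 hd0D, hfc]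
        simp only [smul_add, hxD d2 hd2, hxD d0 hd0D, hxc, hf'.2.1 d0 hd0D, hf'.2.1 d2 hd2]
        rw [show f • c' + d0 + f • x • w2 + d2 + d0 =
          f • c' + f • x • w2 + d2 + (d0 + d0) by abel, hV, add_zero]
      rw [e3, show f • c' + f • (x • w2) + d2 - c' - (x • w2 - w2) =
        (f • c' - c' - w2) + (f • (x • w2) - x • w2) + d2 + (w2 + w2) by abel, hV, add_zero]
      exact add_mem (add_mem hfc' (hf'.2.2.1 _ (hxW w2 hw2))) hd2
    have hgv : ∀ v : V, f • x • f⁻¹ • x • v - v ∈ C := by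
      intro v
      obtain ⟨w, hw, c', hc', rfl⟩ := hsplit v
      obtain ⟨w', hw', d, hd, e⟩ := AddSubgroup.mem_sup.1 (hf'.2.2.2 c')
      simp only [smul_add]
      rw [show f • x • f⁻¹ • x • w + f • x • f⁻¹ • x • c' - (w + c') =
        (f • x • f⁻¹ • x • w - w) + (f • x • f⁻¹ • x • c' - c' - (x • w' - w')) + (x • w' - w')
        by abel]
      exact add_mem (add_mem (hgW w hw).1 (hgC0 c' hc' w' hw' (by rw [← e]; simpa using hd)).1)
        (hquad x hx w')
    have hgD : ∀ d ∈ D, f • x • f⁻¹ • x • d = d := fun d hd => by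
      rw [hxD d hd, hg'.2.1 d hd, hxD d hd, hf'.2.1 d hd]
    have hgW1 : ∀ w ∈ W1, f • x • f⁻¹ • x • w = w := by
      intro w hw
      obtain ⟨hwW, hwx⟩ := (hmem1 w).1 hw
      have hd := hg'.2.2.1 w hwW
      rw [hwx]
      have : x • f⁻¹ • w = f⁻¹ • w := by
        conv_lhs => rw [show f⁻¹ • w = (f⁻¹ • w - w) + w by abel]
        rw [smul_add, hxD _ hd, hwx]
        abel
      rw [this, smul_inv_smul]
    refine ⟨f * x * f⁻¹ * x, mem_stabPair.2 ⟨?_, ?_, ?_⟩, ?_⟩
    · have h1 := ‹P.Normal›.conj_mem _ hg'.1 x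
      have hxi : x⁻¹ = x := inv_eq_of_mul_eq_one_right (by rw [← pow_two, hA.2 x hx])
      rw [hxi] at h1
      rw [show f * x * f⁻¹ * x = f * (x * f⁻¹ * x) by group]
      exact mul_mem hf'.1 h1
    · intro d hd
      rw [hCsplit] at hd
      obtain ⟨w, hw, d', hd', rfl⟩ := AddSubgroup.mem_sup.1 hd
      simp only [mul_smul, smul_add, hgW1 w hw, hgD d' hd']
    · intro v
      simp only [mul_smul]
      exact hgv v
    · simp only [mul_smul]
      exact hgC0 c hc w1 hw1 hfc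
  choose g hg hgc using hkey
  have hinj : Function.Injective (fun u : W1 => (⟨g u u.2, hg u u.2⟩ : St)) := by
    intro u v e
    have h1 : (u : V) - v ∈ W ⊓ C0 := by
      refine AddSubgroup.mem_inf.2 ⟨sub_mem u.2.1 v.2.1, ?_⟩
      have e' : g u u.2 = g v v.2 := congrArg Subtype.val e
      have h2 := sub_mem (hgc v v.2) (hgc u u.2)
      rw [e', sub_sub_sub_cancel_left] at h2
      exact h2.2
    rw [hWC0, AddSubgroup.mem_bot, sub_eq_zero] at h1
    exact Subtype.ext h1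
  have hSt2k : 2 ^ (2 * k) ≤ Nat.card St := hW1l ▸ Nat.card_le_card_of_injective _ hinj
  have hStB : Nat.card B ≤ Nat.card St := card_le_of_le fun b hb =>
    mem_stabPair.2 ⟨hb.2, fun v hv => hv b hb.1, fun v => hquad b hb.1 v⟩
  have hSt1 : St ≠ ⊥ := fun e => by
    rw [e, card_bot] at hSt2k
    have := Nat.one_lt_two_pow (n := 2 * k) (by omega)
    omega
  have h1 := hPb St (fun p hp => hp.1) (stabPair_elab hV P C) hSt1
  have h2 : Nat.card C ≤ Nat.card (fixV St : AddSubgroup V) :=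
    AddSubgroup.card_le_of_le fun v hv p hp => hp.2.1 v hv
  have h3 : Nat.card St ^ 3 < Nat.card A ^ 2 := by
    refine Nat.lt_of_mul_lt_mul_right (a := Nat.card C ^ 2) ?_
    refine lt_of_le_of_lt (Nat.mul_le_mul_left _ (Nat.pow_le_pow_left h2 2)) (h1.trans_le ?_)
    rw [← mul_pow]
    exact Nat.pow_le_pow_left hoff 2
  have h4 : Nat.card A ^ 2 ≤ Nat.card St ^ 3 := by
    refine le_trans (Nat.pow_le_pow_left he 2) ?_
    rw [mul_pow, ← pow_mul, show Nat.card St ^ 3 = Nat.card St * Nat.card St ^ 2 by ring,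
      mul_comm k 2]
    exact Nat.mul_le_mul hSt2k (Nat.pow_le_pow_left hStB 2)
  exact absurd h3 (not_lt.2 h4)

end CfsgLib.LocalEven.OffenderBound
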