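import Cfsg.Agent.LocalEven.OffenderBound.CentralY
import Cfsg.Agent.NoOffender.Factor
import Cfsg.Agent.Solvable.Basic

/-!
The dual offender bound summed over a chief series inside a normal two-subgroup `P₂` of a group
generated by `P₂` and two elementary abelian subgroups.
-/

set_option autoImplicit false

universe u

namespace CfsgLib.LocalEven.OffenderBound

open Cfsg Subgroup
open scoped IsMulCommutative
open CfsgLib.NoOffender (conjAdd autGrp conjAdd_apply ker_autGrp rangeRestrict_smul)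
open CfsgLib.MinNormal (conj_mem_of_le_normalizer)

/-- One chief factor. -/
theorem card_sq_layer {Q : Type u} [Group Q] [Finite Q] (hG : GoodX Q) {P W1 W2 M J Jc A : Subgroup Q}
    [P.Normal] [M.Normal] (hP : IsPGroup 2 P) (hMP : M ≤ P) (hM1 : M ≠ ⊥)
    (hmin : ∀ K : Subgroup Q, K.Normal → K ≤ M → K = ⊥ ∨ K = M)
    (hgen : P ⊔ W1 ⊔ W2 = ⊤) (hA : IsElementaryAbelian 2 A) (hJM : J ≤ M) (hJcJ : Jc ≤ J)
    (hcomm : ∀ a ∈ A, ∀ x ∈ M, a * x * a⁻¹ * x⁻¹ ∈ J)
    (hJc1 : ∀ z ∈ Jc, ∀ w ∈ W1, w * z = z * w) (hJc2 : ∀ z ∈ Jc, ∀ w ∈ W2, w * z = z * w) :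
    Nat.card A ^ 2 * Nat.card Jc ≤
      Nat.card J * Nat.card ↥(A ⊓ centralizer (M : Set Q)) ^ 2 := by
  classical
  have : Fact (Nat.Prime 2) := ⟨Nat.prime_two⟩
  have hMp : IsPGroup 2 M := hP.to_le hMP
  have := hMp.isNilpotent
  have hMc : IsMulCommutative M := Solvable.isMulCommutative_of_minimal_normal hM1 hmin
  have hM2 : ∀ x ∈ M, x ^ 2 = 1 := by
    obtain ⟨q, hq, hqx⟩ := Solvable.exists_prime_pow_eq_one_of_minimal_normal hM1 hmin
    obtain ⟨x, hx, hx1⟩ := M.bot_or_exists_ne_one.resolve_left hM1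
    obtain ⟨k, hk⟩ := hMp ⟨x, hx⟩
    have h1 : orderOf x = q := by
      have := Fact.mk hq
      exact orderOf_eq_prime (hqx x hx) hx1
    have h2 : q ∣ 2 ^ k := h1 ▸ orderOf_dvd_of_pow_eq_one (congrArg Subtype.val hk)
    rwa [(Nat.prime_dvd_prime_iff_eq hq Nat.prime_two).1 (hq.dvd_of_dvd_pow h2)] at hqx
  let f := (conjAdd M).toHomUnits.rangeRestrict
  have hfs : Function.Surjective f := (conjAdd M).toHomUnits.rangeRestrict_surjective
  have hker : f.ker = centralizer (M : Set Q) := ker_autGrp M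
  have hV : ∀ v : Additive M, v + v = 0 := fun v => Additive.toMul.injective (Subtype.ext (by
    show ((v.toMul : M) : Q) * (v.toMul : M) = 1
    rw [← pow_two]
    exact hM2 _ (v.toMul : M).2))
  have hsm : ∀ (g : Q) (v : Additive M),
      (((f g • v).toMul : M) : Q) = g * (v.toMul : M) * g⁻¹ := fun g v => conjAdd_apply M g v
  -- `O₂` of the automizer
  have hO : pCore 2 (autGrp M) = ⊥ := by
    set K := (pCore 2 (autGrp M)).comap f with hK
    obtain ⟨x, hx, hx1⟩ := M.bot_or_exists_ne_one.resolve_left hM1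
    obtain ⟨z, hz, hz0⟩ := (PLocal.isPGroup_pCore 2 (autGrp M)).exists_fixed_point_of_prime_dvd_card_of_fixed_point
      (Additive M) (by
        have h2 : addOrderOf (Additive.ofMul (⟨x, hx⟩ : M)) = 2 := addOrderOf_eq_prime
          (by rw [two_nsmul]; exact hV _) fun e =>
            hx1 (congrArg (fun v : Additive M => ((v.toMul : M) : Q)) e :)
        exact h2 ▸ addOrderOf_dvd_natCard _)
      (show (0 : Additive M) ∈ MulAction.fixedPoints ↥(pCore 2 (autGrp M)) (Additive M) from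
        fun g => smul_zero g)
    set Fx := M ⊓ centralizer (K : Set Q) with hFx
    have hzF : ((z.toMul : M) : Q) ∈ Fx := by
      refine mem_inf.2 ⟨(z.toMul : M).2, mem_centralizer_iff.2 fun k hk => ?_⟩
      have h1 : f k • z = z := hz ⟨f k, hk⟩
      have h2 := hsm k z
      rw [h1] at h2
      exact mul_inv_eq_iff_eq_mul.1 h2.symm
    have hFM : Fx = M := (hmin Fx inferInstance inf_le_left).resolve_left fun e => hz0 (by
      rw [e, mem_bot, OneMemClass.coe_eq_one] at hzF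
      exact (Additive.toMul.injective (hzF.trans rfl : z.toMul = (0 : Additive M).toMul)).symm)
    have hKC : K ≤ centralizer (M : Set Q) := fun k hk => mem_centralizer_iff.2 fun m hm =>
      (mem_centralizer_iff.1 (hFM.ge hm).2 k hk).symm
    rw [eq_bot_iff]
    intro g hg
    obtain ⟨k, rfl⟩ := hfs g
    exact (MonoidHom.mem_ker (f := f)).1 (hker.symm ▸ hKC hg)
  have hPf : ∀ p ∈ P, ∀ x ∈ M, p * x = x * p := by
    intro p hp x hx
    have hn : (P.map f).Normal := (inferInstance : P.Normal).map f hfs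
    have h1 : P.map f ≤ (⊥ : Subgroup (autGrp M)) := hO ▸ PLocal.le_pCore (hP.map f)
    have h2 : p ∈ centralizer (M : Set Q) := hker ▸ mem_bot.1 (h1 ⟨p, hp, rfl⟩)
    exact (mem_centralizer_iff.1 h2 x hx).symm
  have hkey := card_sq_le_card_commutator (V := Additive M) hV (hG.of_surjective f hfs) hO (A.map f)
    (PLocal.isElementaryAbelian_map hA f)
  set I := AddSubgroup.closure
    {z : Additive M | ∃ a ∈ A.map f, ∃ v : Additive M, a • v - v = z} with hI
  have hIJ : ∀ i ∈ I, ((i.toMul : M) : Q) ∈ J := by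
    intro i hi
    induction hi using AddSubgroup.closure_induction with
    | mem z hz =>
      obtain ⟨_, ⟨a, ha, rfl⟩, v, rfl⟩ := hz
      rw [toMul_sub, Subgroup.coe_div, hsm, div_eq_mul_inv]
      exact hcomm a ha _ (v.toMul : M).2
    | zero => exact one_mem _
    | add x y _ _ hx hy => exact mul_mem hx hy
    | neg x _ hx => exact inv_mem hx
  have hIc : ∀ i ∈ I, ((i.toMul : M) : Q) ∈ Jc → i = 0 := by
    intro i hi hic
    set z : Q := ((i.toMul : M) : Q) with hz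
    have hzc : z ∈ M ⊓ center Q := by
      refine mem_inf.2 ⟨(i.toMul : M).2, mem_center_iff.2 fun g => ?_⟩
      have hle : P ⊔ W1 ⊔ W2 ≤ centralizer ({z} : Set Q) := sup_le (sup_le
        (fun p hp => mem_centralizer_singleton_iff.2 (hPf p hp z (i.toMul : M).2))
        fun w hw => mem_centralizer_singleton_iff.2 (hJc1 z hic w hw))
        fun w hw => mem_centralizer_singleton_iff.2 (hJc2 z hic w hw)
      exact mem_centralizer_singleton_iff.1 (hle (hgen.ge (mem_top g)))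
    rcases hmin _ (inferInstance : (M ⊓ center Q).Normal) inf_le_left with e | e
    · rw [e, mem_bot] at hzc
      exact Additive.toMul.injective (Subtype.ext hzc)
    · have hI0 : I ≤ ⊥ := by
        rw [hI, AddSubgroup.closure_le]
        rintro _ ⟨_, ⟨a, -, rfl⟩, v, rfl⟩
        refine AddSubgroup.mem_bot.2 (sub_eq_zero.2 (Additive.toMul.injective (Subtype.ext ?_)))
        rw [hsm, mem_center_iff.1 (e.ge (v.toMul : M).2).2 a, mul_inv_cancel_right]
      exact AddSubgroup.mem_bot.1 (hI0 hi)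
  have hprod : Nat.card I * Nat.card Jc ≤ Nat.card J := by
    rw [← Nat.card_prod]
    refine Nat.card_le_card_of_injective
      (fun p => (⟨(((p.1 : Additive M).toMul : M) : Q) * (p.2 : Q),
        mul_mem (hIJ _ p.1.2) (hJcJ p.2.2)⟩ : J)) fun p q e => ?_
    have e' : (((p.1 : Additive M).toMul : M) : Q) * (p.2 : Q) =
        (((q.1 : Additive M).toMul : M) : Q) * (q.2 : Q) := congrArg Subtype.val e
    have h1 : (((-(q.1 : Additive M) + p.1).toMul : M) : Q) = (q.2 : Q) * (p.2 : Q)⁻¹ := by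
      rw [toMul_add, toMul_neg, Subgroup.coe_mul, Subgroup.coe_inv, inv_mul_eq_iff_eq_mul,
        ← mul_assoc, ← e', mul_inv_cancel_right]
    have h2 := hIc _ (add_mem (neg_mem q.1.2) p.1.2) (by rw [h1]; exact mul_mem q.2.2 (inv_mem p.2.2))
    rw [neg_add_eq_zero] at h2
    refine Prod.ext (Subtype.ext h2.symm) (Subtype.ext ?_)
    rw [h2] at e'
    exact mul_left_cancel e'
  have hcard := card_map_mul_card_ker_inf f A
  rw [hker, inf_comm] at hcard
  calc Nat.card A ^ 2 * Nat.card Jc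
      = Nat.card (A.map f) ^ 2 * Nat.card Jc * Nat.card ↥(A ⊓ centralizer (M : Set Q)) ^ 2 := by
        rw [← hcard]; ring
    _ ≤ Nat.card J * Nat.card ↥(A ⊓ centralizer (M : Set Q)) ^ 2 :=
        Nat.mul_le_mul_right _ (le_trans (Nat.mul_le_mul_right _ hkey) hprod)

/-- **The series.** -/
theorem exists_series_commutator {L : Type u} [Group L] [Finite L] (hG : GoodX L)
    {P W1 W2 : Subgroup L} [P.Normal] (hP : IsPGroup 2 P) (hW2 : IsElementaryAbelian 2 W2)
    (hgen : P ⊔ W1 ⊔ W2 = ⊤) (hn : P ≤ normalizer (W2 : Set L)) (N : Subgroup L) (hNn : N.Normal)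
    (hN : N ≤ P) :
    ∃ C : Subgroup L, C.Normal ∧ (∀ c ∈ C, Odd (orderOf c) → ∀ x ∈ N, c * x * c⁻¹ = x) ∧
      Nat.card W2 ^ 2 * Nat.card ↥(N ⊓ W2 ⊓ centralizer (W1 : Set L)) ≤
        Nat.card ↥(N ⊓ W2) * Nat.card ↥(W2 ⊓ C) ^ 2 := by
  classical
  have : Fact (Nat.Prime 2) := ⟨Nat.prime_two⟩
  induction hm : Nat.card N using Nat.strongRecOn generalizing N with
  | ind m ih =>
  subst hm
  by_cases hN1 : N = ⊥
  · subst hN1
    refine ⟨⊤, inferInstance, fun c _ _ x hx => by simp [mem_bot.1 hx], ?_⟩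
    rw [bot_inf_eq, bot_inf_eq, card_bot, mul_one, one_mul, inf_top_eq]
  obtain ⟨N2, ⟨hN2n, hN2N⟩, hmax⟩ := Set.exists_max_image
    {K : Subgroup L | K.Normal ∧ K < N} (fun K => Nat.card K) (Set.toFinite _)
    ⟨⊥, inferInstance, bot_lt_iff_ne_bot.2 hN1⟩
  obtain ⟨C2, hC2n, hC2, hb2⟩ := ih _ (lt_of_le_of_ne (card_le_of_le hN2N.le)
    fun e => hN2N.ne (eq_of_le_of_card_ge hN2N.le e.ge)) N2 hN2n (hN2N.le.trans hN) rfl
  set π := QuotientGroup.mk' N2 with hπ
  have hπs : Function.Surjective π := QuotientGroup.mk'_surjective N2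
  have hπk : π.ker = N2 := QuotientGroup.ker_mk' N2
  set M := N.map π with hM
  have hMn : M.Normal := hNn.map π hπs
  have hPn : (P.map π).Normal := (inferInstance : P.Normal).map π hπs
  have hM1 : M ≠ ⊥ := by
    rw [hM, ne_eq, Subgroup.map_eq_bot_iff, hπk]
    exact hN2N.not_ge
  have hmin : ∀ K : Subgroup (L ⧸ N2), K.Normal → K ≤ M → K = ⊥ ∨ K = M := by
    intro K hK hKM
    have hle : K.comap π ≤ N := by
      refine (comap_mono hKM).trans ?_
      rw [hM, comap_map_eq, hπk, sup_eq_left.2 hN2N.le]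
    have hge : N2 ≤ K.comap π := hπk.ge.trans (MonoidHom.ker_le_comap π K)
    rcases eq_or_lt_of_le hle with e | e
    · exact Or.inr (by rw [hM, ← e, map_comap_eq_self_of_surjective hπs])
    · refine Or.inl ?_
      have h1 : N2 = K.comap π :=
        eq_of_le_of_card_ge hge (hmax (K.comap π) ⟨inferInstance, e⟩)
      rw [← map_comap_eq_self_of_surjective hπs K, ← h1, Subgroup.map_eq_bot_iff, hπk]
  set A := W2 ⊓ C2 with hA
  set C := C2 ⊓ (centralizer (M : Set (L ⧸ N2))).comap π with hC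
  have hlayer := card_sq_layer (hG.of_surjective π hπs) (P := P.map π) (W1 := W1.map π)
    (W2 := W2.map π) (M := M) (J := (N ⊓ W2).map π)
    (Jc := (N ⊓ W2 ⊓ centralizer (W1 : Set L)).map π) (A := A.map π) (hP.map π) (map_mono hN) hM1
    hmin (by rw [← Subgroup.map_sup, ← Subgroup.map_sup, hgen, map_top_of_surjective π hπs])
    (PLocal.isElementaryAbelian_map (PLocal.isElementaryAbelian_of_le hW2 inf_le_left) π)
    (map_mono inf_le_left) (map_mono inf_le_left)
    (by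
      rintro _ ⟨a, ha, rfl⟩ _ ⟨x, hx, rfl⟩
      refine ⟨a * x * a⁻¹ * x⁻¹, mem_inf.2 ⟨mul_mem (hNn.conj_mem x hx a) (inv_mem hx), ?_⟩, by simp⟩
      rw [mul_assoc a, mul_assoc a]
      exact mul_mem ha.1 (conj_mem_of_le_normalizer hn (hN hx) (inv_mem ha.1)))
    (by
      rintro _ ⟨z, hz, rfl⟩ _ ⟨w, hw, rfl⟩
      rw [← map_mul, ← map_mul, mem_centralizer_iff.1 hz.2 w hw])
    (by
      rintro _ ⟨z, hz, rfl⟩ _ ⟨w, hw, rfl⟩
      have h : w * z = z * w := congrArg Subtype.val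
        (hW2.1.is_comm.comm (⟨w, hw⟩ : W2) ⟨z, hz.1.2⟩)
      rw [← map_mul, ← map_mul, h])
  -- counting
  have e1 : Nat.card ((N ⊓ W2).map π) * Nat.card ↥(N2 ⊓ W2) = Nat.card ↥(N ⊓ W2) := by
    have h := card_map_mul_card_ker_inf π (N ⊓ W2)
    rwa [hπk, ← inf_assoc, inf_eq_left.2 hN2N.le] at h
  have e2 : Nat.card ((N ⊓ W2 ⊓ centralizer (W1 : Set L)).map π) *
      Nat.card ↥(N2 ⊓ W2 ⊓ centralizer (W1 : Set L)) =
      Nat.card ↥(N ⊓ W2 ⊓ centralizer (W1 : Set L)) := by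
    have h := card_map_mul_card_ker_inf π (N ⊓ W2 ⊓ centralizer (W1 : Set L))
    rwa [hπk, ← inf_assoc, ← inf_assoc, inf_eq_left.2 hN2N.le] at h
  have e3 : Nat.card A ^ 2 * Nat.card ↥(A.map π ⊓ centralizer (M : Set (L ⧸ N2))) ^ 2 =
      Nat.card (A.map π) ^ 2 * Nat.card ↥(W2 ⊓ C) ^ 2 := by
    have h1 := card_map_mul_card_ker_inf π A
    have h2 := card_map_mul_card_ker_inf π (W2 ⊓ C)
    have hk : π.ker ⊓ A = π.ker ⊓ (W2 ⊓ C) := by
      refine le_antisymm (fun x hx => ⟨hx.1, hx.2.1, hx.2.2, ?_⟩)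
        (inf_le_inf_left _ fun x hx => mem_inf.2 ⟨hx.1, hx.2.1⟩)
      show π x ∈ centralizer _
      rw [show π x = 1 from hx.1]
      exact one_mem _
    have hmap : (W2 ⊓ C).map π = A.map π ⊓ centralizer (M : Set (L ⧸ N2)) := by
      refine le_antisymm ?_ ?_
      · rintro _ ⟨x, hx, rfl⟩
        exact mem_inf.2 ⟨⟨x, ⟨hx.1, hx.2.1⟩, rfl⟩, hx.2.2⟩
      · rintro _ ⟨⟨x, hx, rfl⟩, hc⟩
        exact ⟨x, ⟨hx.1, hx.2, hc⟩, rfl⟩
    rw [hmap] at h2
    rw [← h1, ← h2, hk]
    ring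
  refine ⟨C, inferInstance, fun c hc hodd x hx => ?_, ?_⟩
  · set z := x⁻¹ * (c * x * c⁻¹) with hz
    have hzN2 : z ∈ N2 := by
      rw [← hπk, MonoidHom.mem_ker, hz, map_mul, map_mul, map_mul, map_inv, map_inv,
        ← mem_centralizer_iff.1 hc.2 (π x) ⟨x, hx, rfl⟩, mul_inv_cancel_right, inv_mul_cancel]
    have hcz : c * z * c⁻¹ = z := hC2 c hc.1 hodd z hzN2
    have hpow : ∀ j : ℕ, c ^ j * x * (c ^ j)⁻¹ = x * z ^ j := fun j => by
      induction j with
      | zero => simp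
      | succ j ihj =>
        have hcx : c * x * c⁻¹ = x * z := by rw [hz, mul_inv_cancel_left]
        calc c ^ (j + 1) * x * (c ^ (j + 1))⁻¹ = c * (c ^ j * x * (c ^ j)⁻¹) * c⁻¹ := by
              rw [pow_succ']; group
          _ = c * x * c⁻¹ * (c * z * c⁻¹) ^ j := by rw [ihj, conj_pow]; group
          _ = x * z ^ (j + 1) := by rw [hcx, hcz, pow_succ']; group
    have h3 := hpow (orderOf c)
    rw [pow_orderOf_eq_one, one_mul, inv_one, mul_one, eq_comm, mul_eq_left] at h3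
    obtain ⟨k, hk⟩ := hP ⟨z, hN (hN2N.le hzN2)⟩
    have hz1 : z = 1 := orderOf_eq_one_iff.1 (Nat.eq_one_of_dvd_coprimes
      (Nat.Coprime.pow_left k (Nat.coprime_two_left.2 hodd))
      (orderOf_dvd_of_pow_eq_one (congrArg Subtype.val hk)) (orderOf_dvd_of_pow_eq_one h3))
    rw [hz, inv_mul_eq_one] at hz1
    exact hz1.symm
  · have hApos : 0 < Nat.card (A.map π) ^ 2 := pow_pos Nat.card_pos 2
    refine Nat.le_of_mul_le_mul_left ?_ hApos
    calc Nat.card (A.map π) ^ 2 *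
        (Nat.card W2 ^ 2 * Nat.card ↥(N ⊓ W2 ⊓ centralizer (W1 : Set L)))
        = Nat.card (A.map π) ^ 2 *
            Nat.card ((N ⊓ W2 ⊓ centralizer (W1 : Set L)).map π) *
            (Nat.card W2 ^ 2 * Nat.card ↥(N2 ⊓ W2 ⊓ centralizer (W1 : Set L))) := by
          rw [← e2]; ring
      _ ≤ (Nat.card ((N ⊓ W2).map π) * Nat.card ↥(A.map π ⊓ centralizer (M : Set (L ⧸ N2))) ^ 2) *
            (Nat.card ↥(N2 ⊓ W2) * Nat.card A ^ 2) := Nat.mul_le_mul hlayer hb2
      _ = Nat.card (A.map π) ^ 2 * (Nat.card ↥(N ⊓ W2) * Nat.card ↥(W2 ⊓ C) ^ 2) := by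
          rw [mul_mul_mul_comm, e1, mul_comm (Nat.card ↥(A.map π ⊓ _) ^ 2), e3]
          ring

end CfsgLib.LocalEven.OffenderBound
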