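import Cfsg.Agent.LocalEven.OffenderBound.Factors
import Cfsg.Agent.LocalEven.OffenderBound.PSLCase
import Cfsg.Agent.AutSuzuki.Basic
import Cfsg.Agent.Suzuki.Stabilizer

/-!
The structure theorem for the configuration: modulo an odd normal subgroup `X` is a Suzuki group.
-/

set_option autoImplicit false

universe u

namespace CfsgLib.LocalEven.OffenderBound

open Cfsg Subgroup
open scoped MatrixGroups

/-- `X` is, modulo an odd normal subgroup, a Suzuki group. -/
def IsSzModOdd (X : Type u) [Group X] : Prop :=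
  ∃ (F : Type) (_ : Field F) (_ : Fintype F) (m : ℕ), Suzuki.SzField F m ∧
    ∃ f : X →* ↥(Cfsg.Sz F m), Function.Surjective f ∧ Odd (Nat.card f.ker)

namespace Config

variable {X : Type u} [Group X] [Finite X] {T A F0 : Subgroup X}

theorem conjNormal_injective {N : Subgroup X} [N.Normal] (hcen : centralizer (N : Set X) = ⊥) :
    Function.Injective (MulAut.conjNormal : X →* MulAut N) := by
  rw [← MonoidHom.ker_eq_bot_iff, eq_bot_iff, ← hcen]
  intro x hx
  rw [mem_centralizer_iff]
  intro m hm
  have := congrArg (fun α : MulAut N => (α ⟨m, hm⟩ : X)) (MonoidHom.mem_ker.1 hx)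
  simp only [MulAut.conjNormal_apply, MulAut.one_apply] at this
  rwa [mul_inv_eq_iff_eq_mul, eq_comm] at this

theorem of_no_odd (h : Config X T A F0)
    (hodd : ∀ W : Subgroup X, W.Normal → Odd (Nat.card W) → W = ⊥) : IsSzModOdd X := by
  obtain ⟨N, hN, hnc, hNA, hcen⟩ := h.exists_minimal_normal hodd
  have := hN.normal
  obtain ⟨L, hL⟩ := MinNormal.exists_isFactor hN
  have hLN := h.factor_eq hodd hN hnc hNA hcen hL
  have hsimple : IsSimpleGroup N := hLN ▸ hL.isSimpleGroup hN
  have hci := conjNormal_injective hcen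
  rcases h.good.sec N (ConjFunctor.involves_subgroup N) hsimple hnc with
    ⟨F, iF, iF', m, hm, hc, ⟨e0⟩⟩ | ⟨F, iF, iF', n, hF, ⟨e⟩⟩
  · have hS : Suzuki.SzField F m := ⟨hm, hc⟩
    let e : N ≃* ↥(Cfsg.Sz F m) := e0.trans (Suzuki.lieSzEquiv hS).symm
    have hout : Odd (Nat.card (Cfsg.Out N)) := by
      rw [AutSuzuki.card_out_congr e, AutSuzuki.card_out_sz hS]
      exact ⟨m, rfl⟩
    have hAN : A ≤ N := by
      intro a ha
      let q := QuotientGroup.mk' (Cfsg.Inn N) (MulAut.conjNormal a : MulAut N)
      have h2 : q ^ 2 = 1 := by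
        rw [← map_pow, ← map_pow, h.elab_A.2 a ha, map_one, map_one]
      have h1 : orderOf q = 1 := by
        rcases (Nat.dvd_prime Nat.prime_two).1 (orderOf_dvd_of_pow_eq_one h2) with e1 | e1
        · exact e1
        · exact absurd (hout.of_dvd_nat (e1 ▸ orderOf_dvd_natCard q)) (by decide)
      obtain ⟨k, hk⟩ := (QuotientGroup.eq_one_iff _).1 (orderOf_eq_one_iff.1 h1)
      have hak : (MulAut.conjNormal (k : X) : MulAut N) = MulAut.conjNormal a := by
        rw [← hk]
        ext p
        simp
      exact hci hak ▸ k.2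
    have htop : N = ⊤ := top_le_iff.1 (hNA.ge.trans (sup_le le_rfl hAN))
    let g : X ≃* ↥(Cfsg.Sz F m) :=
      ((topEquiv (G := X)).symm.trans (MulEquiv.subgroupCongr htop.symm)).trans e
    refine ⟨F, iF, iF', m, hS, g.toMonoidHom, g.surjective, ?_⟩
    rw [(MonoidHom.ker_eq_bot_iff _).2 g.injective, card_bot]
    exact odd_one
  · exfalso
    rcases Nat.eq_zero_or_pos n with rfl | hn
    · have h12 : Nat.card (⊤ : Subgroup PSL(2, F)) = 12 := by
        have := CfsgLib.Linear.card_PSL_two_odd (F := F) (by rw [hF]; decide)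
        rw [hF] at this
        rw [Subgroup.card_top]
        omega
      have := CfsgLib.DicksonPSL2.isSolvable_of_card_twelve (Or.inl h12)
      have hsol : Group.IsSolvable PSL(2, F) :=
        Group.isSolvable_of_surjective (f := (⊤ : Subgroup PSL(2, F)).subtype)
          fun x => ⟨⟨x, mem_top x⟩, rfl⟩
      exact not_isSolvable_of_simple_image hnc e.symm.toMonoidHom e.symm.surjective hsol
    refine h.psl_false hodd hn hF (N.subtype.comp e.symm.toMonoidHom)
      (N.subtype_injective.comp e.symm.injective)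
      ((MulAut.congr e).toMonoidHom.comp MulAut.conjNormal)
      ((MulAut.congr e).injective.comp hci) (fun x p => ?_) ?_
    · simp [MulAut.congr]
    · rw [MonoidHom.range_comp, MonoidHom.range_eq_top.2 e.symm.surjective,
        ← MonoidHom.range_eq_map, range_subtype, hNA]

end Config

/-- **Structure theorem.** In the configuration `X` is a Suzuki group modulo an odd normal
subgroup. -/
theorem Config.isSzModOdd {X : Type u} [Group X] [Finite X] {T A F0 : Subgroup X}
    (h : Config X T A F0) : IsSzModOdd X := by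
  suffices H : ∀ (n : ℕ) (X : Type u) [Group X] [Finite X] (T A F0 : Subgroup X),
      Nat.card X = n → Config X T A F0 → IsSzModOdd X from H _ X T A F0 rfl h
  intro n
  induction n using Nat.strongRecOn with
  | ind n ih =>
  intro X _ _ T A F0 hn h
  by_cases hodd : ∀ W : Subgroup X, W.Normal → Odd (Nat.card W) → W = ⊥
  · exact h.of_no_odd hodd
  push Not at hodd
  obtain ⟨W, hWn, hW, hW1⟩ := hodd
  obtain ⟨F1, h1⟩ := h.quotient hW
  have hcard : Nat.card X = Nat.card (X ⧸ W) * Nat.card W :=
    W.card_eq_card_quotient_mul_card_subgroup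
  have hlt : Nat.card (X ⧸ W) < n := by
    rw [← hn, hcard]
    exact lt_mul_of_one_lt_right Nat.card_pos ((Subgroup.one_lt_card_iff_ne_bot W).2 hW1)
  obtain ⟨F, iF, iF', m, hS, f, hf, hker⟩ := ih _ hlt (X ⧸ W) _ _ _ rfl h1
  refine ⟨F, iF, iF', m, hS, f.comp (QuotientGroup.mk' W),
    hf.comp (QuotientGroup.mk'_surjective W), ?_⟩
  have e1 := (f.comp (QuotientGroup.mk' W)).ker.card_eq_card_quotient_mul_card_subgroup
  rw [Nat.card_congr (QuotientGroup.quotientKerEquivOfSurjective (f.comp (QuotientGroup.mk' W))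
    (hf.comp (QuotientGroup.mk'_surjective W))).toEquiv] at e1
  have e2 := f.ker.card_eq_card_quotient_mul_card_subgroup
  rw [Nat.card_congr (QuotientGroup.quotientKerEquivOfSurjective f hf).toEquiv] at e2
  rw [e1, e2, mul_assoc] at hcard
  rw [Nat.eq_of_mul_eq_mul_left Nat.card_pos hcard]
  exact hker.mul hW

end CfsgLib.LocalEven.OffenderBound
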